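import Cfsg.Agent.Lib.JankoFour.TwoTen.Klein

/-!
# The linear map of the space under a permutation of the decomposable vectors
-/

set_option autoImplicit false
set_option maxRecDepth 20000

namespace CfsgLib.JankoFour.TwoTen.Klein

/-- The mask of a vector. -/
def enc (v : Fin 5 → ZMod 2) : ℕ :=
  (v 0).val + 2 * (v 1).val + 4 * (v 2).val + 8 * (v 3).val + 16 * (v 4).val

/-- The vector of a mask. -/
def decv (p : ℕ) : Fin 5 → ZMod 2 := fun i => if p.testBit i then 1 else 0

theorem enc_facts : ∀ v w : Fin 5 → ZMod 2, enc v < 32 ∧ decv (enc v) = v ∧ enc (v + w) = enc v ^^^ enc w := by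
  decide +kernel

theorem decv_facts : ∀ p < 32, enc (decv p) = p ∧ ∀ q < 32, decv (p ^^^ q) = decv p + decv q := by decide +kernel

variable {f g h : ℕ → ℕ}

/-- The additive map of the space. -/
noncomputable def lin (hf : IsAut f) : (Fin 5 → ZMod 2) →+ (Fin 5 → ZMod 2) :=
  AddMonoidHom.mk' (fun v => decv (pt f (enc v))) fun v w => by
    rw [(enc_facts v w).2.2, hf.pt_xor (enc_facts v v).1 (enc_facts w w).1,
      (decv_facts _ (hf.pt_lt (enc_facts v v).1)).2 _ (hf.pt_lt (enc_facts w w).1)]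

/-- The matrix of the map of the space. -/
noncomputable def mat (hf : IsAut f) : Matrix (Fin 5) (Fin 5) (ZMod 2) :=
  LinearMap.toMatrix' ((lin hf).toZModLinearMap 2)

theorem mat_mul (hf : IsAut f) (hg : IsAut g) (hh : IsAut h) (e : ∀ x < 1024, h x = f (g x)) :
    mat hh = mat hf * mat hg := by
  rw [mat, mat, mat, ← LinearMap.toMatrix'_comp]
  refine congrArg LinearMap.toMatrix' (LinearMap.ext fun v => ?_)
  show decv (pt h (enc v)) = decv (pt f (enc (decv (pt g (enc v)))))
  rw [pt_comp hf hg hh e (enc_facts v v).1, (decv_facts _ (hg.pt_lt (enc_facts v v).1)).1]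

theorem mat_one (hf : IsAut f) (e : ∀ x < 1024, f x = x) : mat hf = 1 := by
  rw [mat, ← LinearMap.toMatrix'_id]
  refine congrArg LinearMap.toMatrix' (LinearMap.ext fun v => ?_)
  show decv (pt f (enc v)) = v
  rw [pt_id hf e (enc_facts v v).1, (enc_facts v v).2.1]

theorem mat_eq_one (hf : IsAut f) (h : mat hf = 1) {x : ℕ} (hx : x < 1024) : f x = x := by
  refine hf.eq_id (fun p hp => ?_) hx
  have e : ((lin hf).toZModLinearMap 2) = LinearMap.id :=
    LinearMap.toMatrix'.injective (h.trans LinearMap.toMatrix'_id.symm)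
  have e' : decv (pt f (enc (decv p))) = decv p := LinearMap.congr_fun e (decv p)
  rw [(decv_facts p hp).1] at e'
  have := congrArg enc e'
  rwa [(decv_facts _ (hf.pt_lt hp)).1, (decv_facts p hp).1] at this

theorem det_of_mul_eq_one {M N : Matrix (Fin 5) (Fin 5) (ZMod 2)} (h : M * N = 1) : M.det = 1 := by
  have e := congrArg Matrix.det h
  rw [Matrix.det_mul, Matrix.det_one] at e
  have key : ∀ a b : ZMod 2, a * b = 1 → a = 1 := by decide
  exact key _ _ e

theorem card_GL5 : Nat.card (GL (Fin 5) (ZMod 2)) = 9999360 := by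
  haveI : Fact (Nat.Prime 2) := ⟨Nat.prime_two⟩
  have h := @Matrix.card_GL_field (ZMod 2) _ _ 5
  simp only [ZMod.card, Fin.prod_univ_five] at h
  rw [h]
  norm_num

theorem card_SL5 : Nat.card (Matrix.SpecialLinearGroup (Fin 5) (ZMod 2)) = 9999360 := by
  have hb : Function.Bijective
      (Matrix.SpecialLinearGroup.toGL : Matrix.SpecialLinearGroup (Fin 5) (ZMod 2) → GL (Fin 5) (ZMod 2)) := by
    refine ⟨Matrix.SpecialLinearGroup.toGL_injective, fun M => ?_⟩
    have hd : (M.val : Matrix (Fin 5) (Fin 5) (ZMod 2)).det = 1 := det_of_mul_eq_one M.val_inv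
    exact ⟨⟨M.val, hd⟩, Units.ext (by simp only [Matrix.SpecialLinearGroup.toGL, MonoidHom.coe_mk, OneHom.coe_mk])⟩
  rw [Nat.card_eq_of_bijective _ hb, card_GL5]

end CfsgLib.JankoFour.TwoTen.Klein
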