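import Cfsg.Agent.Lib.Golay.Octad
import Cfsg.Prelude.Def_Spor_Mathieu
import Cfsg.Prelude.Def_Transfer

/-!
# The elementary group of order `2^10` inside `2^11 : M24`: the vocabulary of the certificates

Vectors of the elementary group of order `2^11` are the even sets of points up to code words.
-/

set_option autoImplicit false

namespace CfsgLib.JankoFour.TwoTen

open Cfsg CfsgLib.Golay
open scoped symmDiff Pointwise

/-- Two sets differing by a code word. -/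
def Eqv (s t : Finset GolayPt) : Prop := s ∆ t ∈ supports (golayCode : Set (GolayPt → ZMod 2))

/-- The fixed octad. -/
def oct : Finset GolayPt := toSet baseOctad

/-- The vectors of the group of order 64: even subsets of the octad. -/
def InP (s : Finset GolayPt) : Prop := ∃ t ⊆ oct, 2 ∣ t.card ∧ Eqv s t

/-- The pointwise stabiliser of the octad. -/
def Wgrp : Subgroup (Equiv.Perm GolayPt) :=
  M24 ⊓ fixingSubgroup (Equiv.Perm GolayPt) (oct : Set GolayPt)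

/-- The commutator of a permutation and a vector. -/
def co (w : Equiv.Perm GolayPt) (v : Finset GolayPt) : Finset GolayPt := v ∆ (w • v)

/-- The vectors meeting the octad evenly. -/
def Evenly (v : Finset GolayPt) : Prop := 2 ∣ v.card ∧ 2 ∣ (v ∩ oct).card

/-- The vectors obtained as commutators of `w` with vectors meeting the octad evenly. -/
def IsLow (w : Equiv.Perm GolayPt) (t : Finset GolayPt) : Prop := ∃ v, Evenly v ∧ Eqv (co w v) t

/-- The facts about the code and the group wanted from certificates. -/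
structure Certs : Prop where
  /-- The fixed vectors of the stabiliser. -/
  fix_w : ∀ s : Finset GolayPt, 2 ∣ s.card → (∀ w ∈ Wgrp, Eqv (w • s) s) → InP s
  /-- The elementary groups with many fixed vectors. -/
  big : ∀ B : Subgroup (Equiv.Perm GolayPt), B ≤ M24 → IsElementaryAbelian 2 B →
    ∀ S : Finset (Finset GolayPt), (∀ s ∈ S, 2 ∣ s.card ∧ ∀ b ∈ B, Eqv (b • s) s) →
      (∀ s ∈ S, ∀ t ∈ S, Eqv s t → s = t) → 2 ^ 10 ≤ Nat.card ↥B * S.card →
      B = ⊥ ∨ ∃ o ∈ octads, B = M24 ⊓ fixingSubgroup (Equiv.Perm GolayPt) (o : Set GolayPt)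
  /-- The lifts of the stabiliser. -/
  lifts : ∀ c : Equiv.Perm GolayPt → Finset GolayPt, (∀ w ∈ Wgrp, 2 ∣ (c w).card) →
    (∀ w ∈ Wgrp, Eqv (w • c w) (c w)) →
    (∀ w ∈ Wgrp, ∀ w' ∈ Wgrp, Eqv (c w ∆ (w • c w')) (c w' ∆ (w' • c w))) →
    (∀ w ∈ Wgrp, ∀ w' ∈ Wgrp, InP (c w ∆ (w • c w') ∆ c (w * w'))) →
    ∃ u : Finset GolayPt, 2 ∣ u.card ∧ ∀ w ∈ Wgrp, InP (c w ∆ co w u)
  /-- A vector fixed by one involution of the stabiliser. -/
  fix_one : ∀ w ∈ Wgrp, w ≠ 1 → ∀ v : Finset GolayPt, 2 ∣ v.card → Eqv (w • v) v →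
    ∃ u : Finset GolayPt, 2 ∣ u.card ∧ InP (v ∆ co w u)
  /-- The normalising vectors. -/
  evenly : ∀ v : Finset GolayPt, 2 ∣ v.card → ((∀ w ∈ Wgrp, InP (co w v)) ↔ 2 ∣ (v ∩ oct).card)
  /-- The two orbits outside the group of order 64. -/
  trans : ∀ w ∈ Wgrp, w ≠ 1 → ∀ w' ∈ Wgrp, w' ≠ 1 → ∀ t ⊆ oct, 2 ∣ t.card → ∀ t' ⊆ oct, 2 ∣ t'.card →
    (IsLow w t ↔ IsLow w' t') →
    ∃ v, Evenly v ∧ ∃ g ∈ M24, g • oct = oct ∧ g * w * g⁻¹ = w' ∧ Eqv ((g • t) ∆ co w' v) t'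
  /-- Coordinates. -/
  coords : ∃ (w : Fin 4 → Equiv.Perm GolayPt) (u : Fin 4 → Finset GolayPt),
    (∀ i, w i ∈ Wgrp) ∧ (∀ i, Evenly (u i)) ∧
    (∀ x ∈ Wgrp, ∃ e : Fin 4 → Bool, x = (if e 0 then w 0 else 1) * (if e 1 then w 1 else 1) *
      (if e 2 then w 2 else 1) * (if e 3 then w 3 else 1)) ∧
    (∀ i j, Eqv (co (w i) (u j)) (co (w j) (u i))) ∧ (∀ i, Eqv (co (w i) (u i)) ∅) ∧
    (∀ v, Evenly v → ∃ e : Fin 4 → Bool, InP (v ∆ (if e 0 then u 0 else ∅) ∆ (if e 1 then u 1 else ∅) ∆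
      (if e 2 then u 2 else ∅) ∆ (if e 3 then u 3 else ∅))) ∧
    ∀ t ⊆ oct, 2 ∣ t.card → ∃ e : Fin 6 → Bool, Eqv t ((if e 0 then co (w 0) (u 1) else ∅) ∆
      (if e 1 then co (w 0) (u 2) else ∅) ∆ (if e 2 then co (w 0) (u 3) else ∅) ∆
      (if e 3 then co (w 1) (u 2) else ∅) ∆ (if e 4 then co (w 1) (u 3) else ∅) ∆
      (if e 5 then co (w 2) (u 3) else ∅))
  /-- Involutions with a fixed point. -/
  fixed_oct : ∀ g ∈ M24, g * g = 1 → (∃ p, g p = p) → ∃ o ∈ octads, ∀ x ∈ o, g x = x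

end CfsgLib.JankoFour.TwoTen
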