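import Cfsg.Agent.Lib.JankoFour.TwoTen.Word

/-!
# An elementary group of order `2^11` whose normaliser is `2^11 : M24`
-/

set_option autoImplicit false
set_option linter.unusedSectionVars false

namespace CfsgLib.JankoFour.TwoTen

open Cfsg CfsgLib.Golay
open scoped symmDiff Pointwise

variable {G : Type*} [Group G] [Finite G]

/-- The data and facts on the elementary group of order `2^11`. -/
structure Setup (z : G) (V : Subgroup G) (P : Finset GolayPt → G) (κ : Equiv.Perm GolayPt → G) : Prop where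
  ordz : orderOf z = 2
  zsylow : ∃ T : Sylow 2 G, (T : Subgroup G) ≤ Subgroup.centralizer ({z} : Set G)
  elem : IsElementaryAbelian 2 V
  card : Nat.card ↥V = 2 ^ 11
  self : ∀ k : G, (∀ a ∈ V, k * a = a * k) → k ∈ V
  uniq : ∀ B T : Subgroup G, IsElementaryAbelian 2 B → Nat.card ↥B = 2 ^ 11 → IsPGroup 2 ↥T → V ≤ T → B ≤ T → B = V
  conj : ∀ B : Subgroup G, IsElementaryAbelian 2 B → Nat.card ↥B = 2 ^ 11 →
    ∃ k : G, B = V.map (MulAut.conj k).toMonoidHom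
  mem : ∀ s, 2 ∣ s.card → P s ∈ V
  mul : ∀ s t, 2 ∣ s.card → 2 ∣ t.card → P (s ∆ t) = P s * P t
  eq_one : ∀ s, 2 ∣ s.card → (P s = 1 ↔ Eqv s ∅)
  surj : ∀ x ∈ V, ∃ s, 2 ∣ s.card ∧ P s = x
  kmem : ∀ k ∈ M24, κ k ∈ Subgroup.normalizer (V : Set G)
  kmul : ∀ k ∈ M24, ∀ k' ∈ M24, κ (k * k') = κ k * κ k'
  kinj : ∀ k ∈ M24, κ k ∈ V → k = 1
  act : ∀ k ∈ M24, ∀ s, 2 ∣ s.card → κ k * P s * (κ k)⁻¹ = P (k • s)
  split : ∀ g ∈ Subgroup.normalizer (V : Set G), ∃ s, 2 ∣ s.card ∧ ∃ k ∈ M24, g = P s * κ k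
  pairN : ∀ a b : GolayPt, a ≠ b → ¬ IsConj z (P {a, b})
  quadZ : ∀ t : Finset GolayPt, t.card = 4 → IsConj z (P t)
  cent : ∀ a b : GolayPt, a ≠ b → Subgroup.centralizer ({P {a, b}} : Set G) ≤ Subgroup.normalizer (V : Set G)
  outside : ∃ s, 2 ∣ s.card ∧ ∃ k ∈ M24, k ≠ 1 ∧ k * k = 1 ∧ (∃ p, k p = p) ∧ Eqv (k • s) s ∧
    (IsConj z (P s * κ k) ∨ ∃ a b : GolayPt, a ≠ b ∧ IsConj (P {a, b}) (P s * κ k))

namespace Setup

variable {z : G} {V : Subgroup G} {P : Finset GolayPt → G} {κ : Equiv.Perm GolayPt → G} (S : Setup z V P κ)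
include S

theorem P_empty : P ∅ = 1 := (S.eq_one ∅ (by simp)).2 (Eqv.refl ∅)

theorem comm {a b : G} (ha : a ∈ V) (hb : b ∈ V) : a * b = b * a :=
  congrArg Subtype.val (S.elem.1.is_comm.comm ⟨a, ha⟩ ⟨b, hb⟩)

theorem sq {a : G} (ha : a ∈ V) : a * a = 1 := by rw [← pow_two]; exact S.elem.2 a ha

theorem P_sq {s : Finset GolayPt} (hs : 2 ∣ s.card) : P s * P s = 1 := S.sq (S.mem s hs)

theorem P_inv {s : Finset GolayPt} (hs : 2 ∣ s.card) : (P s)⁻¹ = P s := inv_eq_of_mul_eq_one_left (S.P_sq hs)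

theorem P_eq_iff {s t : Finset GolayPt} (hs : 2 ∣ s.card) (ht : 2 ∣ t.card) : P s = P t ↔ Eqv s t := by
  rw [eqv_iff_sd, ← S.eq_one _ (two_dvd_sd hs ht), S.mul s t hs ht, mul_eq_one_iff_eq_inv, S.P_inv ht]

theorem κ_one : κ 1 = 1 := by
  have h := S.kmul 1 (one_mem _) 1 (one_mem _)
  rwa [one_mul, left_eq_mul] at h

theorem κ_inv {k : Equiv.Perm GolayPt} (hk : k ∈ M24) : κ k⁻¹ = (κ k)⁻¹ :=
  eq_inv_of_mul_eq_one_left (by rw [← S.kmul _ (inv_mem hk) _ hk, inv_mul_cancel, S.κ_one])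

theorem κ_P {k : Equiv.Perm GolayPt} (hk : k ∈ M24) {s : Finset GolayPt} (hs : 2 ∣ s.card) :
    κ k * P s = P (k • s) * κ k := by
  rw [← S.act k hk s hs, inv_mul_cancel_right]

/-- Multiplication in the normaliser. -/
theorem mul_el {s t : Finset GolayPt} {k l : Equiv.Perm GolayPt} (hs : 2 ∣ s.card) (ht : 2 ∣ t.card)
    (hk : k ∈ M24) (hl : l ∈ M24) :
    P s * κ k * (P t * κ l) = P (s ∆ (k • t)) * κ (k * l) := by
  rw [S.mul _ _ hs (two_dvd_smul ht), S.kmul k hk l hl, ← mul_assoc (P s * κ k), mul_assoc (P s) (κ k) (P t),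
    S.κ_P hk ht]
  simp only [mul_assoc]

theorem el_inj {s t : Finset GolayPt} {k l : Equiv.Perm GolayPt} (hs : 2 ∣ s.card) (ht : 2 ∣ t.card)
    (hk : k ∈ M24) (hl : l ∈ M24) (h : P s * κ k = P t * κ l) : k = l ∧ Eqv s t := by
  have h1 : κ (k * l⁻¹) = P s * P t := by
    rw [S.kmul k hk _ (inv_mem hl), S.κ_inv hl, mul_inv_eq_iff_eq_mul]
    calc κ k = P s * (P s * κ k) := by rw [← mul_assoc, S.P_sq hs, one_mul]
      _ = P s * P t * κ l := by rw [h, mul_assoc]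
  have hkl : k = l := mul_inv_eq_one.1 (S.kinj _ (mul_mem hk (inv_mem hl)) (h1 ▸ mul_mem (S.mem s hs) (S.mem t ht)))
  subst hkl
  exact ⟨rfl, (S.P_eq_iff hs ht).1 (mul_right_cancel h)⟩

theorem el_mem {s : Finset GolayPt} {k : Equiv.Perm GolayPt} (hs : 2 ∣ s.card) (hk : k ∈ M24) :
    P s * κ k ∈ Subgroup.normalizer (V : Set G) :=
  mul_mem (Subgroup.le_normalizer (S.mem s hs)) (S.kmem k hk)

theorem el_mem_V {s : Finset GolayPt} {k : Equiv.Perm GolayPt} (hs : 2 ∣ s.card) (hk : k ∈ M24) :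
    P s * κ k ∈ V ↔ k = 1 := by
  constructor
  · intro h
    exact S.kinj k hk ((V.mul_mem_cancel_left (S.mem s hs)).1 h)
  · rintro rfl
    rw [S.κ_one, mul_one]
    exact S.mem s hs

/-- Conjugation of an element of the normaliser by a vector. -/
theorem conj_P {u s : Finset GolayPt} {k : Equiv.Perm GolayPt} (hu : 2 ∣ u.card) (hs : 2 ∣ s.card) (hk : k ∈ M24) :
    P u * (P s * κ k) * (P u)⁻¹ = P (s ∆ co k u) * κ k := by
  have e1 : s ∆ co k u = u ∆ (s ∆ (k • u)) := by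
    ext x
    simp only [co, Finset.mem_symmDiff]
    tauto
  rw [S.P_inv hu, e1, S.mul _ _ hu (two_dvd_sd hs (two_dvd_smul hu)), S.mul _ _ hs (two_dvd_smul hu)]
  simp only [mul_assoc]
  rw [S.κ_P hk hu]

/-- Conjugation by an element of the complement. -/
theorem conj_κ {s : Finset GolayPt} {g k : Equiv.Perm GolayPt} (hs : 2 ∣ s.card) (hg : g ∈ M24) (hk : k ∈ M24) :
    κ g * (P s * κ k) * (κ g)⁻¹ = P (g • s) * κ (g * k * g⁻¹) := by
  rw [S.kmul _ (mul_mem hg hk) _ (inv_mem hg), S.kmul g hg k hk, S.κ_inv hg, ← mul_assoc (κ g),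
    S.κ_P hg hs]
  simp only [mul_assoc]

theorem el_sq_iff {s : Finset GolayPt} {k : Equiv.Perm GolayPt} (hs : 2 ∣ s.card) (hk : k ∈ M24) :
    P s * κ k * (P s * κ k) = 1 ↔ k * k = 1 ∧ Eqv (k • s) s := by
  rw [S.mul_el hs hs hk hk]
  constructor
  · intro h
    have h' : P (s ∆ (k • s)) * κ (k * k) = P ∅ * κ 1 := by rw [h, S.P_empty, S.κ_one, one_mul]
    obtain ⟨e, e'⟩ := S.el_inj (two_dvd_sd hs (two_dvd_smul hs)) (by simp) (mul_mem hk hk) (one_mem _) h'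
    exact ⟨e, (eqv_iff_sd.2 e').symm⟩
  · rintro ⟨e, e'⟩
    rw [e, S.κ_one, mul_one, S.eq_one _ (two_dvd_sd hs (two_dvd_smul hs))]
    exact eqv_iff_sd.1 e'.symm

theorem el_comm_iff {s t : Finset GolayPt} {k l : Equiv.Perm GolayPt} (hs : 2 ∣ s.card) (ht : 2 ∣ t.card)
    (hk : k ∈ M24) (hl : l ∈ M24) :
    P s * κ k * (P t * κ l) = P t * κ l * (P s * κ k) ↔
      k * l = l * k ∧ Eqv (s ∆ (k • t)) (t ∆ (l • s)) := by
  rw [S.mul_el hs ht hk hl, S.mul_el ht hs hl hk]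
  constructor
  · exact S.el_inj (two_dvd_sd hs (two_dvd_smul ht)) (two_dvd_sd ht (two_dvd_smul hs)) (mul_mem hk hl) (mul_mem hl hk)
  · rintro ⟨e, e'⟩
    rw [e, (S.P_eq_iff (two_dvd_sd hs (two_dvd_smul ht)) (two_dvd_sd ht (two_dvd_smul hs))).2 e']

/-- The projection of the normaliser on the Mathieu group. -/
theorem exists_proj : ∃ ψ : ↥(Subgroup.normalizer (V : Set G)) →* Equiv.Perm GolayPt,
    (∀ g, ψ g ∈ M24) ∧ (∀ g : ↥(Subgroup.normalizer (V : Set G)), ψ g = 1 ↔ (g : G) ∈ V) ∧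
    ∀ g : ↥(Subgroup.normalizer (V : Set G)), ∃ s, 2 ∣ s.card ∧ (g : G) = P s * κ (ψ g) := by
  choose sec hsec per hper hg using fun g : ↥(Subgroup.normalizer (V : Set G)) => S.split g g.2
  refine ⟨MonoidHom.mk' per fun a b => ?_, hper, fun g => ?_, fun g => ⟨sec g, hsec g, hg g⟩⟩
  · refine (S.el_inj (hsec (a * b)) (two_dvd_sd (hsec a) (two_dvd_smul (g := per a) (hsec b))) (hper (a * b)) (mul_mem (hper a) (hper b)) ?_).1
    rw [← hg, Subgroup.coe_mul, hg a, hg b, S.mul_el (hsec a) (hsec b) (hper a) (hper b)]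
  · show per g = 1 ↔ _
    rw [hg g, S.el_mem_V (hsec g) (hper g)]

end Setup

end CfsgLib.JankoFour.TwoTen
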