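import Cfsg.Agent.Lib.JankoFour.TwoTen.Certs
import Cfsg.Agent.Lib.JankoFour.TwoTen.Setup
import Cfsg.Agent.Lib.JankoFour.Invol
import Cfsg.Agent.Lib.JankoFour.Assembly
import Cfsg.Agent.Lib.JankoFour.Centraliser.Local
import Cfsg.Agent.Lib.JankoFour.ModelExists
import Cfsg.Agent.Lib.JankoFour.Split
import Cfsg.Agent.Lib.JankoFour.Rigid.SplitCert

/-!
# The setting of the `2^10` subgroups in a group of Janko-four type
-/

set_option autoImplicit false
set_option linter.unusedSectionVars false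
set_option linter.style.haveILetI false
set_option maxHeartbeats 1000000

namespace CfsgLib.JankoFour.TwoTen

open Subgroup QuadraticMap
open Cfsg (GolayPt octads supports golayCode)
open CfsgLib.JankoFour.Thompson (Ctx Ns Zs)
open CfsgLib.Golay CfsgLib.M24Cert
open scoped Pointwise symmDiff

variable {G : Type*} [Group G] [Finite G] {z : G}
  {Q : Subgroup (centralizer ({z} : Set G))} [Q.Normal] {V : Type*} [AddCommGroup V] [Module (ZMod 2) V]
  [DistribMulAction ((centralizer ({z} : Set G)) ⧸ Q) V] [Finite V] {q : QuadraticForm (ZMod 2) V} {π : ↥Q → V}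
  {n : (centralizer ({z} : Set G)) ⧸ Q} {M : Subgroup ((centralizer ({z} : Set G)) ⧸ Q)} {φ : ↥M →* ↥Cfsg.Spor.M22}
  {s : V} {A : Subgroup G} {Ab : Subgroup ((centralizer ({z} : Set G)) ⧸ Q)}
  {ψ : ↥(Subgroup.normalizer (A : Set G)) →* Equiv.Perm GolayPt} {Φ : Finset GolayPt → G}

theorem empty_eq_one (l : JankoFour.Lab z A ψ Φ) : Φ ∅ = 1 := by
  have h := l.mul ∅ ∅
  rw [symmDiff_self] at h
  exact left_eq_mul.1 h

theorem certs_of_sets (c : Ctx Q q π n M φ s A Ab) (l : JankoFour.Lab z A ψ Φ) : Certs := by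
  classical
  letI : CommGroup ↥A := { (inferInstance : Group ↥A) with
    mul_comm := fun a b => Subtype.ext (c.comm a.2 b.2) }
  let f : GolayPt → ↥A := fun p => ⟨Φ {p}, l.mem _⟩
  have hprod : ∀ t : Finset GolayPt, ((t.prod f : ↥A) : G) = Φ t := by
    intro t
    induction t using Finset.induction with
    | empty => rw [Finset.prod_empty, empty_eq_one l]; rfl
    | insert p t hp ih =>
      rw [Finset.prod_insert hp, Subgroup.coe_mul, ih,
        show insert p t = ({p} : Finset GolayPt) ∆ t by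
          rw [Disjoint.symmDiff_eq_sup (Finset.disjoint_singleton_left.2 hp), Finset.sup_eq_union,
            ← Finset.insert_eq],
        l.mul]
  refine certs_of_lab (f := f) ⟨fun x => Subtype.ext (c.sq x.2), c.card, fun w hw => ?_, fun x => ?_⟩
  · rw [← indW_support w, ev_indW]
    refine Subtype.ext ((hprod _).trans ((l.code _ (even_iff_card.1 ?_)).2 ⟨w, hw, rfl⟩))
    rw [indW_support]
    simpa [dotW] using code_self_orth hw one_mem_code
  · obtain ⟨t, h2, -, e⟩ := l.surj x x.2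
    exact ⟨indW t, even_iff_card.2 h2, Subtype.ext (by rw [ev_indW, hprod, e])⟩

theorem small_one (l : JankoFour.Lab z A ψ Φ) {t : Finset GolayPt} (h2 : 2 ∣ t.card) (h6 : t.card < 8)
    (h : Φ t = 1) : t = ∅ := by
  rcases supports_weight ((l.code t h2).1 h) with h' | h' | h' | h' | h'
  · exact Finset.card_eq_zero.1 h'
  all_goals omega

/-- Every member of the orbit of 276 is the value of a pair. -/
theorem duad_cover (c : Ctx Q q π n M φ s A Ab) (l : JankoFour.Lab z A ψ Φ) {a : G} (ha : a ∈ Ns z A) :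
    ∃ r : Finset GolayPt, r.card = 2 ∧ Φ r = a := by
  classical
  set D : Set G := Φ '' ((Finset.univ : Finset GolayPt).powersetCard 2 : Set (Finset GolayPt))
  have hinj : Set.InjOn Φ ((Finset.univ : Finset GolayPt).powersetCard 2 : Set (Finset GolayPt)) := by
    intro r hr r' hr' e
    rw [Finset.mem_coe, Finset.mem_powersetCard] at hr hr'
    have hc := JankoFour.symmDiff_card r r'
    exact symmDiff_eq_bot.1 (small_one l (t := r ∆ r') (by omega) (by omega) (by rw [l.mul, e, c.sq (l.mem r')]))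
  have hsub : D ⊆ Ns z A := by
    rintro _ ⟨r, hr, rfl⟩
    exact l.duad r (Finset.mem_powersetCard.1 hr).2
  have heq : D = Ns z A := Set.eq_of_subset_of_ncard_le hsub (by
    rw [c.Ns_counts.1, Set.ncard_image_of_injOn hinj, Set.ncard_coe_finset, Finset.card_powersetCard, Finset.card_univ,
      Fintype.card_congr ptEquiv, Fintype.card_fin]
    decide) (Set.toFinite _)
  obtain ⟨r, hr, e⟩ := heq.symm ▸ ha
  exact ⟨r, (Finset.mem_powersetCard.1 hr).2, e⟩

theorem exists_setup (m : Model z Q q π n M φ)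
    (hsplit : ∀ (s : V) (A : Subgroup G) (Ab : Subgroup ((centralizer ({z} : Set G)) ⧸ Q)), Ctx Q q π n M φ s A Ab →
      ∃ K : Subgroup G, K ≤ Subgroup.normalizer (A : Set G) ∧ K ⊓ A = ⊥ ∧ K ⊔ A = Subgroup.normalizer (A : Set G)) :
    Certs ∧ ∃ (A : Subgroup G) (P : Finset GolayPt → G) (κ : Equiv.Perm GolayPt → G), Setup z A P κ := by
  classical
  haveI := Fact.mk Nat.prime_two
  obtain ⟨s, A, Ab, c, -, hconj⟩ := Thompson.exists_conjugate m
  obtain ⟨ψ, Φ, l⟩ := JankoFour.exists_lab c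
  refine ⟨certs_of_sets c l, A, Φ, ?_⟩
  obtain ⟨K, hK, hKA, hKA'⟩ := hsplit s A Ab c
  have hAN : A ≤ (Subgroup.normalizer (A : Set G)) := Subgroup.le_normalizer
  let χ : ↥K →* ↥Cfsg.M24 := (ψ.comp (Subgroup.inclusion hK)).codRestrict Cfsg.M24
    fun x => l.range.le (MonoidHom.mem_range.2 ⟨Subgroup.inclusion hK x, rfl⟩)
  have hχinj : Function.Injective χ := by
    rw [← MonoidHom.ker_eq_bot_iff, Subgroup.eq_bot_iff_forall]
    intro x hx
    have h1 : ψ (Subgroup.inclusion hK x) = 1 := congrArg Subtype.val (MonoidHom.mem_ker.1 hx)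
    have h2 : (x : G) ∈ K ⊓ A := ⟨x.2, (l.ker _).1 h1⟩
    rw [hKA, Subgroup.mem_bot] at h2
    exact Subtype.ext h2
  have hdec : ∀ g ∈ (Subgroup.normalizer (A : Set G)), ∃ k ∈ K, ∃ a ∈ A, g = k * a := by
    intro g hg
    have h : g ∈ ((K ⊔ A : Subgroup G) : Set G) := hKA'.symm ▸ hg
    rw [Subgroup.coe_mul_of_left_le_normalizer_right K A hK] at h
    obtain ⟨k, hk, a, ha, e⟩ := h
    exact ⟨k, hk, a, ha, e.symm⟩
  have hχ : Function.Surjective χ := by
    rintro ⟨g, hg⟩
    obtain ⟨x, rfl⟩ := l.range.ge hg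
    obtain ⟨k, hk, a, ha, e⟩ := hdec x x.2
    refine ⟨⟨k, hk⟩, Subtype.ext ?_⟩
    show ψ (Subgroup.inclusion hK ⟨k, hk⟩) = ψ x
    rw [show x = Subgroup.inclusion hK ⟨k, hk⟩ * ⟨a, hAN ha⟩ from Subtype.ext e, map_mul, (l.ker ⟨a, hAN ha⟩).2 ha,
      mul_one]
  let E : ↥K ≃* ↥Cfsg.M24 := MulEquiv.ofBijective χ ⟨hχinj, hχ⟩
  let κ : Equiv.Perm GolayPt → G := fun k => if h : k ∈ Cfsg.M24 then ((E.symm ⟨k, h⟩ : ↥K) : G) else 1
  have hκ : ∀ (k : Equiv.Perm GolayPt) (h : k ∈ Cfsg.M24), κ k = ((E.symm ⟨k, h⟩ : ↥K) : G) := fun k h => dif_pos h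
  have hκN : ∀ (k : Equiv.Perm GolayPt) (h : k ∈ Cfsg.M24),
      ∃ hm : κ k ∈ (Subgroup.normalizer (A : Set G)), ψ ⟨κ k, hm⟩ = k ∧ κ k ∈ K := fun k h => by
    refine ⟨hκ k h ▸ hK (E.symm ⟨k, h⟩).2, ?_, hκ k h ▸ (E.symm ⟨k, h⟩).2⟩
    have h1 : ((χ (E.symm ⟨k, h⟩) : ↥Cfsg.M24) : Equiv.Perm GolayPt) = k :=
      congrArg Subtype.val (E.apply_symm_apply ⟨k, h⟩)
    refine Eq.trans ?_ h1
    exact congrArg ψ (Subtype.ext (hκ k h))
  have hκmul : ∀ k ∈ Cfsg.M24, ∀ k' ∈ Cfsg.M24, κ (k * k') = κ k * κ k' := fun k hk k' hk' => by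
    rw [hκ _ (mul_mem hk hk'), hκ k hk, hκ k' hk', ← Subgroup.coe_mul, ← map_mul]
    rfl
  have hκinj : ∀ k ∈ Cfsg.M24, κ k ∈ A → k = 1 := fun k hk hA => by
    obtain ⟨hm, e, -⟩ := hκN k hk
    rw [← e]
    exact (l.ker _).2 hA
  refine ⟨κ, ⟨c.mdl.ordz, ?_, c.elem, c.card, fun k hk => c.cent hk, ?_, ?_, fun t _ => l.mem t,
    fun a b _ _ => l.mul a b, fun t ht => ?_, fun x hx => ?_, fun k hk => (hκN k hk).1, hκmul, hκinj, ?_, ?_, ?_, ?_,
    ?_, ?_⟩⟩
  · -- a Sylow subgroup inside the centraliser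
    set H := (Subgroup.normalizer (A : Set G)) ⊓ centralizer ({z} : Set G)
    obtain ⟨T, hT⟩ := (IsPGroup.of_card c.card).exists_le_sylow
    have hTN : (T : Subgroup G) ≤ (Subgroup.normalizer (A : Set G)) := by
      intro g hg
      have e : A.map (MulAut.conj g).toMonoidHom = A := by
        refine c.uniq _ _ (LargeFischer.Thompson.elem_map' _ c.elem) ?_ T.2 hT ?_
        · rw [Subgroup.card_map_of_injective (MulEquiv.injective _), c.card]
        · rintro _ ⟨a, ha, rfl⟩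
          exact mul_mem (mul_mem hg (hT ha)) (inv_mem hg)
      refine c.mem_normalizer fun a ha => ?_
      rw [← e]
      exact ⟨a, ha, rfl⟩
    obtain ⟨S⟩ := (inferInstance : Nonempty (Sylow 2 ↥H))
    obtain ⟨R, hR⟩ := (S.2.map H.subtype).exists_le_sylow
    refine ⟨R, fun g hg => ?_⟩
    have hNH : Nat.card ↥(Subgroup.normalizer (A : Set G)) = 1771 * Nat.card ↥H := by rw [c.NH_card, ← c.orbit_stab, c.Zs_facts.1]
    have hle : Nat.card ↥(R : Subgroup G) ≤ Nat.card ↥((S : Subgroup ↥H).map H.subtype) := by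
      refine le_of_eq ?_
      rw [Subgroup.card_map_of_injective H.subtype_injective]
      have hd : Nat.card ↥(R : Subgroup G) ∣ Nat.card ↥H := by
        have h1 : Nat.card ↥(R : Subgroup G) ∣ 1771 * Nat.card ↥H := by
          rw [← hNH, Nat.card_congr (R.equiv T).toEquiv]
          exact Subgroup.card_dvd_of_le hTN
        exact (Nat.Coprime.dvd_of_dvd_mul_left (by
          obtain ⟨k, hk⟩ := IsPGroup.iff_card.1 R.2
          rw [hk]
          exact Nat.Coprime.pow_left k (by norm_num)) h1)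
      have hd' : Nat.card ↥(S : Subgroup ↥H) ∣ Nat.card ↥(R : Subgroup G) := by
        rw [← Subgroup.card_map_of_injective H.subtype_injective]
        exact Subgroup.card_dvd_of_le hR
      obtain ⟨k, hk⟩ := IsPGroup.iff_card.1 R.2
      refine Nat.dvd_antisymm ?_ hd'
      rw [hk] at hd ⊢
      exact S.pow_dvd_card_of_pow_dvd_card hd
    have := Subgroup.eq_of_le_of_card_ge hR hle
    rw [← this] at hg
    obtain ⟨x, -, rfl⟩ := hg
    exact x.2.2
  · exact fun B T hB h11 hT hAT hBT => c.uniq B T hB h11.ge hT hAT hBT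
  · exact hconj
  · rw [l.code t ht, eqv_empty_iff]
  · obtain ⟨t, h2, -, e⟩ := l.surj x hx
    exact ⟨t, h2, e⟩
  · intro k hk t ht
    obtain ⟨hm, e, -⟩ := hκN k hk
    have := l.conj ⟨κ k, hm⟩ t ht
    rwa [e] at this
  · intro g hg
    have hk : ψ ⟨g, hg⟩ ∈ Cfsg.M24 := l.range.le ⟨_, rfl⟩
    obtain ⟨hm, e, -⟩ := hκN _ hk
    have ha : g * (κ (ψ ⟨g, hg⟩))⁻¹ ∈ A := (l.ker (⟨g, hg⟩ * (⟨_, hm⟩ : ↥(Subgroup.normalizer (A : Set G)))⁻¹)).1 (by
      rw [map_mul, map_inv, e, mul_inv_cancel])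
    obtain ⟨t, h2, -, et⟩ := l.surj _ ha
    exact ⟨t, h2, _, hk, by rw [et, inv_mul_cancel_right]⟩
  · exact fun a b hab => (l.duad _ (Finset.card_pair hab)).2.2
  · intro t ht
    by_contra hn
    by_cases h1 : Φ t = 1
    · have := small_one l (t := t) (by omega) (by omega) h1
      rw [this, Finset.card_empty] at ht
      omega
    obtain ⟨r, hr, e⟩ := duad_cover c l (a := Φ t) ⟨l.mem t, h1, hn⟩
    have hc := JankoFour.symmDiff_card t r
    have h0 := small_one l (t := t ∆ r) (by omega) (by omega) (by rw [l.mul, e, c.sq (l.mem t)])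
    rw [symmDiff_eq_bot.1 h0, hr] at ht
    omega
  · intro a b hab
    exact c.centralizer_pair_le (l.duad _ (Finset.card_pair hab))
  · -- an involution of the complement with fixed points
    obtain ⟨-, -, -, -, hU, -⟩ := certs_ok
    have hk : pL elU.L ∈ Cfsg.M24 := GenT.mem_M24 hU
    obtain ⟨hord, hfix⟩ : orderOf (pL elU.L) = 2 ∧ (Finset.univ.filter fun p => pL elU.L p = p).card = 8 :=
      ⟨inv_facts.2.1, by rw [fixN_card hU, rep_facts.2.1]⟩
    set u := pL elU.L with hu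
    have hu2 : u * u = 1 := by
      rw [← pow_two, ← hord]
      exact pow_orderOf_eq_one u
    have hu1 : u ≠ 1 := fun e => by rw [e, orderOf_one] at hord; omega
    obtain ⟨p, hp⟩ := Finset.card_pos.1 (show 0 < (Finset.univ.filter fun p => u p = p).card by rw [hfix]; norm_num)
    refine ⟨∅, by simp, u, hk, hu1, hu2, ⟨p, (Finset.mem_filter.1 hp).2⟩, ?_, ?_⟩
    · rw [Finset.smul_finset_empty]
      exact Eqv.refl ∅
    · rw [empty_eq_one l, one_mul]
      by_cases hz : IsConj z (κ u)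
      · exact .inl hz
      right
      have hb : orderOf (κ u) = 2 := by
        refine orderOf_eq_prime ?_ fun e => hu1 (hκinj u hk (e ▸ one_mem A))
        rw [pow_two, ← hκmul u hk u hk, hu2, hκ 1 (one_mem _)]
        exact congrArg Subtype.val (map_one E.symm)
      obtain ⟨g, hg⟩ := exists_conj_into c hK hKA hKA' hb hz
      have hne : g * κ u * g⁻¹ ≠ 1 := fun e => by
        rw [conj_eq_one_iff.1 e, orderOf_one] at hb
        omega
      obtain ⟨r, hr, e⟩ := duad_cover c l (a := g * κ u * g⁻¹)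
        ⟨hg, hne, fun h => hz (h.trans (isConj_iff.2 ⟨g, rfl⟩).symm)⟩
      obtain ⟨a, b, hab, rfl⟩ := Finset.card_eq_two.1 hr
      exact ⟨a, b, hab, e ▸ (isConj_iff.2 ⟨g, rfl⟩ : IsConj (κ u) _).symm⟩

/-- The normaliser of the elementary group of order `2^11` splits in every configuration. -/
theorem normaliser_split (c : Ctx Q q π n M φ s A Ab) :
    ∃ K : Subgroup G, K ≤ Subgroup.normalizer (A : Set G) ∧ K ⊓ A = ⊥ ∧ K ⊔ A = Subgroup.normalizer (A : Set G) :=
  exists_complement c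
    (c.oth.core.exists_split c.mdl.facts c.oth.cls.ne c.oth.cls.sing c.oth.cls.card c.oth.hex)

omit [Finite G] in
/-- The setting of a group of Janko-four type. -/
theorem exists_setup_of_type [Finite G] [IsSimpleGroup G] (hJ : Cfsg.IsOfJankoFourType G) :
    Certs ∧ ∃ (z : G) (A : Subgroup G) (P : Finset GolayPt → G) (κ : Equiv.Perm GolayPt → G), Setup z A P κ := by
  obtain ⟨z, P, h⟩ := hJ
  obtain ⟨ι, hι, q, inst, π, n, M, φ, m, -⟩ := JankoFour.exists_model h
  obtain ⟨hC, hS⟩ := exists_setup m fun s A Ab c => normaliser_split c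
  exact ⟨hC, z, hS⟩

end CfsgLib.JankoFour.TwoTen
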