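import Cfsg.Agent.Lib.JankoFour.TwoTen.Wedge
import Cfsg.Agent.Lib.JankoFour.TwoTen.Linear
import Cfsg.Agent.Lib.Solvable.Gaschutz

/-!
# The normaliser of the group of order `2^10`: a split extension by `L₅(2)`
-/

set_option autoImplicit false
set_option linter.unusedSectionVars false

namespace CfsgLib.JankoFour.TwoTen

open Cfsg CfsgLib.Golay
open scoped symmDiff Pointwise

variable {G : Type*} [Group G] [Finite G] {z : G} {V : Subgroup G} {P : Finset GolayPt → G}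
  {κ : Equiv.Perm GolayPt → G}

theorem exists_pair_quad : ∃ p ∈ oct, ∃ q ∈ oct, p ≠ q ∧ ∃ Q : Finset GolayPt, Q ⊆ oct ∧ Q.card = 4 := by
  obtain ⟨p, hp, q, hq, hpq⟩ := Finset.one_lt_card.1 (show 1 < oct.card by rw [oct_card]; norm_num)
  obtain ⟨Q, hQ, hQ4⟩ := Finset.exists_subset_card_eq (show 4 ≤ oct.card by rw [oct_card]; norm_num)
  exact ⟨p, hp, q, hq, hpq, Q, hQ, hQ4⟩

/-- The vector of the coboundary of an outside point. -/
def cob (x : GolayPt) (g : Equiv.Perm GolayPt) : Finset GolayPt := ({x} : Finset GolayPt) ∆ {g x}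

theorem cob_even (x : GolayPt) (g : Equiv.Perm GolayPt) : 2 ∣ (cob x g).card := by
  by_cases h : g x = x
  · simp [cob, h]
  · rw [cob, show ({x} : Finset GolayPt) ∆ {g x} = {x, g x} by
      ext y
      simp only [Finset.mem_symmDiff, Finset.mem_singleton, Finset.mem_insert]
      constructor
      · rintro (⟨rfl, -⟩ | ⟨rfl, -⟩) <;> simp
      · rintro (rfl | rfl)
        · exact .inl ⟨rfl, fun e => h e.symm⟩
        · exact .inr ⟨rfl, h⟩, Finset.card_pair (fun e => h e.symm)]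

namespace Setup

variable (S : Setup z V P κ)
include S

/-- No proper invariant subgroup. -/
theorem irreducible (hC : Certs) (W : Subgroup G) (hW : W ≤ S.A)
    (hn : Subgroup.normalizer (S.A : Set G) ≤ Subgroup.normalizer (W : Set G)) : W = ⊥ ∨ W = S.A := by
  obtain ⟨p, hp, q, hq, hpq, Q, hQ, hQ4⟩ := exists_pair_quad
  obtain ⟨-, hb, ha, hu, -⟩ := S.orbits hC hp hq hpq hQ hQ4
  set Ob := orbN S.A (P {p, q})
  set Oa := orbN S.A (P Q)
  have hmove : ∀ a x y, x ∈ orbN S.A a → y ∈ orbN S.A a → x ∈ W → y ∈ W := by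
    rintro a _ _ ⟨n, hn', rfl⟩ ⟨n', hn'', rfl⟩ hx
    have h1 := (Subgroup.mem_normalizer_iff.1 (hn (mul_mem hn'' (inv_mem hn'))) _).1 hx
    simpa [mul_assoc] using h1
  by_cases h1 : W = ⊥
  · exact .inl h1
  right
  obtain ⟨x, hxW, hx1⟩ : ∃ x ∈ W, x ≠ 1 := by
    by_contra hc
    exact h1 ((Subgroup.eq_bot_iff_forall W).2 fun x hx => by_contra fun hx1 => hc ⟨x, hx, hx1⟩)
  have hWsub : ∀ y ∈ W, y ≠ 1 → y ∈ Ob ∪ Oa := fun y hy hy1 => hu ▸ ⟨hW hy, hy1⟩
  have hcard : Nat.card ↥W ∣ 2 ^ 10 := S.A_card ▸ Subgroup.card_dvd_of_le hW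
  have one : ∀ (O : Set G) (n : ℕ), O.ncard = n → (∀ y ∈ O, y ∈ W ∧ y ≠ 1) → (∀ y ∈ W, y ≠ 1 → y ∈ O) →
      Nat.card ↥W = n + 1 := by
    intro O n hn' h2 h3
    have e : (W : Set G) = insert 1 O := Set.ext fun y =>
      ⟨fun hy => (em (y = 1)).imp_right (h3 y hy), fun hy => hy.elim (fun e => e ▸ one_mem W) fun hy' => (h2 y hy').1⟩
    rw [← SetLike.coe_sort_coe, Nat.card_coe_set_eq, e, Set.ncard_insert_of_notMem (fun h => (h2 1 h).2 rfl)
      (Set.toFinite _), hn']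
  have hne : ∀ y ∈ Ob ∪ Oa, y ∈ S.A ∧ y ≠ 1 := fun y hy => by rw [hu] at hy; exact hy
  by_cases hWb : ∃ y ∈ W, y ∈ Ob
  · by_cases hWa : ∃ y ∈ W, y ∈ Oa
    · refine le_antisymm hW fun y hy => ?_
      by_cases hy1 : y = 1
      · exact hy1 ▸ one_mem W
      obtain ⟨b, hb', hb''⟩ := hWb
      obtain ⟨a, ha', ha''⟩ := hWa
      rcases (hu.symm ▸ (⟨hy, hy1⟩ : y ∈ S.A ∧ y ≠ 1) : y ∈ Ob ∪ Oa) with h | h
      · exact hmove _ b y hb'' h hb'
      · exact hmove _ a y ha'' h ha'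
    · exfalso
      obtain ⟨b, hb', hb''⟩ := hWb
      have := one Ob 868 hb (fun y hy => ⟨hmove _ b y hb'' hy hb', (hne y (.inl hy)).2⟩)
        fun y hy hy1 => (hWsub y hy hy1).resolve_right fun h => hWa ⟨y, hy, h⟩
      rw [this] at hcard
      norm_num at hcard
  · exfalso
    have hxa : x ∈ Oa := (hWsub x hxW hx1).resolve_left fun h => hWb ⟨x, hxW, h⟩
    have := one Oa 155 ha (fun y hy => ⟨hmove _ x y hxa hy hxW, (hne y (.inr hy)).2⟩)
      fun y hy hy1 => (hWsub y hy hy1).resolve_left fun h => hWb ⟨y, hy, h⟩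
    rw [this] at hcard
    norm_num at hcard

/-- The homomorphism onto the linear group. -/
theorem exists_hom (hC : Certs) : ∃ φ : ↥(Subgroup.normalizer (S.A : Set G)) →*
    Matrix.SpecialLinearGroup (Fin 5) (ZMod 2), ∀ n, φ n = 1 → (n : G) ∈ S.A := by
  classical
  obtain ⟨p, hp, q, hq, hpq, Q, hQ, hQ4⟩ := exists_pair_quad
  obtain ⟨ψ, hxor, hmem, hsurj, hinj, hdec⟩ := S.exists_psi hC hp hq hpq hQ hQ4
  choose! bk hbk hbk' using hsurj
  let N := Subgroup.normalizer (S.A : Set G)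
  let F : ↥N → ℕ → ℕ := fun n x => bk ((n : G) * ψ x * (n : G)⁻¹)
  have hin : ∀ (n : ↥N) x, (n : G) * ψ x * (n : G)⁻¹ ∈ S.A := fun n x => S.conj_A_mem n.2 (hmem x)
  have hF : ∀ n x, ψ (F n x) = (n : G) * ψ x * (n : G)⁻¹ := fun n x => hbk' _ (hin n x)
  have hlt : ∀ n x, F n x < 1024 := fun n x => hbk _ (hin n x)
  have hx : ∀ x y, x < 1024 → y < 1024 → x ^^^ y < 1024 := fun x y h h' => Nat.xor_lt_two_pow (n := 10) h h'
  have hA : ∀ n, Klein.IsAut (F n) := fun n =>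
    { lt := fun x _ => hlt n x
      xor := fun x _ y _ => hinj _ (hlt _ _) _ (hx _ _ (hlt _ _) (hlt _ _)) (by rw [hF, hxor, hxor, hF, hF]; group)
      inj := fun x hx' y hy' e => hinj x hx' y hy' (by
        have e' := congrArg ψ e
        rw [hF, hF] at e'
        exact mul_left_cancel (mul_right_cancel e'))
      dec := fun x hx' => by
        rw [← hdec _ (hlt n x), hF]
        obtain ⟨m, hm, e⟩ := (hdec x (Klein.dec_lt hx')).2 hx'
        exact ⟨n * m, mul_mem n.2 hm, by rw [← e]; group⟩ }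
  have hmul : ∀ a b x, x < 1024 → F (a * b) x = F a (F b x) := fun a b x _ => hinj _ (hlt _ _) _ (hlt _ _) (by
    rw [hF, hF, hF, Subgroup.coe_mul]; group)
  have hone : ∀ x < 1024, F 1 x = x := fun x hx' => hinj _ (hlt _ _) x hx' (by rw [hF]; simp)
  have hdet : ∀ n, (Klein.mat (hA n)).det = 1 := fun n => by
    refine Klein.det_of_mul_eq_one (N := Klein.mat (hA n⁻¹)) ?_
    rw [← Klein.mat_mul (hA n) (hA n⁻¹) (hA (n * n⁻¹)) (hmul n n⁻¹),
      Klein.mat_one (hA (n * n⁻¹)) fun x hx' => by rw [mul_inv_cancel]; exact hone x hx']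
  refine ⟨MonoidHom.mk' (fun n => ⟨Klein.mat (hA n), hdet n⟩) fun a b => Subtype.ext
    (Klein.mat_mul (hA a) (hA b) (hA (a * b)) (hmul a b)), fun n hn => ?_⟩
  have e : Klein.mat (hA n) = 1 := congrArg Subtype.val hn
  refine (S.A_cent hC).le (Subgroup.mem_centralizer_iff.2 fun a ha => ?_)
  rw [← hbk' a ha]
  have := hF n (bk a)
  rw [Klein.mat_eq_one (hA n) e (hbk a ha)] at this
  exact eq_mul_inv_iff_mul_eq.1 this

/-- The normaliser splits. -/
theorem exists_complement (hC : Certs) : ∃ B : Subgroup G, B ≤ Subgroup.normalizer (S.A : Set G) ∧ B ⊓ S.A = ⊥ ∧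
    B ⊔ S.A = Subgroup.normalizer (S.A : Set G) ∧ Nat.card ↥B = 9999360 := by
  classical
  obtain ⟨p, hp, q, hq, hpq, Q, hQ, hQ4⟩ := exists_pair_quad
  obtain ⟨hNcard, -, -, -, -⟩ := S.orbits hC hp hq hpq hQ hQ4
  obtain ⟨x₀, hx₀⟩ := Finset.card_pos.1 (show 0 < octᶜ.card by
    rw [Finset.card_compl, oct_card]; decide +kernel)
  rw [Finset.mem_compl] at hx₀
  set N := Subgroup.normalizer (S.A : Set G) with hN
  have hev : ∀ g ∈ M24Cert.octStab oct, Evenly (cob x₀ g) := fun g hg => by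
    refine ⟨cob_even x₀ g, ?_⟩
    have hgx : g x₀ ∉ oct := fun h => hx₀ ((M24Cert.octStab_apply hg x₀).1 h)
    rw [show cob x₀ g ∩ oct = ∅ by
      refine Finset.eq_empty_of_forall_notMem fun y hy => ?_
      simp only [cob, Finset.mem_inter, Finset.mem_symmDiff, Finset.mem_singleton] at hy
      obtain ⟨(⟨rfl, -⟩ | ⟨rfl, -⟩), h⟩ := hy
      exacts [hx₀ h, hgx h]]
    simp
  let ρ : ↥(M24Cert.octStab oct) →* ↥N := MonoidHom.mk'
    (fun g => ⟨P (cob x₀ g.1) * κ g.1, (S.mem_stab hC (cob_even _ _) (M24Cert.mem_octStab.1 g.2).1).2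
      ⟨(M24Cert.mem_octStab.1 g.2).2, hev _ g.2⟩⟩)
    fun a b => Subtype.ext (by
      show P (cob x₀ (a.1 * b.1)) * κ (a.1 * b.1) = P (cob x₀ a.1) * κ a.1 * (P (cob x₀ b.1) * κ b.1)
      rw [S.mul_el (cob_even _ _) (cob_even _ _) (M24Cert.mem_octStab.1 a.2).1 (M24Cert.mem_octStab.1 b.2).1]
      congr 2
      rw [cob, cob, cob, Finset.smul_finset_symmDiff, Finset.smul_finset_singleton, Finset.smul_finset_singleton,
        Equiv.Perm.smul_def, Equiv.Perm.smul_def, sd_mid, Equiv.Perm.mul_apply])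
  have hρ : Function.Injective ρ := fun a b e => Subtype.ext
    (S.el_inj (cob_even _ _) (cob_even _ _) (M24Cert.mem_octStab.1 a.2).1 (M24Cert.mem_octStab.1 b.2).1
      (congrArg Subtype.val e)).1
  set K := S.A.subgroupOf N with hK
  set U := (N ⊓ Subgroup.normalizer (V : Set G)).subgroupOf N with hU
  have hAN : S.A ≤ N := Subgroup.le_normalizer
  haveI : K.Normal := Subgroup.normal_subgroupOf_iff_le_normalizer hAN |>.2 le_rfl
  have hKcard : Nat.card ↥K = 2 ^ 10 := (Nat.card_congr (Subgroup.subgroupOfEquivOfLe hAN).toEquiv).trans S.A_card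
  have hUcard : Nat.card ↥U = 2 ^ 14 * 20160 :=
    (Nat.card_congr (Subgroup.subgroupOfEquivOfLe inf_le_left).toEquiv).trans (S.stab_card hC)
  have hUi : U.index = 31 := by
    have h := U.card_mul_index
    rw [hUcard, hNcard] at h
    have : 0 < 2 ^ 14 * 20160 := by norm_num
    exact Nat.eq_of_mul_eq_mul_left this (by rw [h]; ring)
  have hKU : K ≤ U := fun x hx => ⟨x.2, S.A_le hx⟩
  have hRU : ρ.range ≤ U := by
    rintro _ ⟨g, rfl⟩
    exact ⟨(ρ g).2, S.el_mem (cob_even _ _) (M24Cert.mem_octStab.1 g.2).1⟩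
  have hRK : ρ.range ⊓ K = ⊥ := by
    refine (Subgroup.eq_bot_iff_forall _).2 ?_
    rintro _ ⟨⟨g, rfl⟩, hA⟩
    obtain ⟨hin, hgW⟩ := (S.el_mem_A (cob_even _ _) (M24Cert.mem_octStab.1 g.2).1).1
      (show P (cob x₀ g.1) * κ g.1 ∈ S.A from hA)
    have hg1 : g.1 = 1 := by
      by_contra hg1
      have hgx : g.1 x₀ ≠ x₀ := fun h => hg1
        (M24Cert.octPointStab_fix oct_mem hx₀ (mem_W.1 hgW).1 (mem_W.1 hgW).2 h)
      obtain ⟨t, ht, ht2, e⟩ := hin
      obtain ⟨t', ht', hlt, e'⟩ : ∃ t' ⊆ oct, t'.card ≤ 4 ∧ Eqv (cob x₀ g.1) t' := by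
        by_cases h4 : t.card ≤ 4
        · exact ⟨t, ht, h4, e⟩
        · refine ⟨oct \ t, Finset.sdiff_subset, ?_, e.trans ?_⟩
          · rw [Finset.card_sdiff_of_subset ht, oct_card]
            omega
          · rw [Eqv, show t ∆ (oct \ t) = oct by
              rw [← symmDiff_of_ge ht, symmDiff_comm oct t, ← symmDiff_assoc, symmDiff_self]; exact bot_symmDiff _]
            exact oct_mem.1
      have hc : (cob x₀ g.1).card ≤ 2 := (Finset.card_le_card (t := {x₀, g.1 x₀}) fun y hy => by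
        simp only [cob, Finset.mem_symmDiff, Finset.mem_singleton] at hy
        rcases hy with ⟨rfl, -⟩ | ⟨rfl, -⟩ <;> simp).trans Finset.card_le_two
      have h := e'.small (by omega)
      refine hx₀ (ht' (h ▸ ?_))
      simp [cob, Finset.mem_symmDiff, hgx.symm]
    rw [show g = 1 from Subtype.ext hg1, map_one]
  have hRc : Nat.card ↥ρ.range = 322560 :=
    (Nat.card_congr (MonoidHom.ofInjective hρ).toEquiv.symm).trans (M24Cert.card_octStab oct_mem)
  have hsup : K ⊔ ρ.range = U := by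
    refine Subgroup.eq_of_le_of_card_ge (sup_le hKU hRU) ?_
    have hi : Function.Injective fun x : ↥K × ↥ρ.range =>
        (⟨x.1.1 * x.2.1, mul_mem (Subgroup.mem_sup_left x.1.2) (Subgroup.mem_sup_right x.2.2)⟩ : ↥(K ⊔ ρ.range)) := by
      rintro ⟨a, b⟩ ⟨a', b'⟩ e
      have e' : (a : ↥N) * b = a' * b' := congrArg Subtype.val e
      have h0 : (a' : ↥N)⁻¹ * a ∈ ρ.range ⊓ K := by
        refine Subgroup.mem_inf.2 ⟨?_, K.mul_mem (K.inv_mem a'.2) a.2⟩
        rw [show (a' : ↥N)⁻¹ * a = b' * (b : ↥N)⁻¹ by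
          calc (a' : ↥N)⁻¹ * a = (a' : ↥N)⁻¹ * ((a : ↥N) * b) * (b : ↥N)⁻¹ := by group
            _ = b' * (b : ↥N)⁻¹ := by rw [e']; group]
        exact ρ.range.mul_mem b'.2 (ρ.range.inv_mem b.2)
      rw [hRK, Subgroup.mem_bot, inv_mul_eq_one] at h0
      rw [← h0] at e'
      exact Prod.ext (Subtype.ext h0.symm) (Subtype.ext (mul_left_cancel e'))
    have := Nat.card_le_card_of_injective _ hi
    rw [Nat.card_prod, hKcard, hRc] at this
    rw [hUcard]
    exact le_trans (by norm_num) this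
  obtain ⟨H, hH⟩ := Solvable.gaschutz_exists K U (fun x hx y hy => Subtype.ext
      (show (x : G) * y = y * x from
        congrArg Subtype.val (S.A_elem.1.is_comm.comm (⟨x.1, hx⟩ : ↥S.A) ⟨y.1, hy⟩))) hKU
    (by rw [hKcard, hUi]; norm_num) ρ.range hRU hRK hsup
  refine ⟨H.map N.subtype, Subgroup.map_subtype_le H, ?_, ?_, ?_⟩
  · refine (Subgroup.eq_bot_iff_forall _).2 ?_
    rintro _ ⟨⟨x, hx, rfl⟩, hxA⟩
    have : x ∈ K ⊓ H := ⟨hxA, hx⟩
    rw [hH.disjoint.eq_bot, Subgroup.mem_bot] at this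
    rw [this]; rfl
  · refine le_antisymm (sup_le (Subgroup.map_subtype_le H) hAN) fun x hx => ?_
    have : (⟨x, hx⟩ : ↥N) ∈ H ⊔ K := by rw [sup_comm, hH.sup_eq_top]; trivial
    have h2 := Subgroup.mem_map_of_mem N.subtype this
    rw [Subgroup.map_sup, Subgroup.map_subgroupOf_eq_of_le hAN] at h2
    exact h2
  · rw [Subgroup.card_map_of_injective N.subtype_injective]
    have := hH.card_mul_card
    rw [hKcard, hNcard] at this
    omega

/-- The structure of the normaliser. -/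
theorem split_L5 (hC : Certs) : ∃ B : Subgroup G, B ≤ Subgroup.normalizer (S.A : Set G) ∧ B ⊓ S.A = ⊥ ∧
    B ⊔ S.A = Subgroup.normalizer (S.A : Set G) ∧
      Nonempty (↥B ≃* Matrix.SpecialLinearGroup (Fin 5) (ZMod 2)) := by
  obtain ⟨B, hle, hinf, hsup, hcard⟩ := S.exists_complement hC
  obtain ⟨φ, hφ⟩ := S.exists_hom hC
  refine ⟨B, hle, hinf, hsup, ⟨MulEquiv.ofBijective (φ.comp (Subgroup.inclusion hle)) ?_⟩⟩
  refine (Nat.bijective_iff_injective_and_card _).2 ⟨(injective_iff_map_eq_one _).2 fun b hb => ?_,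
    by rw [hcard, Klein.card_SL5]⟩
  have : (b : G) ∈ B ⊓ S.A := ⟨b.2, hφ _ hb⟩
  rw [hinf, Subgroup.mem_bot] at this
  exact Subtype.ext this

end Setup

end CfsgLib.JankoFour.TwoTen
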