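import Cfsg.Agent.Lib.JankoFour.TwoTen.MatchGen
import Cfsg.Agent.Lib.JankoFour.TwoTen.Group

/-!
# A complement containing the stabiliser of an octad and an outside point

The complement of the group of order `2^10` in its normaliser can be chosen to contain the image of that
stabiliser, after multiplying the section of the Mathieu group by a coboundary if necessary.
-/

set_option autoImplicit false
set_option linter.unusedSectionVars false

namespace CfsgLib.JankoFour.TwoTen

open Cfsg CfsgLib.Golay CfsgLib.M24Cert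
open scoped symmDiff Pointwise

variable {G : Type*} [Group G] [Finite G] {z : G} {V : Subgroup G} {P : Finset GolayPt → G}
  {κ : Equiv.Perm GolayPt → G}

namespace Match

theorem exists_of_allLt_false {P : ℕ → Bool} : ∀ {n : ℕ}, allLt P n = false → ∃ i < n, P i = false
  | 0, h => Bool.noConfusion h
  | n + 1, h => by
    have h' : (P n && allLt P n) = false := h
    rw [Bool.and_eq_false_iff] at h'
    rcases h' with h' | h'
    · exact ⟨n, Nat.lt_succ_self n, h'⟩
    · obtain ⟨i, hi, e⟩ := exists_of_allLt_false h'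
      exact ⟨i, Nat.lt_succ_of_lt hi, e⟩

theorem pl_pt {L : List ℕ} (h : m24Test L = true) {i : ℕ} (hi : i < 24) : pL L (pt i) = pt (L.getD i 0) :=
  pL_pt (valid_of_m24Test h) hi

theorem mask_facts {m : ℕ} (hm : m < 64) : toSet (getR MK m) ⊆ oct ∧ 2 ∣ (toSet (getR MK m)).card ∧
    (m ≠ 0 → ¬ Eqv (toSet (getR MK m)) ∅) ∧
    ∀ n < 64, toSet (getR MK (m ^^^ n)) = toSet (getR MK m) ∆ toSet (getR MK n) := by
  have h := allLt_spec mk_ok m hm
  simp only [Bool.and_eq_true, Bool.or_eq_true, Nat.beq_eq, Bool.not_eq_true', Nat.ble_eq] at h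
  obtain ⟨⟨⟨h1, h2⟩, h3⟩, h4⟩ := h
  refine ⟨fun p hp => ?_, ?_, fun hm0 he => ?_, fun n hn => ?_⟩
  · rw [← h1, toSet_and] at hp
    rw [oct, show baseOctad = 5279 from rfl]
    exact Finset.mem_of_mem_inter_right hp
  · rw [card_toSet_bc]
    omega
  · rcases h3 with h3 | ⟨h3, h3'⟩
    · exact hm0 h3
    · have hne : bc (getR MK m) ≠ 0 := fun e => by simp [e] at h3
      have h' := he.small (by rw [card_toSet_bc, Finset.card_empty]; omega)
      rw [← card_toSet_bc, h', Finset.card_empty] at hne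
      exact hne rfl
  · rw [Nat.eq_of_beq_eq_true (allLt_spec h4 n hn), toSet_xor]

/-- The element of the stabiliser with number `a`. -/
noncomputable def wnum (a : ℕ) : Equiv.Perm GolayPt := pL (WL.getD a [])

theorem wnum_facts {a : ℕ} (ha : a < 16) : wnum a ∈ Wgrp ∧ ∀ b < 16, wnum (a ^^^ b) = wnum a * wnum b ∧
    (wnum a = wnum b → a = b) := by
  have h := allLt_spec wl_ok a ha
  simp only [Bool.and_eq_true] at h
  obtain ⟨⟨h1, h2⟩, h3⟩ := h
  refine ⟨mem_W.2 ⟨mem_M24_of_test h1, fun p hp => ?_⟩, fun b hb => ?_⟩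
  · obtain ⟨i, hi, rfl⟩ := M24Cert.exists_pt p
    rw [oct, show baseOctad = 5279 from rfl, pt_mem_toSet hi] at hp
    have := allLt_spec h2 i hi
    simp only [hp, Bool.not_true, Bool.false_or, Nat.beq_eq] at this
    rw [wnum, pl_pt h1 hi, this]
  · have hb' := allLt_spec h3 b hb
    simp only [Bool.and_eq_true, Bool.or_eq_true, Bool.not_eq_true'] at hb'
    obtain ⟨h4, h5⟩ := hb'
    have h1' : m24Test (WL.getD b []) = true := by
      have := allLt_spec wl_ok b hb
      simp only [Bool.and_eq_true] at this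
      exact this.1.1
    refine ⟨?_, fun e => ?_⟩
    · rw [wnum, wnum, wnum, ← eqB_eq h5, pL_compL (valid_of_m24Test h1) (valid_of_m24Test h1')]
    · rcases h4 with h4 | h4
      · exact Nat.eq_of_beq_eq_true h4
      · exfalso
        have e5 := congrArg (fun g : Equiv.Perm GolayPt => g (pt 5)) e
        simp only [wnum, pl_pt h1 (show 5 < 24 by omega), pl_pt h1' (show 5 < 24 by omega)] at e5
        rw [pt_inj (validL_getD_lt (valid_of_m24Test h1) (by omega))
          (validL_getD_lt (valid_of_m24Test h1') (by omega)) e5, Nat.beq_refl] at h4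
        exact Bool.noConfusion h4

theorem gen_mem (b : Bool) : (if b then Y else X) ∈ M24 := by
  cases b
  · exact X_mem.1.1
  · exact Y_mem.1.1

theorem act_facts (b : Bool) :
    (∀ m < 64, getR (if b then TY6 else TX6) m < 64 ∧
      Eqv ((if b then Y else X) • toSet (getR MK m)) (toSet (getR MK (getR (if b then TY6 else TX6) m)))) ∧
    ∀ a < 16, getR (if b then TY4 else TX4) a < 16 ∧
      (if b then Y else X) * wnum a = wnum (getR (if b then TY4 else TX4) a) * (if b then Y else X) := by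
  have hv : ∀ {a}, a < 16 → validL 24 (WL.getD a []) = true := fun {a} ha => by
    have := allLt_spec wl_ok a ha
    simp only [Bool.and_eq_true] at this
    exact valid_of_m24Test this.1.1
  have hX := valid_of_m24Test gen_facts.1
  have hY := valid_of_m24Test gen_facts.2.1
  refine ⟨fun m hm => ?_, fun a ha => ?_⟩
  · have h := allLt_spec act6_ok m hm
    simp only [Bool.and_eq_true, Nat.blt_eq] at h
    obtain ⟨⟨⟨h1, h2⟩, h3⟩, h4⟩ := h
    cases b
    · simp only [Bool.false_eq_true, if_false]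
      refine ⟨h1, ?_⟩
      rw [X, smul_toSet_imgF hX, Eqv, ← toSet_xor, mem_supports]
      exact ⟨_, mem_golayList_of_inCodeT h3, rfl⟩
    · simp only [if_true]
      refine ⟨h2, ?_⟩
      rw [Y, smul_toSet_imgF hY, Eqv, ← toSet_xor, mem_supports]
      exact ⟨_, mem_golayList_of_inCodeT h4, rfl⟩
  · have h := allLt_spec act4_ok a ha
    simp only [Bool.and_eq_true, Nat.blt_eq] at h
    obtain ⟨⟨⟨h1, h2⟩, h3⟩, h4⟩ := h
    cases b
    · simp only [Bool.false_eq_true, if_false]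
      refine ⟨h1, ?_⟩
      rw [X, wnum, wnum, ← pL_compL hX (hv ha), ← pL_compL (hv h1) hX, eqB_eq h3]
    · simp only [if_true]
      refine ⟨h2, ?_⟩
      rw [Y, wnum, wnum, ← pL_compL hY (hv ha), ← pL_compL (hv h2) hY, eqB_eq h4]

theorem evalW_lt {TX TY : List ℕ} {N : ℕ} (hN : ∀ a b, a < N → b < N → a ^^^ b < N) (h0 : 0 < N)
    (hX : ∀ m < N, getR TX m < N) (hY : ∀ m < N, getR TY m < N) {c : ℕ} (hc : c < N) :
    ∀ w, evalW TX TY c w < N
  | [] => h0
  | b :: w => by
    have ih := evalW_lt hN h0 hX hY hc w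
    cases b
    · exact hX _ ih
    · exact hN _ _ hc (hY _ ih)

end Match

namespace Setup

open Match

variable (S : Setup z V P κ)
include S

/-- The element of the group of order `2^10` with numbers `m` and `a`. -/
theorem vec_facts {m a : ℕ} (hm : m < 64) (ha : a < 16) :
    P (toSet (getR MK m)) * κ (wnum a) ∈ S.A ∧
      (P (toSet (getR MK m)) * κ (wnum a) = 1 → m = 0 ∧ a = 0) := by
  obtain ⟨h1, h2, h3, -⟩ := mask_facts hm
  obtain ⟨hw, hinj⟩ := wnum_facts ha
  refine ⟨⟨_, h1, h2, _, hw, rfl⟩, fun e => ?_⟩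
  rw [← one_mul (1 : G)] at e
  nth_rw 1 [← S.P_empty] at e
  rw [← S.κ_one] at e
  obtain ⟨e1, e2⟩ := S.el_inj h2 (by simp) (mem_W.1 hw).1 (one_mem _) e
  refine ⟨by_contra fun h => h3 h e2, (hinj 0 (by omega)).2 ?_⟩
  have h00 := ((wnum_facts (show 0 < 16 by omega)).2 0 (by omega)).1
  rw [Nat.xor_self, left_eq_mul] at h00
  rw [e1, h00]

theorem vec_mul {m n a b : ℕ} (hm : m < 64) (hn : n < 64) (ha : a < 16) (hb : b < 16) :
    P (toSet (getR MK m)) * κ (wnum a) * (P (toSet (getR MK n)) * κ (wnum b)) =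
      P (toSet (getR MK (m ^^^ n))) * κ (wnum (a ^^^ b)) := by
  have hw := (wnum_facts ha).1
  rw [S.mul_el (mask_facts hm).2.1 (mask_facts hn).2.1 (mem_W.1 hw).1 (mem_W.1 (wnum_facts hb).1).1,
    W_smul hw (mask_facts hn).1, (mask_facts hm).2.2.2 n hn, ((wnum_facts ha).2 b hb).1]

theorem vec_surj {x : G} (hx : x ∈ S.A) :
    ∃ m < 64, ∃ a < 16, x = P (toSet (getR MK m)) * κ (wnum a) := by
  let f : Fin 64 × Fin 16 → ↥S.A := fun p => ⟨_, (S.vec_facts p.1.isLt p.2.isLt).1⟩
  have hf : Function.Injective f := by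
    rintro ⟨⟨m, hm⟩, ⟨a, ha⟩⟩ ⟨⟨n, hn⟩, ⟨b, hb⟩⟩ e
    have e' : P (toSet (getR MK m)) * κ (wnum a) = P (toSet (getR MK n)) * κ (wnum b) := congrArg Subtype.val e
    have hsq := S.A_elem.2 _ (S.vec_facts hn hb).1
    rw [pow_two] at hsq
    nth_rw 1 [← e'] at hsq
    rw [S.vec_mul hm hn ha hb] at hsq
    obtain ⟨h1, h2⟩ := (S.vec_facts (Nat.xor_lt_two_pow (n := 6) hm hn) (Nat.xor_lt_two_pow (n := 4) ha hb)).2 hsq
    obtain rfl := (show m = n from Nat.xor_eq_zero_iff.1 h1)
    obtain rfl := (show a = b from Nat.xor_eq_zero_iff.1 h2)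
    rfl
  have hb : Function.Bijective f := (Nat.bijective_iff_injective_and_card f).2 ⟨hf, by
    rw [S.A_card, Nat.card_prod, Nat.card_fin, Nat.card_fin]; norm_num⟩
  obtain ⟨⟨m, a⟩, e⟩ := hb.2 ⟨x, hx⟩
  exact ⟨m, m.isLt, a, a.isLt, (congrArg Subtype.val e).symm⟩

theorem vec_conj (b : Bool) {m a : ℕ} (hm : m < 64) (ha : a < 16) :
    κ (if b then Y else X) * (P (toSet (getR MK m)) * κ (wnum a)) =
      P (toSet (getR MK (getR (if b then TY6 else TX6) m))) * κ (wnum (getR (if b then TY4 else TX4) a)) *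
        κ (if b then Y else X) := by
  obtain ⟨h6, h4⟩ := act_facts b
  obtain ⟨hm', he⟩ := h6 m hm
  obtain ⟨ha', hw⟩ := h4 a ha
  have hg := gen_mem b
  rw [← mul_assoc, S.κ_P hg (mask_facts hm).2.1,
    (S.P_eq_iff (two_dvd_smul (mask_facts hm).2.1) (mask_facts hm').2.1).2 he, mul_assoc,
    ← S.kmul _ hg _ (mem_W.1 (wnum_facts ha).1).1, hw, S.kmul _ (mem_W.1 (wnum_facts ha').1).1 _ hg, ← mul_assoc]

/-- The product along a word. -/
theorem vec_word {c6 c4 : ℕ} (h6 : c6 < 64) (h4 : c4 < 16) : ∀ w : List Bool,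
    (w.map fun b => if b then P (toSet (getR MK c6)) * κ (wnum c4) * κ Y else κ X).prod =
      P (toSet (getR MK (evalW TX6 TY6 c6 w))) * κ (wnum (evalW TX4 TY4 c4 w)) * κ (wordP w)
  | [] => by
    have h0 : wnum 0 = 1 := by
      have h00 := ((wnum_facts (show 0 < 16 by omega)).2 0 (by omega)).1
      rwa [Nat.xor_self, left_eq_mul] at h00
    have hM : toSet (getR MK 0) = ∅ := by
      have := (mask_facts (show 0 < 64 by omega)).2.2.2 0 (by omega)
      rwa [Nat.xor_self, symmDiff_self, Finset.bot_eq_empty] at this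
    simp only [List.map_nil, List.prod_nil, evalW, wordP, h0, hM, S.P_empty, S.κ_one, mul_one]
  | b :: w => by
    have l6 : evalW TX6 TY6 c6 w < 64 := evalW_lt (fun _ _ => Nat.xor_lt_two_pow (n := 6)) (by omega)
      (fun m hm => ((act_facts false).1 m hm).1) (fun m hm => ((act_facts true).1 m hm).1) h6 w
    have l4 : evalW TX4 TY4 c4 w < 16 := evalW_lt (fun _ _ => Nat.xor_lt_two_pow (n := 4)) (by omega)
      (fun m hm => ((act_facts false).2 m hm).1) (fun m hm => ((act_facts true).2 m hm).1) h4 w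
    have hw : wordP w ∈ M24 := wordP_mem _ X_mem.1.1 Y_mem.1.1 w
    rw [List.map_cons, List.prod_cons, vec_word h6 h4 w]
    cases b
    · have hc := S.vec_conj false l6 l4
      simp only [Bool.false_eq_true, if_false] at hc ⊢
      simp only [evalW, wordP, Bool.false_eq_true, if_false]
      rw [← mul_assoc, hc, mul_assoc, ← S.kmul _ X_mem.1.1 _ hw]
    · have hc := S.vec_conj true l6 l4
      simp only [if_true] at hc ⊢
      simp only [evalW, wordP, if_true]
      rw [mul_assoc _ (κ Y) (P _ * κ _ * κ _), ← mul_assoc (κ Y), hc, mul_assoc _ (κ Y),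
        ← S.kmul _ Y_mem.1.1 _ hw, ← mul_assoc,
        S.vec_mul h6 (show getR TY6 _ < 64 from ((act_facts true).1 _ l6).1) h4
          (show getR TY4 _ < 16 from ((act_facts true).2 _ l4).1)]

/-- The section changed by the coboundary of an outside point. -/
theorem twist (x : GolayPt) : Setup z V P fun g => P (cob x g) * κ g where
  ordz := S.ordz
  zsylow := S.zsylow
  elem := S.elem
  card := S.card
  self := S.self
  uniq := S.uniq
  conj := S.conj
  mem := S.mem
  mul := S.mul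
  eq_one := S.eq_one
  surj := S.surj
  kmem k hk := S.el_mem (cob_even x k) hk
  kmul k hk k' hk' := by
    rw [S.mul_el (cob_even _ _) (cob_even _ _) hk hk']
    congr 2
    rw [cob, cob, cob, Finset.smul_finset_symmDiff, Finset.smul_finset_singleton, Finset.smul_finset_singleton,
      Equiv.Perm.smul_def, Equiv.Perm.smul_def, sd_mid, Equiv.Perm.mul_apply]
  kinj k hk h := (S.el_mem_V (cob_even x k) hk).1 h
  act k hk s hs := by
    have h := S.comm (S.mem _ (cob_even x k)) (S.mem _ (two_dvd_smul (g := k) hs))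
    rw [mul_assoc (P (cob x k)), S.κ_P hk hs, ← mul_assoc (P (cob x k)), h]
    group
  split g hg := by
    obtain ⟨s, hs, k, hk, rfl⟩ := S.split g hg
    refine ⟨s ∆ cob x k, two_dvd_sd hs (cob_even x k), k, hk, ?_⟩
    rw [S.mul _ _ hs (cob_even x k), mul_assoc, ← mul_assoc (P (cob x k)), S.P_sq (cob_even x k), one_mul]
  pairN := S.pairN
  quadZ := S.quadZ
  cent := S.cent
  outside := by
    obtain ⟨s, hs, k, hk, hk1, hkk, hfix, he, h⟩ := S.outside
    have e : P (s ∆ cob x k) * (P (cob x k) * κ k) = P s * κ k := by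
      rw [S.mul _ _ hs (cob_even x k), mul_assoc, ← mul_assoc (P (cob x k)), S.P_sq (cob_even x k), one_mul]
    refine ⟨s ∆ cob x k, two_dvd_sd hs (cob_even x k), k, hk, hk1, hkk, hfix, ?_, by rwa [e]⟩
    rw [Finset.smul_finset_symmDiff]
    refine he.add (Eqv.of_eq ?_)
    rw [cob, Finset.smul_finset_symmDiff, Finset.smul_finset_singleton, Finset.smul_finset_singleton,
      Equiv.Perm.smul_def, Equiv.Perm.smul_def, show k (k x) = x from by
        rw [← Equiv.Perm.mul_apply, hkk, Equiv.Perm.one_apply], symmDiff_comm]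

/-- The coordinates of the second generator with respect to a complement containing the first. -/
theorem exists_near (hC : Certs) : ∃ B : Subgroup G, B ≤ Subgroup.normalizer (S.A : Set G) ∧ B ⊓ S.A = ⊥ ∧
    B ⊔ S.A = Subgroup.normalizer (S.A : Set G) ∧ κ X ∈ B ∧
    ∃ m < 64, (m = 0 ∨ m = 12) ∧ P (toSet (getR MK m)) * κ Y ∈ B := by
  set N := Subgroup.normalizer (S.A : Set G) with hN
  obtain ⟨B0, hle, hinf, hsup, -⟩ := S.exists_complement hC
  have hev : Evenly (∅ : Finset GolayPt) := evenly_empty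
  have hκN : ∀ g ∈ octPointStab oct (pt 5), κ g ∈ N := fun g hg => by
    rw [← one_mul (κ g), ← S.P_empty]
    exact (S.mem_stab hC (by simp) hg.1.1).2 ⟨hg.1.2, hev⟩
  have hdec : ∀ (B : Subgroup G), B ≤ N → B ⊔ S.A = N → ∀ g ∈ N, ∃ a ∈ S.A, a * g ∈ B := by
    intro B hB hs g hg
    rw [← hs] at hg
    have hmem : g ∈ ((B ⊔ S.A : Subgroup G) : Set G) := hg
    rw [Subgroup.coe_mul_of_left_le_normalizer_right B S.A (hB.trans le_rfl)] at hmem
    obtain ⟨b, hb, a, ha, rfl⟩ := Set.mem_mul.1 hmem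
    refine ⟨b * a⁻¹ * b⁻¹, S.conj_A_mem (hB hb) (inv_mem ha), ?_⟩
    rwa [show b * a⁻¹ * b⁻¹ * (b * a) = b by group]
  obtain ⟨a0, ha0, hb0⟩ := hdec B0 hle hsup _ (hκN X X_mem)
  obtain ⟨m0, hm0, n0, hn0, rfl⟩ := S.vec_surj ha0
  obtain ⟨s1, s2⟩ := Bool.and_eq_true_iff.1 solve_ok
  obtain ⟨m, hm, e⟩ := exists_of_allLt_false (Bool.not_eq_true' _ ▸ allLt_spec s1 m0 hm0)
  have hmeq : m ^^^ getR TX6 m = m0 := Nat.eq_of_beq_eq_true ((Bool.not_eq_false' _).mp e)
  obtain ⟨n, hn, e⟩ := exists_of_allLt_false (Bool.not_eq_true' _ ▸ allLt_spec s2 n0 hn0)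
  have hneq : n ^^^ getR TX4 n = n0 := Nat.eq_of_beq_eq_true ((Bool.not_eq_false' _).mp e)
  have hx6 := ((act_facts false).1 m hm).1
  have hx4 := ((act_facts false).2 n hn).1
  simp only [Bool.false_eq_true, if_false] at hx6 hx4
  set a := P (toSet (getR MK m)) * κ (wnum n) with ha
  have haA : a ∈ S.A := (S.vec_facts hm hn).1
  set c := MulAut.conj a with hc
  have haN : a ∈ N := Subgroup.le_normalizer haA
  have hmapN : N.map c.toMonoidHom = N :=
    Subgroup.mem_normalizer_iff_map_conj_eq.1 (Subgroup.le_normalizer haN)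
  have hmapA : S.A.map c.toMonoidHom = S.A := Subgroup.mem_normalizer_iff_map_conj_eq.1 haN
  set B := B0.map c.toMonoidHom with hB
  have hBle : B ≤ N := (Subgroup.map_mono hle).trans hmapN.le
  have hBsup : B ⊔ S.A = N := by
    rw [← hmapN, show N = B0 ⊔ S.A from hsup.symm, Subgroup.map_sup, hmapA]
  have hBX : κ X ∈ B := by
    refine ⟨_, hb0, ?_⟩
    show a * (P (toSet (getR MK m0)) * κ (wnum n0) * κ X) * a⁻¹ = κ X
    rw [← hmeq, ← hneq, ← S.vec_mul hm hx6 hn hx4, ← ha]
    have hconj := S.vec_conj false hm hn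
    simp only [Bool.false_eq_true, if_false] at hconj
    have haa : a * a = 1 := by rw [← pow_two]; exact S.A_elem.2 a haA
    calc a * (a * (P (toSet (getR MK (getR TX6 m))) * κ (wnum (getR TX4 n))) * κ X) * a⁻¹
        = (a * a) * (P (toSet (getR MK (getR TX6 m))) * κ (wnum (getR TX4 n)) * κ X) * a⁻¹ := by group
      _ = κ X := by rw [haa, one_mul, ← hconj, mul_inv_cancel_right]
  obtain ⟨a1, ha1, hb1⟩ := hdec B hBle hBsup _ (hκN Y Y_mem)
  obtain ⟨c6, h6, c4, h4, rfl⟩ := S.vec_surj ha1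
  have hBinf : B ⊓ S.A = ⊥ := by
    conv_lhs => rw [← hmapA, hB, ← Subgroup.map_inf _ _ _ c.injective, hinf, Subgroup.map_bot]
  refine ⟨B, hBle, hBinf, hBsup, hBX, ?_⟩
  obtain ⟨r6, r4⟩ := Bool.and_eq_true_iff.1 rels_ok
  have hrel : ∀ w ∈ RELS, evalW TX6 TY6 c6 w = 0 ∧ evalW TX4 TY4 c4 w = 0 := fun w hw => by
    have l6 : evalW TX6 TY6 c6 w < 64 := evalW_lt (fun _ _ => Nat.xor_lt_two_pow (n := 6)) (by omega)
      (fun m hm => ((act_facts false).1 m hm).1) (fun m hm => ((act_facts true).1 m hm).1) h6 w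
    have l4 : evalW TX4 TY4 c4 w < 16 := evalW_lt (fun _ _ => Nat.xor_lt_two_pow (n := 4)) (by omega)
      (fun m hm => ((act_facts false).2 m hm).1) (fun m hm => ((act_facts true).2 m hm).1) h4 w
    have hp : (w.map fun b => if b then P (toSet (getR MK c6)) * κ (wnum c4) * κ Y else κ X).prod ∈ B :=
      B.list_prod_mem fun g hg => by
        obtain ⟨b, -, rfl⟩ := List.mem_map.1 hg
        cases b
        · simpa using hBX
        · simpa using hb1
    have hid : wordP w = 1 := by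
      rw [← (wordL_spec w).2, eqB_eq (allB_iff.1 rels_id w hw), pL_range]
    rw [S.vec_word h6 h4 w, hid, S.κ_one, mul_one] at hp
    obtain ⟨hA, h1⟩ := S.vec_facts l6 l4
    refine h1 ?_
    have : P (toSet (getR MK (evalW TX6 TY6 c6 w))) * κ (wnum (evalW TX4 TY4 c4 w)) ∈ B ⊓ S.A := ⟨hp, hA⟩
    rwa [hBinf, Subgroup.mem_bot] at this
  have e6 := allLt_spec r6 c6 h6
  have e4 := allLt_spec r4 c4 h4
  have ok6 : allB (fun w => Nat.beq (evalW TX6 TY6 c6 w) 0) RELS = true :=
    allB_iff.2 fun w hw => by rw [(hrel w hw).1]; rfl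
  have ok4 : allB (fun w => Nat.beq (evalW TX4 TY4 c4 w) 0) RELS = true :=
    allB_iff.2 fun w hw => by rw [(hrel w hw).2]; rfl
  simp only [ok6, Bool.not_true, Bool.false_or, Bool.or_eq_true, Nat.beq_eq] at e6
  simp only [ok4, Bool.not_true, Bool.false_or, Nat.beq_eq] at e4
  subst e4
  refine ⟨c6, h6, e6, ?_⟩
  have h00 := ((wnum_facts (show 0 < 16 by omega)).2 0 (by omega)).1
  rw [Nat.xor_self, left_eq_mul] at h00
  rwa [h00, S.κ_one, mul_one] at hb1

/-- A section of the Mathieu group and a complement containing the image of the stabiliser of the octad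
and of the point 5. -/
theorem exists_matched_pt (hC : Certs) : ∃ κ2 : Equiv.Perm GolayPt → G, ∃ S2 : Setup z V P κ2,
    ∃ B : Subgroup G, B ≤ Subgroup.normalizer (S2.A : Set G) ∧ B ⊓ S2.A = ⊥ ∧
      B ⊔ S2.A = Subgroup.normalizer (S2.A : Set G) ∧
      ∀ g ∈ M24, g • oct = oct → g (pt 5) = pt 5 → κ2 g ∈ B := by
  have key : ∀ {κ' : Equiv.Perm GolayPt → G}, Setup z V P κ' → ∀ B : Subgroup G, κ' X ∈ B → κ' Y ∈ B →
      ∀ g ∈ M24, g • oct = oct → g (pt 5) = pt 5 → κ' g ∈ B := by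
    intro κ' S' B hX hY g hg ho hp
    let H : Subgroup (Equiv.Perm GolayPt) :=
      { carrier := {k | k ∈ M24 ∧ κ' k ∈ B}
        one_mem' := ⟨one_mem _, S'.κ_one ▸ one_mem B⟩
        mul_mem' := fun {a b} ha hb => ⟨mul_mem ha.1 hb.1, S'.kmul a ha.1 b hb.1 ▸ mul_mem ha.2 hb.2⟩
        inv_mem' := fun {a} ha => ⟨inv_mem ha.1, S'.κ_inv ha.1 ▸ inv_mem ha.2⟩ }
    exact (stab_induction H ⟨X_mem.1.1, hX⟩ ⟨Y_mem.1.1, hY⟩ hg ho hp).2
  obtain ⟨B, hle, hinf, hsup, hX, m, hm, rfl | rfl, hY⟩ := S.exists_near hC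
  · refine ⟨κ, S, B, hle, hinf, hsup, key S B hX ?_⟩
    have hM : toSet (getR MK 0) = ∅ := by
      have := (mask_facts (show 0 < 64 by omega)).2.2.2 0 (by omega)
      rwa [Nat.xor_self, symmDiff_self, Finset.bot_eq_empty] at this
    rwa [hM, S.P_empty, one_mul] at hY
  · obtain ⟨⟨t1, t2⟩, t3⟩ : (inCodeT (getR MK 12 ^^^ (39 ^^^ imgF YL 39)) = true ∧ imgF XL 39 = 39) ∧ bc 39 = 4 := by
      simpa [Bool.and_eq_true, Nat.beq_eq] using twist_ok
    set u : Finset GolayPt := toSet 39 with hu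
    have hu2 : 2 ∣ u.card := by rw [hu, card_toSet_bc, t3]; norm_num
    set v := P u with hv
    set c := MulAut.conj v with hc
    set κ2 : Equiv.Perm GolayPt → G := fun g => P (cob (pt 5) g) * κ g with hκ2
    have S2 : Setup z V P κ2 := S.twist (pt 5)
    have hcob : ∀ g : Equiv.Perm GolayPt, g (pt 5) = pt 5 → κ2 g = κ g := fun g hg => by
      simp only [hκ2, cob, hg, symmDiff_self, Finset.bot_eq_empty, S.P_empty, one_mul]
    have hco : ∀ w ∈ Wgrp, co w u = cob (pt 5) w := fun w hw => by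
      have hsplit : u = (toSet 7) ∆ {pt 5} := by
        ext p
        obtain ⟨i, hi, rfl⟩ := M24Cert.exists_pt p
        simp only [hu, Finset.mem_symmDiff, Finset.mem_singleton, pt_mem_toSet hi]
        have : pt i = pt 5 ↔ i = 5 := ⟨fun e => pt_inj hi (by omega) e, fun e => e ▸ rfl⟩
        rw [this]
        revert i
        decide +kernel
      have h7 : toSet 7 ⊆ oct := fun p hp => by
        rw [show (7 : ℕ) = 7 &&& 5279 from rfl, toSet_and] at hp
        exact Finset.mem_of_mem_inter_right hp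
      rw [hsplit, co, Finset.smul_finset_symmDiff, W_smul hw h7, sd4, symmDiff_self, bot_symmDiff, cob,
        Finset.smul_finset_singleton, Equiv.Perm.smul_def]
    have hA : S2.A = S.A.map c.toMonoidHom := by
      have e : ∀ t ⊆ oct, 2 ∣ t.card → ∀ w ∈ Wgrp, v * (P t * κ w) * v⁻¹ = P t * κ2 w := by
        intro t ht ht2 w hw
        rw [hv, S.conj_P hu2 ht2 (mem_W.1 hw).1, hco w hw, S.mul _ _ ht2 (cob_even _ _), mul_assoc]
      ext g
      constructor
      · rintro ⟨t, ht, ht2, w, hw, rfl⟩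
        exact ⟨_, ⟨t, ht, ht2, w, hw, rfl⟩, e t ht ht2 w hw⟩
      · rintro ⟨_, ⟨t, ht, ht2, w, hw, rfl⟩, rfl⟩
        exact ⟨t, ht, ht2, w, hw, e t ht ht2 w hw⟩
    have hN : Subgroup.normalizer (S2.A : Set G) = (Subgroup.normalizer (S.A : Set G)).map c.toMonoidHom := by
      rw [hA]
      exact (Subgroup.map_equiv_normalizer_eq S.A c).symm
    refine ⟨κ2, S2, B.map c.toMonoidHom, ?_, ?_, ?_, key S2 _ ?_ ?_⟩
    · rw [hN]; exact Subgroup.map_mono hle
    · rw [hA, ← Subgroup.map_inf _ _ _ c.injective, hinf, Subgroup.map_bot]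
    · rw [hN, hA, ← Subgroup.map_sup, hsup]
    · rw [hcob X X_mem.2]
      refine ⟨κ X, hX, ?_⟩
      show v * κ X * v⁻¹ = κ X
      have hXu : co X u = ∅ := by
        rw [co, hu, X, smul_toSet_imgF (valid_of_m24Test gen_facts.1), t2, symmDiff_self, Finset.bot_eq_empty]
      have h := S.conj_P hu2 (show 2 ∣ (∅ : Finset GolayPt).card by simp) X_mem.1.1
      rwa [hXu, S.P_empty, one_mul, symmDiff_self, Finset.bot_eq_empty, S.P_empty, one_mul] at h
    · rw [hcob Y Y_mem.2]
      refine ⟨P (toSet (getR MK 12)) * κ Y, hY, ?_⟩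
      show v * _ * v⁻¹ = κ Y
      rw [hv, S.conj_P hu2 (mask_facts hm).2.1 Y_mem.1.1, (S.eq_one _ (two_dvd_sd (mask_facts hm).2.1
        (two_dvd_co hu2))).2 ?_, one_mul]
      rw [eqv_empty_iff, co, hu, Y, smul_toSet_imgF (valid_of_m24Test gen_facts.2.1), ← toSet_xor, ← toSet_xor,
        mem_supports]
      exact ⟨_, mem_golayList_of_inCodeT t1, rfl⟩

/-- The same, with some outside point. -/
theorem exists_matched (hC : Certs) : ∃ κ2 : Equiv.Perm GolayPt → G, ∃ S2 : Setup z V P κ2,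
    ∃ x0, x0 ∉ oct ∧ ∃ B : Subgroup G, B ≤ Subgroup.normalizer (S2.A : Set G) ∧ B ⊓ S2.A = ⊥ ∧
      B ⊔ S2.A = Subgroup.normalizer (S2.A : Set G) ∧
      ∀ g ∈ M24, g • oct = oct → g x0 = x0 → κ2 g ∈ B := by
  obtain ⟨κ2, S2, B, h⟩ := S.exists_matched_pt hC
  exact ⟨κ2, S2, pt 5, pt5_notMem, B, h⟩

end Setup

end CfsgLib.JankoFour.TwoTen
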