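import Cfsg.Agent.Lib.JankoFour.TwoTen.Classify

/-!
# An elementary group with at least `2^10` for the product of its order and its fixed space is an octad group
-/

set_option autoImplicit false
set_option linter.unusedSectionVars false

namespace CfsgLib.JankoFour.TwoTen

open Cfsg CfsgLib.Golay CfsgLib.M24Cert
open scoped Pointwise symmDiff

/-- An involution fixing a point fixes an octad pointwise. -/
theorem exists_octad_of_fix {g : Equiv.Perm GolayPt} (hg : g ∈ M24) (h2 : g * g = 1) (h1 : g ≠ 1)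
    {p : GolayPt} (hp : g p = p) :
    (Finset.univ.filter fun q => g q = q) ∈ octads := by
  obtain ⟨a, ha, ⟨-, hc⟩ | ⟨e, -⟩⟩ := inv_cases hg (orderOf_eq_prime (by rw [pow_two, h2]) h1)
  · exact absurd hp (fixed_card_zero_iff.1 hc p)
  · rw [e, conj_fixed_set]
    exact octads_smul ha elU_fixed_octad

theorem pair_eq_cases {α : Type*} [DecidableEq α] {a b c d : α} (h : ({a, b} : Finset α) = {c, d}) :
    a = c ∧ b = d ∨ a = d ∧ b = c := by
  have ha : a ∈ ({c, d} : Finset α) := h ▸ Finset.mem_insert_self a _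
  have hb : b ∈ ({c, d} : Finset α) := h ▸ Finset.mem_insert_of_mem (Finset.mem_singleton_self b)
  have hc : c ∈ ({a, b} : Finset α) := h ▸ Finset.mem_insert_self c _
  have hd : d ∈ ({a, b} : Finset α) := h ▸ Finset.mem_insert_of_mem (Finset.mem_singleton_self d)
  simp only [Finset.mem_insert, Finset.mem_singleton] at ha hb hc hd
  grind

variable {B : Type*} [CommGroup B] [Finite B] {f : GolayPt → B} (L : Lab f) {o : Finset GolayPt} (ho : o ∈ octads)
include L ho

/-- The restriction of a member of the stabiliser to the octad is even. -/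
theorem res_sign {b : ↥M24} (hb : b ∈ St o) :
    Equiv.Perm.sign (resHom o ⟨(b : Equiv.Perm GolayPt), mem_St.1 hb⟩) = 1 := by
  rw [← Equiv.Perm.mem_alternatingGroup, ← range_resHom ho]
  exact ⟨_, rfl⟩

theorem act_pr_fix_iff {b : ↥M24} {x y : GolayPt} (hxy : x ≠ y) :
    L.act b (pr f x y) = pr f x y ↔
      ((b : Equiv.Perm GolayPt) x = x ∧ (b : Equiv.Perm GolayPt) y = y) ∨
        ((b : Equiv.Perm GolayPt) x = y ∧ (b : Equiv.Perm GolayPt) y = x) := by
  rw [L.act_pr]
  refine ⟨fun h => pair_eq_cases (L.pr_inj (fun e => hxy ((b : Equiv.Perm GolayPt).injective e)) hxy h), ?_⟩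
  rintro (⟨e1, e2⟩ | ⟨e1, e2⟩) <;> rw [e1, e2]
  exact pr_comm y x

theorem fix_one_le {b : ↥M24} (hb : b ∈ St o) (hb2 : b * b = 1) (hbW : b ∉ Wo o) :
    Nat.card ↥(P6 L o ⊓ fixS L {b}) ≤ 16 := by
  classical
  obtain ⟨a, ha, hmove⟩ : ∃ a ∈ o, (b : Equiv.Perm GolayPt) a ≠ a := by
    by_contra h
    exact hbW (mem_Wo.2 fun p hp => by_contra fun hne => h ⟨p, hp, hne⟩)
  set a' := (b : Equiv.Perm GolayPt) a with ha'
  have hbb : ∀ p, (b : Equiv.Perm GolayPt) ((b : Equiv.Perm GolayPt) p) = p := fun p =>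
    congrArg (fun g : ↥M24 => (g : Equiv.Perm GolayPt) p) hb2
  set σ := resHom o ⟨(b : Equiv.Perm GolayPt), mem_St.1 hb⟩ with hσdef
  have hσ : ∀ p : ↥o, (σ p : GolayPt) = (b : Equiv.Perm GolayPt) p := fun p => rfl
  have h4 := support_mod_four (σ := σ) (Equiv.ext fun p => Subtype.ext (hbb p)) (res_sign L ho hb)
  obtain ⟨c, hc, hcs⟩ := Finset.exists_mem_notMem_of_card_lt_card
    (s := ({⟨a, ha⟩, ⟨a', (St_apply hb a).2 ha⟩} : Finset ↥o)) (t := σ.support) (by
      have h1 : 1 < σ.support.card := Finset.one_lt_card.2 ⟨⟨a, ha⟩,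
        Equiv.Perm.mem_support.2 fun e => hmove (congrArg Subtype.val e), σ ⟨a, ha⟩,
        Equiv.Perm.apply_mem_support.2 (Equiv.Perm.mem_support.2 fun e => hmove (congrArg Subtype.val e)),
        fun e => hmove (congrArg Subtype.val e).symm⟩
      have := Finset.card_le_two (a := (⟨a, ha⟩ : ↥o)) (b := ⟨a', (St_apply hb a).2 ha⟩)
      omega)
  simp only [Finset.mem_insert, Finset.mem_singleton, not_or] at hcs
  have hca : (c : GolayPt) ≠ a ∧ (c : GolayPt) ≠ a' := ⟨fun e => hcs.1 (Subtype.ext e), fun e => hcs.2 (Subtype.ext e)⟩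
  set c' := (b : Equiv.Perm GolayPt) c with hc'
  have hcm : c' ≠ c := fun e => Equiv.Perm.mem_support.1 hc (Subtype.ext ((hσ c).trans e))
  let φ : ↥(P6 L o) →* B := (MonoidHom.mk' (cm L b) (cm_mul L b)).comp (P6 L o).subtype
  have hker : φ.ker.map (P6 L o).subtype = P6 L o ⊓ fixS L {b} := by
    ext x
    constructor
    · rintro ⟨y, hy, rfl⟩
      refine ⟨y.2, ?_⟩
      intro g hg
      rw [Set.mem_singleton_iff.1 hg]
      exact (cm_eq_one_iff L b _).1 hy
    · rintro ⟨hx, hfx⟩
      exact ⟨⟨x, hx⟩, (cm_eq_one_iff L b x).2 (hfx b rfl), rfl⟩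
  obtain ⟨e, he, he3⟩ := Finset.exists_mem_notMem_of_card_lt_card (s := ({a, a', (c : GolayPt), c'} : Finset GolayPt))
    (t := o) (lt_of_le_of_lt ((Finset.card_insert_le _ _).trans (Nat.succ_le_succ Finset.card_le_three))
      (by rw [ho.2]; norm_num))
  simp only [Finset.mem_insert, Finset.mem_singleton, not_or] at he3
  set e' := (b : Equiv.Perm GolayPt) e
  set A := pr f a a' * pr f e e'
  set C := pr f (c : GolayPt) c' * pr f e e'
  have hA : A ∈ φ.range := ⟨⟨pr f a e, pr_mem_P6 L ha he⟩, cm_pr L b a e⟩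
  have hC : C ∈ φ.range := ⟨⟨pr f (c : GolayPt) e, pr_mem_P6 L c.2 he⟩, cm_pr L b _ e⟩
  have hAC : A * C ∈ φ.range := mul_mem hA hC
  have haa : a ≠ a' := Ne.symm hmove
  have hne : pr f a a' ≠ pr f (c : GolayPt) c' := fun h => by
    have hm : (c : GolayPt) ∈ ({a, a'} : Finset GolayPt) := L.pr_inj haa hcm.symm h ▸ Finset.mem_insert_self _ _
    simp [hca.1, hca.2] at hm
  have hAne : A ≠ 1 := fun h => by
    have h' : pr f a a' = pr f e e' := (mul_eq_one_iff_eq_inv.1 h).trans (L.inv_eq _)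
    by_cases hee : e = e'
    · rw [← hee, pr_self L] at h'
      exact L.pr_ne_one haa h'
    · have hm : e ∈ ({a, a'} : Finset GolayPt) := L.pr_inj haa hee h' ▸ Finset.mem_insert_self _ _
      simp [he3.1, he3.2.1] at hm
  have hCne : C ≠ 1 := fun h => by
    have h' : pr f (c : GolayPt) c' = pr f e e' := (mul_eq_one_iff_eq_inv.1 h).trans (L.inv_eq _)
    by_cases hee : e = e'
    · rw [← hee, pr_self L] at h'
      exact L.pr_ne_one hcm.symm h'
    · have hm : e ∈ ({(c : GolayPt), c'} : Finset GolayPt) := L.pr_inj hcm.symm hee h' ▸ Finset.mem_insert_self _ _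
      simp only [Finset.mem_insert, Finset.mem_singleton] at hm
      rcases hm with hm | hm
      exacts [he3.2.2.1 hm, he3.2.2.2 hm]
  have hACne : A ≠ C := fun h => hne (mul_right_cancel h)
  have h4r : 4 ≤ Nat.card ↥φ.range := by
    let g : Bool × Bool → ↥φ.range := fun p =>
      ⟨(if p.1 then A else 1) * (if p.2 then C else 1),
        mul_mem (by split <;> simp [hA, one_mem]) (by split <;> simp [hC, one_mem])⟩
    have hg : Function.Injective g := by
      rintro ⟨x, y⟩ ⟨x', y'⟩ h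
      have h' := congrArg Subtype.val h
      have hs : A * C ≠ 1 := fun e => hACne ((mul_eq_one_iff_eq_inv.1 e).trans (L.inv_eq _))
      cases x <;> cases y <;> cases x' <;> cases y' <;> simp [g] at h' ⊢ <;>
        first
          | exact hAne h' | exact hAne h'.symm | exact hCne h' | exact hCne h'.symm | exact hs h' | exact hs h'.symm
          | exact hACne h' | exact hACne h'.symm
          | exact hCne (mul_eq_left.1 h') | exact hCne (mul_eq_left.1 h'.symm)
          | exact hAne (mul_eq_right.1 h') | exact hAne (mul_eq_right.1 h'.symm)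
    have := Nat.card_le_card_of_injective g hg
    simpa using this
  have h := φ.ker.card_mul_index
  rw [Subgroup.index_ker] at h
  rw [← hker, Subgroup.card_map_of_injective (P6 L o).subtype_injective]
  have := card_P6_le L ho
  nlinarith

theorem fix_two_le {b b' : ↥M24} (hb : b ∈ St o) (hb' : b' ∈ St o) (h2 : b * b = 1) (h2' : b' * b' = 1)
    (hbW : b ∉ Wo o) (hbW' : b' ∉ Wo o) (hne : ∃ p ∈ o, (b : Equiv.Perm GolayPt) p ≠ (b' : Equiv.Perm GolayPt) p) :
    Nat.card ↥(P6 L o ⊓ fixS L {b, b'}) ≤ 8 := by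
  classical
  by_contra hc
  obtain ⟨i, -, hi⟩ := (Nat.dvd_prime_pow Nat.prime_two).1
    (L.cardB ▸ Subgroup.card_subgroup_dvd_card (P6 L o ⊓ fixS L {b, b'}))
  have h16 : 16 ≤ Nat.card ↥(P6 L o ⊓ fixS L {b, b'}) := by
    rw [hi] at hc ⊢
    by_contra h
    have : i < 4 := (Nat.pow_lt_pow_iff_right (by norm_num)).1 (show 2 ^ i < 2 ^ 4 by omega)
    have : 2 ^ i ≤ 2 ^ 3 := Nat.pow_le_pow_right (by norm_num) (by omega)
    omega
  have heq : ∀ d : ↥M24, (d = b ∨ d = b') → P6 L o ⊓ fixS L {b, b'} = P6 L o ⊓ fixS L {d} := fun d hd => by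
    refine Subgroup.eq_of_le_of_card_ge (inf_le_inf_left _ fun x hx g hg => ?_) ?_
    · rw [Set.mem_singleton_iff.1 hg]
      exact hx d (by rcases hd with rfl | rfl <;> simp)
    · rcases hd with rfl | rfl
      · exact (fix_one_le L ho hb h2 hbW).trans h16
      · exact (fix_one_le L ho hb' h2' hbW').trans h16
  have hiff : ∀ x ∈ o, ∀ y ∈ o, (L.act b (pr f x y) = pr f x y ↔ L.act b' (pr f x y) = pr f x y) := by
    intro x hx y hy
    have h : pr f x y ∈ P6 L o ⊓ fixS L {b} ↔ pr f x y ∈ P6 L o ⊓ fixS L {b'} := by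
      rw [← heq b (.inl rfl), ← heq b' (.inr rfl)]
    simpa [Subgroup.mem_inf, pr_mem_P6 L hx hy, mem_fixS] using h
  obtain ⟨x, hxo, hx⟩ := hne
  -- one of the two moves `x`, the other then fixes it and its image
  suffices key : ∀ d d' : ↥M24, d ∈ St o → d' ∈ St o → d' ∉ Wo o → d * d = 1 → d' * d' = 1 →
      (∀ x ∈ o, ∀ y ∈ o, (L.act d (pr f x y) = pr f x y ↔ L.act d' (pr f x y) = pr f x y)) →
      (d : Equiv.Perm GolayPt) x ≠ x → (d : Equiv.Perm GolayPt) x ≠ (d' : Equiv.Perm GolayPt) x → False by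
    by_cases h : (b : Equiv.Perm GolayPt) x = x
    · exact key b' b hb' hb hbW h2' h2 (fun x hx y hy => (hiff x hx y hy).symm)
        (fun e => hx (h.trans e.symm)) (Ne.symm hx)
    · exact key b b' hb hb' hbW' h2 h2' hiff h hx
  intro d d' hd hd' hdW' hd2 hd2' hiff hmove hdiff
  set y := (d : Equiv.Perm GolayPt) x with hy
  have hyo : y ∈ o := (St_apply hd x).2 hxo
  have hdy : (d : Equiv.Perm GolayPt) y = x := congrArg (fun g : ↥M24 => (g : Equiv.Perm GolayPt) x) hd2
  obtain ⟨hx', hy'⟩ : (d' : Equiv.Perm GolayPt) x = x ∧ (d' : Equiv.Perm GolayPt) y = y := by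
    rcases (act_pr_fix_iff L ho hmove.symm).1 ((hiff x hxo y hyo).1
      ((act_pr_fix_iff L ho hmove.symm).2 (.inr ⟨rfl, hdy⟩))) with h | h
    · exact h
    · exact absurd h.1.symm hdiff
  set σ := resHom o ⟨(d' : Equiv.Perm GolayPt), mem_St.1 hd'⟩
  have h4 := support_mod_four (σ := σ)
    (Equiv.ext fun p => Subtype.ext (congrArg (fun g : ↥M24 => (g : Equiv.Perm GolayPt) p) hd2')) (res_sign L ho hd')
  have hxy2 : ({⟨x, hxo⟩, ⟨y, hyo⟩} : Finset ↥o) ⊆ σ.supportᶜ := by
    intro p hp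
    rw [Finset.mem_compl, Equiv.Perm.notMem_support]
    simp only [Finset.mem_insert, Finset.mem_singleton] at hp
    rcases hp with rfl | rfl
    exacts [Subtype.ext hx', Subtype.ext hy']
  have h8 : σ.supportᶜ.card = 8 - σ.support.card := by rw [Finset.card_compl, Fintype.card_coe, ho.2]
  have h2c := Finset.card_le_card hxy2
  rw [Finset.card_pair (fun e => hmove (congrArg Subtype.val e).symm)] at h2c
  have hpos : σ.support.card ≠ 0 := fun h => by
    refine hdW' (mem_Wo.2 fun p hp => ?_)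
    rw [Finset.card_eq_zero, Equiv.Perm.support_eq_empty_iff] at h
    exact congrArg Subtype.val (Equiv.congr_fun h ⟨p, hp⟩)
  obtain ⟨e, he, he2⟩ := Finset.exists_mem_notMem_of_card_lt_card
    (s := ({⟨x, hxo⟩, ⟨y, hyo⟩} : Finset ↥o)) (t := σ.supportᶜ) (by
      rw [Finset.card_pair (fun e => hmove (congrArg Subtype.val e).symm)]
      omega)
  simp only [Finset.mem_insert, Finset.mem_singleton, not_or] at he2
  rw [Finset.mem_compl, Equiv.Perm.notMem_support] at he
  have hex : x ≠ (e : GolayPt) := fun h => he2.1 (Subtype.ext h.symm)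
  rcases (act_pr_fix_iff L ho hex).1 ((hiff x hxo e e.2).2
      ((act_pr_fix_iff L ho hex).2 (.inl ⟨hx', congrArg Subtype.val he⟩))) with h | h
  · exact hmove h.1
  · exact he2.2 (Subtype.ext h.1.symm)

omit ho in
/-- The classification. -/
theorem classify {K : Subgroup ↥M24} (hK2 : ∀ g ∈ K, g * g = 1) (hne : K ≠ ⊥)
    (h : 2 ^ 10 ≤ Nat.card ↥K * Nat.card ↥(fixS L (K : Set ↥M24))) : ∃ o ∈ octads, K = Wo o := by
  classical
  have hcomm : ∀ g ∈ K, ∀ h ∈ K, g * h = h * g := fun g hg h hh => by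
    calc g * h = g * (g * h * (g * h)) * h := by rw [hK2 _ (mul_mem hg hh), mul_one]
      _ = (g * g) * (h * g) * (h * h) := by simp only [mul_assoc]
      _ = h * g := by rw [hK2 g hg, hK2 h hh, one_mul, mul_one]
  have hP : IsPGroup 2 ↥K := fun g => ⟨1, by rw [pow_one, pow_two]; exact Subtype.ext (hK2 g g.2)⟩
  obtain ⟨n, hn⟩ := (IsPGroup.iff_card).1 hP
  obtain ⟨g₁, hg₁, hg₁1⟩ := (K.ne_bot_iff_exists_ne_one.1 hne).elim fun g hg =>
    (⟨g.1, g.2, fun e => hg (Subtype.ext e)⟩ : ∃ g, g ∈ K ∧ g ≠ 1)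
  have hmono : ∀ g ∈ K, fixS L (K : Set ↥M24) ≤ fixS L {g} := fun g hg x hx d hd => by
    rw [Set.mem_singleton_iff.1 hd]
    exact hx g hg
  by_cases hex : ∃ g ∈ K, g ≠ 1 ∧ ∃ p, (g : Equiv.Perm GolayPt) p = p
  swap
  · exfalso
    have h8 : 2 ^ n ≤ 8 := by
      have hfree : ∀ p : GolayPt, (Finset.univ.image fun k : ↥K => ((k : ↥M24) : Equiv.Perm GolayPt) p).card = 2 ^ n := by
        intro p
        rw [Finset.card_image_of_injective, Finset.card_univ, ← Nat.card_eq_fintype_card, hn]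
        intro k l e
        by_contra hkl
        refine hex ⟨(l : ↥M24)⁻¹ * k, mul_mem (inv_mem l.2) k.2, fun e' => hkl (Subtype.ext (inv_mul_eq_one.1 e').symm),
          p, ?_⟩
        show ((l : ↥M24) : Equiv.Perm GolayPt).symm (((k : ↥M24) : Equiv.Perm GolayPt) p) = p
        rw [show ((k : ↥M24) : Equiv.Perm GolayPt) p = ((l : ↥M24) : Equiv.Perm GolayPt) p from e,
          Equiv.symm_apply_apply]
      set O := Finset.univ.image fun k : ↥K => ((k : ↥M24) : Equiv.Perm GolayPt) none with hO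
      have h24 : Fintype.card GolayPt = 24 := by rw [Fintype.card_congr ptEquiv, Fintype.card_fin]
      have h1 : 2 ^ n ≤ 24 := (hfree none).symm.le.trans ((Finset.card_le_univ _).trans h24.le)
      by_contra hgt
      have hn5 : n < 5 := (Nat.pow_lt_pow_iff_right (by norm_num)).1 (show 2 ^ n < 2 ^ 5 by omega)
      have hn3 : 3 < n := (Nat.pow_lt_pow_iff_right (by norm_num)).1 (show 2 ^ 3 < 2 ^ n by omega)
      have hn4 : n = 4 := by omega
      obtain ⟨q, -, hq⟩ := Finset.exists_mem_notMem_of_card_lt_card (s := O) (t := Finset.univ)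
        (by rw [hfree none, Finset.card_univ, h24, hn4]; norm_num)
      have hd : Disjoint O (Finset.univ.image fun k : ↥K => ((k : ↥M24) : Equiv.Perm GolayPt) q) := by
        rw [Finset.disjoint_left]
        intro r hr hr'
        obtain ⟨k, -, rfl⟩ := Finset.mem_image.1 hr
        obtain ⟨l, -, e⟩ := Finset.mem_image.1 hr'
        refine hq (Finset.mem_image.2 ⟨l⁻¹ * k, Finset.mem_univ _, ?_⟩)
        show ((l : ↥M24) : Equiv.Perm GolayPt).symm (((k : ↥M24) : Equiv.Perm GolayPt) none) = q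
        rw [← e, Equiv.symm_apply_apply]
      have := Finset.card_le_univ (O ∪ Finset.univ.image fun k : ↥K => ((k : ↥M24) : Equiv.Perm GolayPt) q)
      rw [Finset.card_union_of_disjoint hd, hfree none, hfree q, h24, hn4] at this
      omega
    have hfx := (Subgroup.card_le_of_le (hmono g₁ hg₁)).trans
      (fixed_fpf L (hK2 g₁ hg₁) fun p hp => hex ⟨g₁, hg₁, hg₁1, p, hp⟩)
    rw [hn] at h
    nlinarith
  obtain ⟨u, huK, hu1, p, hup⟩ := hex
  set o := Finset.univ.filter fun q => (u : Equiv.Perm GolayPt) q = q with ho'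
  have ho : o ∈ octads := exists_octad_of_fix u.2 (congrArg Subtype.val (hK2 u huK)) (fun e => hu1 (Subtype.ext e)) hup
  have huW : u ∈ Wo o := mem_Wo.2 fun q hq => (Finset.mem_filter.1 hq).2
  have hKSt : K ≤ St o := fun g hg => by
    have hc := congrArg Subtype.val (hcomm g hg u huK)
    have h' : (g : Equiv.Perm GolayPt) * (u : Equiv.Perm GolayPt) * (g : Equiv.Perm GolayPt)⁻¹ = u :=
      mul_inv_eq_iff_eq_mul.2 hc
    have := conj_fixed_set (g : Equiv.Perm GolayPt) (u : Equiv.Perm GolayPt)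
    rw [h'] at this
    exact this.symm
  obtain ⟨x₀, hx₀'⟩ : ∃ x, x ∉ o := by
    obtain ⟨x, -, hx⟩ := Finset.exists_mem_notMem_of_card_lt_card (s := o) (t := Finset.univ)
      (by rw [ho.2, Finset.card_univ, Fintype.card_congr ptEquiv, Fintype.card_fin]; norm_num)
    exact ⟨x, hx⟩
  refine ⟨o, ho, ?_⟩
  set K1 := K ⊓ Wo o
  set F := fixS L (K : Set ↥M24)
  set CP := P6 L o ⊓ F
  let r : ↥K →* Equiv.Perm ↥o := (resHom o).comp
    { toFun := fun g => ⟨((g : ↥M24) : Equiv.Perm GolayPt), mem_St.1 (hKSt g.2)⟩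
      map_one' := rfl
      map_mul' := fun _ _ => rfl }
  have hrker : ∀ g : ↥K, r g = 1 ↔ (g : ↥M24) ∈ Wo o := fun g => by
    rw [mem_Wo]
    exact resHom_eq_one
  have hcard : Nat.card ↥K = Nat.card ↥K1 * Nat.card ↥r.range := by
    rw [← r.ker.card_mul_index, Subgroup.index_ker]
    congr 1
    exact Nat.card_congr ⟨fun g => ⟨g.1.1, g.1.2, (hrker g.1).1 g.2⟩,
      fun g => ⟨⟨g.1, g.2.1⟩, (hrker _).2 g.2.2⟩, fun _ => rfl, fun _ => rfl⟩
  have hr16 : Nat.card ↥r.range ≤ 16 := by
    have := card_sq_le (α := ↥o) 8 Finset.univ (by rw [Finset.card_univ, Fintype.card_coe, ho.2]) r.range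
      (by rintro _ ⟨g, rfl⟩; rw [← map_mul, show g * g = 1 from Subtype.ext (hK2 g g.2), map_one])
      (fun g _ x hx => absurd (Finset.mem_univ x) hx)
    nlinarith
  have hK1le : Nat.card ↥K1 ≤ 16 := (Subgroup.card_le_of_le inf_le_right).trans (card_Wo ho).le
  have hK1two : 2 ≤ Nat.card ↥K1 := by
    have : Nontrivial ↥K1 := ⟨⟨⟨u, huK, huW⟩, 1, fun e => hu1 (congrArg Subtype.val e)⟩⟩
    exact Finite.one_lt_card
  obtain ⟨i, -, hi⟩ := (Nat.dvd_prime_pow Nat.prime_two).1
    (show Nat.card ↥K1 ∣ 2 ^ 4 by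
      have h0 := Subgroup.card_dvd_of_le (inf_le_right : K1 ≤ Wo o)
      rw [card_Wo ho] at h0
      exact h0)
  -- the fixed space is at most twice its part inside the octad group
  have hFle : Nat.card ↥F ≤ 2 * Nat.card ↥CP := by
    by_cases hFP : F ≤ P6 L o
    · rw [show CP = F from inf_eq_right.2 hFP]
      omega
    · obtain ⟨x, hx, hxP⟩ := SetLike.not_le_iff_exists.1 hFP
      let φ : ↥F → ↥CP × Bool := fun y => if hy : (y : B) ∈ P6 L o then (⟨y, hy, y.2⟩, false) else
        (⟨y * x, by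
          have h1 := ((fixed_iff L ho hx₀' huW hu1 x).1 (hx u huK)).resolve_left hxP
          have h2 := ((fixed_iff L ho hx₀' huW hu1 y).1 (y.2 u huK)).resolve_left hy
          have h3 := mul_mem h2 h1
          rwa [mul_mul_mul_comm, L.sq, mul_one] at h3, mul_mem y.2 hx⟩, true)
      have hφ : Function.Injective φ := by
        intro y z e
        simp only [φ] at e
        split_ifs at e with h1 h2 h2
        · exact Subtype.ext (congrArg (fun w : ↥CP × Bool => (w.1 : B)) e)
        · exact absurd (congrArg Prod.snd e) (by simp)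
        · exact absurd (congrArg Prod.snd e) (by simp)
        · exact Subtype.ext (mul_right_cancel (congrArg (fun w : ↥CP × Bool => (w.1 : B)) e))
      have := Nat.card_le_card_of_injective φ hφ
      rwa [Nat.card_prod, Nat.card_eq_fintype_card (α := Bool), Fintype.card_bool, mul_comm] at this
  have hfour : 4 ≤ Nat.card ↥K1 → Nat.card ↥F ≤ Nat.card ↥CP := by
    intro h4
    have hall : F ≤ P6 L o := by
      intro x hx
      obtain ⟨v, hv, hvu⟩ : ∃ v ∈ K1, v ≠ 1 ∧ v ≠ u := by
        by_contra hc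
        simp only [not_exists, not_and, not_not] at hc
        have hsub : (K1 : Set ↥M24) ⊆ {1, u} := fun v hv => by
          by_cases hv1 : v = 1
          · exact .inl hv1
          · exact .inr (hc v hv hv1)
        have := (Set.ncard_le_ncard hsub (Set.toFinite _)).trans ((Set.ncard_insert_le _ _).trans (by rw [Set.ncard_singleton]))
        rw [← Nat.card_coe_set_eq] at this
        exact absurd (h4.trans this) (by norm_num)
      exact fixed_two L ho hx₀' huW hv.2 hu1 hvu.1 hvu.2.symm (hx u huK) (hx v hv.1)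
    exact Subgroup.card_le_of_le (le_inf hall le_rfl)
  by_cases hr1 : Nat.card ↥r.range = 1
  · have hKW : K ≤ Wo o := fun g hg => (hrker ⟨g, hg⟩).1 (by
      have : r ⟨g, hg⟩ ∈ r.range := ⟨_, rfl⟩
      rw [Subgroup.card_eq_one.1 hr1] at this
      exact this)
    refine Subgroup.eq_of_le_of_card_ge hKW ?_
    rw [card_Wo ho]
    by_contra hlt
    have h64 := (Subgroup.card_le_of_le (inf_le_left : CP ≤ P6 L o)).trans (card_P6_le L ho)
    rw [hcard, hr1, mul_one, hi] at h hlt
    have hi4 : i < 4 := (Nat.pow_lt_pow_iff_right (by norm_num)).1 (show 2 ^ i < 2 ^ 4 by omega)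
    by_cases hi2 : 2 ≤ i
    · have := hfour (by rw [hi]; exact le_trans (by norm_num) (Nat.pow_le_pow_right (by norm_num) hi2))
      have : 2 ^ i ≤ 8 := le_trans (Nat.pow_le_pow_right (by norm_num) (show i ≤ 3 by omega)) (by norm_num)
      nlinarith
    · have : 2 ^ i ≤ 2 := le_trans (Nat.pow_le_pow_right (by norm_num) (show i ≤ 1 by omega)) (by norm_num)
      nlinarith
  exfalso
  obtain ⟨b, hbW⟩ : ∃ b : ↥K, (b : ↥M24) ∉ Wo o := by
    by_contra hc
    simp only [not_exists, not_not] at hc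
    refine hr1 (Subgroup.card_eq_one.2 (eq_bot_iff.2 ?_))
    rintro _ ⟨g, rfl⟩
    exact Subgroup.mem_bot.2 ((hrker g).2 (hc g))
  have hcp16 : Nat.card ↥CP ≤ 16 :=
    (Subgroup.card_le_of_le (inf_le_inf_left _ (hmono b b.2))).trans (fix_one_le L ho (hKSt b.2) (hK2 b b.2) hbW)
  have hi3 : i ≤ 3 := by
    by_contra hgt
    have h16 : K1 = Wo o := Subgroup.eq_of_le_of_card_ge inf_le_right (by
      rw [card_Wo ho, hi]; exact le_trans (by norm_num) (Nat.pow_le_pow_right (by norm_num) (show 4 ≤ i by omega)))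
    obtain ⟨w, hw, hwb⟩ := Wo_trans ho hx₀' (fun h => hx₀' ((St_apply (hKSt b.2) x₀).1 h))
    have hwK : w ∈ K := (h16.symm ▸ hw : w ∈ K1).1
    set k := w⁻¹ * (b : ↥M24) with hk
    have hkK : k ∈ K := mul_mem (inv_mem hwK) b.2
    have hkx : (k : Equiv.Perm GolayPt) x₀ = x₀ := by
      show (w : Equiv.Perm GolayPt).symm (((b : ↥M24) : Equiv.Perm GolayPt) x₀) = x₀
      rw [← hwb, Equiv.symm_apply_apply]
    have hkfix : ∀ q, q ∉ o → (k : Equiv.Perm GolayPt) q = q := by
      intro q hq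
      obtain ⟨v, hv, rfl⟩ := Wo_trans ho hx₀' hq
      show ((k * v : ↥M24) : Equiv.Perm GolayPt) x₀ = _
      rw [hcomm k hkK v (h16.symm ▸ hv : v ∈ K1).1]
      show (v : Equiv.Perm GolayPt) ((k : Equiv.Perm GolayPt) x₀) = _
      rw [hkx]
    have hk1 : k = 1 := Subtype.ext (by
      by_contra hk1
      have := fixed_le_eight k.2 hk1
      have := (Finset.card_le_card (s := oᶜ) (fun q hq => Finset.mem_filter.2
        ⟨Finset.mem_univ q, hkfix q (Finset.mem_compl.1 hq)⟩)).trans this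
      rw [card_compl ho] at this
      omega)
    exact hbW ((inv_mul_eq_one.1 hk1) ▸ hw)
  have hr8 : Nat.card ↥K1 = 8 → Nat.card ↥r.range ≤ 8 := by
    intro h8
    obtain ⟨w, hw, hwK⟩ := SetLike.not_le_iff_exists.1
      (fun hle : Wo o ≤ K1 => by have := Subgroup.card_le_of_le hle; rw [card_Wo ho, h8] at this; omega)
    have hgen : ∀ c ∈ Wo o, c ∈ K1 ∨ ∃ v ∈ K1, c = w * v := by
      classical
      intro c hc
      by_contra hcn
      simp only [not_or, not_exists, not_and] at hcn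
      have hsub : ((K1 : Set ↥M24) ∪ (fun v => w * v) '' (K1 : Set ↥M24)) ⊆ (Wo o : Set ↥M24) \ {c} := by
        rintro d (hd | ⟨v, hv, rfl⟩)
        · exact ⟨hd.2, fun e => hcn.1 (e ▸ hd)⟩
        · exact ⟨mul_mem hw hv.2, fun e => hcn.2 v hv e.symm⟩
      have hle := Set.ncard_le_ncard hsub (Set.toFinite _)
      rw [Set.ncard_union_eq _ (Set.toFinite _) (Set.toFinite _),
        Set.ncard_image_of_injective _ (mul_right_injective w), ← Nat.card_coe_set_eq,
        Set.ncard_diff_singleton_of_mem hc, ← Nat.card_coe_set_eq] at hle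
      · rw [show Nat.card ↥(K1 : Set ↥M24) = 8 from h8, show Nat.card ↥(Wo o : Set ↥M24) = 16 from card_Wo ho] at hle
        omega
      · rw [Set.disjoint_left]
        rintro d hd ⟨v, hv, rfl⟩
        exact hwK (by simpa using mul_mem hd (inv_mem hv))
    set S := (Set.toFinite (K : Set ↥M24)).toFinset
    have hS : ∀ {g}, g ∈ S ↔ g ∈ K := Set.Finite.mem_toFinset _
    have himg : (S.image fun g => g * w * g⁻¹) ⊆ (Set.toFinite ((Wo o : Set ↥M24) \ K1)).toFinset := by
      intro d hd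
      obtain ⟨g, hg, rfl⟩ := Finset.mem_image.1 hd
      rw [hS] at hg
      rw [Set.Finite.mem_toFinset]
      refine ⟨Wo_conj (hKSt hg) hw, fun hmem => hwK ?_⟩
      have : w = g * w * g⁻¹ := by
        have e := hcomm g hg _ hmem.1
        calc w = g⁻¹ * ((g * w * g⁻¹) * g) := by group
          _ = g * w * g⁻¹ := by rw [← e]; group
      exact this.symm ▸ hmem
    have hle := Finset.card_le_mul_card_image (f := fun g => g * w * g⁻¹) S 8 fun d hd => by
      obtain ⟨g₀, hg₀, rfl⟩ := Finset.mem_image.1 hd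
      rw [hS] at hg₀
      rw [← h8, ← Nat.card_eq_finsetCard]
      refine Nat.card_le_card_of_injective
        (fun g => (⟨g₀⁻¹ * g.1, ?_⟩ : ↥K1)) fun g g' e => Subtype.ext (mul_left_cancel (congrArg Subtype.val e))
      obtain ⟨hg, e⟩ := Finset.mem_filter.1 g.2
      rw [hS] at hg
      have hkK : g₀⁻¹ * g.1 ∈ K := mul_mem (inv_mem hg₀) hg
      refine ⟨hkK, ?_⟩
      set k := g₀⁻¹ * g.1
      have hkw : k * w = w * k := by
        show g₀⁻¹ * g.1 * w = w * (g₀⁻¹ * g.1)
        calc g₀⁻¹ * g.1 * w = g₀⁻¹ * (g.1 * w * g.1⁻¹) * g.1 := by group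
          _ = _ := by rw [e]; group
      have hkv : ∀ c ∈ Wo o, k * c = c * k := fun c hc => by
        rcases hgen c hc with hc' | ⟨v, hv, rfl⟩
        · exact hcomm k hkK c hc'.1
        · rw [← mul_assoc, hkw, mul_assoc, hcomm k hkK v hv.1, mul_assoc]
      obtain ⟨c, hc, hcx⟩ := Wo_trans ho hx₀' (fun h => hx₀' ((St_apply (hKSt hkK) x₀).1 h))
      have hk' : ∀ q, q ∉ o → (k : Equiv.Perm GolayPt) q = (c : Equiv.Perm GolayPt) q := by
        intro q hq
        obtain ⟨v, hv, rfl⟩ := Wo_trans ho hx₀' hq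
        show ((k * v : ↥M24) : Equiv.Perm GolayPt) x₀ = ((c * v : ↥M24) : Equiv.Perm GolayPt) x₀
        rw [hkv v hv, Wo_comm ho hc hv]
        show (v : Equiv.Perm GolayPt) ((k : Equiv.Perm GolayPt) x₀) = (v : Equiv.Perm GolayPt) ((c : Equiv.Perm GolayPt) x₀)
        rw [hcx]
      have : c⁻¹ * k = 1 := Subtype.ext (by
        by_contra hne1
        have := fixed_le_eight (c⁻¹ * k).2 hne1
        have := (Finset.card_le_card (s := oᶜ) (fun q hq => Finset.mem_filter.2
          ⟨Finset.mem_univ q, (by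
            show (c : Equiv.Perm GolayPt).symm ((k : Equiv.Perm GolayPt) q) = q
            rw [hk' q (Finset.mem_compl.1 hq), Equiv.symm_apply_apply])⟩)).trans this
        rw [card_compl ho] at this
        omega)
      rwa [← inv_mul_eq_one.1 this]
    have h1 := Finset.card_le_card himg
    rw [← Set.ncard_eq_toFinset_card, Set.ncard_diff (show (K1 : Set ↥M24) ⊆ Wo o from inf_le_right),
      ← Nat.card_coe_set_eq, ← Nat.card_coe_set_eq, show Nat.card ↥(K1 : Set ↥M24) = 8 from h8,
      show Nat.card ↥(Wo o : Set ↥M24) = 16 from card_Wo ho] at h1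
    have hSc : S.card = Nat.card ↥K := by
      rw [← Set.ncard_eq_toFinset_card, ← Nat.card_coe_set_eq]
      rfl
    rw [hSc, hcard, h8] at hle
    omega
  rw [hcard] at h
  by_cases hbig : Nat.card ↥r.range ≤ 2
  · have hK1' : Nat.card ↥K1 ≤ 8 := by rw [hi]; exact Nat.pow_le_pow_right (by norm_num) hi3
    have : Nat.card ↥K1 * Nat.card ↥r.range ≤ 16 := by nlinarith
    nlinarith
  · obtain ⟨σ, hσ, hσ1, hσb⟩ : ∃ σ ∈ r.range, σ ≠ 1 ∧ σ ≠ r b := by
      by_contra hc
      simp only [not_exists, not_and, not_not] at hc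
      refine hbig ?_
      rw [← SetLike.coe_sort_coe, Nat.card_coe_set_eq]
      refine (Set.ncard_le_ncard (t := {1, r b}) (fun σ hσ => ?_) (Set.toFinite _)).trans
        ((Set.ncard_insert_le _ _).trans (by rw [Set.ncard_singleton]))
      by_cases h1 : σ = 1
      · exact .inl h1
      · exact .inr (hc σ hσ h1)
    obtain ⟨b', rfl⟩ := hσ
    have hcp8 : Nat.card ↥CP ≤ 8 := by
      refine (Subgroup.card_le_of_le (inf_le_inf_left _ fun x hx g hg => ?_)).trans
        (fix_two_le L ho (hKSt b.2) (hKSt b'.2) (hK2 b b.2) (hK2 b' b'.2) hbW (fun h => hσ1 ((hrker b').2 h)) ?_)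
      · simp only [Set.mem_insert_iff, Set.mem_singleton_iff] at hg
        rcases hg with rfl | rfl
        exacts [hx _ b.2, hx _ b'.2]
      · by_contra hc
        simp only [not_exists, not_and, not_not] at hc
        exact hσb (Equiv.ext fun q => Subtype.ext (hc q q.2).symm)
    by_cases hi2 : 2 ≤ i
    · have := hfour (by rw [hi]; exact le_trans (by norm_num) (Nat.pow_le_pow_right (by norm_num) hi2))
      rcases (show i = 2 ∨ i = 3 by omega) with e | e <;> subst e
      · rw [hi] at h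
        nlinarith
      · have := hr8 hi
        rw [hi] at h
        nlinarith
    · have : Nat.card ↥K1 ≤ 2 := by
        rw [hi]; exact le_trans (Nat.pow_le_pow_right (by norm_num) (show i ≤ 1 by omega)) (by norm_num)
      have : Nat.card ↥K1 * Nat.card ↥r.range ≤ 32 := by nlinarith
      nlinarith

end CfsgLib.JankoFour.TwoTen
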