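import Cfsg.Agent.Lib.JankoFour.TwoTen.Module
import Mathlib.Logic.Equiv.Fintype

/-!
# The stabiliser of the octad on the group of order 64: generation and the orbits on the outer classes
-/

set_option autoImplicit false
set_option linter.unusedSectionVars false

namespace CfsgLib.JankoFour.TwoTen

open Cfsg CfsgLib.Golay CfsgLib.M24Cert
open scoped Pointwise symmDiff

variable {B : Type*} [CommGroup B] [Finite B] {f : GolayPt → B} (L : Lab f) {o : Finset GolayPt}
include L

/-- The commutators with an element, as a homomorphism. -/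
noncomputable def cmHom (u : ↥M24) : B →* B := MonoidHom.mk' (cm L u) (cm_mul L u)

/-- The commutators with the elements meeting the octad evenly. -/
noncomputable def Low (o : Finset GolayPt) (u : ↥M24) : Subgroup B := (V0 L o).map (cmHom L u)

theorem mem_Low {u : ↥M24} {y : B} : y ∈ Low L o u ↔ ∃ x ∈ V0 L o, cm L u x = y := Iff.rfl

theorem act_cm (k u : ↥M24) (x : B) : L.act k (cm L u x) = cm L (k * u * k⁻¹) (L.act k x) := by
  rw [cm, cm, map_mul, ← MulAut.mul_apply, ← MulAut.mul_apply (e₁ := L.act (k * u * k⁻¹)), ← map_mul, ← map_mul,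
    inv_mul_cancel_right]

variable (ho : o ∈ octads) {x₀ : GolayPt} (hx₀ : x₀ ∉ o)
include ho hx₀

theorem act_dd {k v : ↥M24} (hk : k ∈ Sp o x₀) : L.act k (dd f x₀ v) = dd f x₀ (k * v * k⁻¹) := by
  have h := (mem_Sp.1 hk).2
  rw [dd, L.act_pr, dd, h]
  show pr f x₀ _ = pr f x₀ ((k : Equiv.Perm GolayPt) ((v : Equiv.Perm GolayPt) ((k : Equiv.Perm GolayPt).symm x₀)))
  rw [show (k : Equiv.Perm GolayPt).symm x₀ = x₀ from (Equiv.symm_apply_eq _).2 h.symm]

theorem act_Low {k u : ↥M24} (hk : k ∈ St o) {y : B} (hy : y ∈ Low L o u) :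
    L.act k y ∈ Low L o (k * u * k⁻¹) := by
  obtain ⟨x, hx, rfl⟩ := (mem_Low L).1 hy
  exact (mem_Low L).2 ⟨_, act_V0 L hk hx, (act_cm L k u x).symm⟩

theorem Low_le {u : ↥M24} (hu : u ∈ Wo o) : Low L o u ≤ P6 L o := fun y hy => by
  obtain ⟨x, hx, rfl⟩ := (mem_Low L).1 hy
  exact cm_V0 L ho hx₀ hu hx

/-- The commutators of the group with the pairs of the point generate the group of order 64. -/
theorem cm_span : Subgroup.closure {y | ∃ u ∈ Wo o, ∃ v ∈ Wo o, cm L u (dd f x₀ v) = y} = P6 L o := by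
  classical
  set H := Subgroup.closure {y | ∃ u ∈ Wo o, ∃ v ∈ Wo o, cm L u (dd f x₀ v) = y} with hH
  refine le_antisymm ((Subgroup.closure_le _).2 ?_) ?_
  · rintro _ ⟨u, hu, v, hv, rfl⟩
    exact cm_dd_mem L ho hx₀ hu hv
  have hinv : ∀ k ∈ Sp o x₀, ∀ y ∈ H, L.act k y ∈ H := by
    intro k hk y hy
    induction hy using Subgroup.closure_induction with
    | mem y hy =>
      obtain ⟨u, hu, v, hv, rfl⟩ := hy
      refine Subgroup.subset_closure ⟨_, Wo_conj (mem_Sp.1 hk).1 hu, _, Wo_conj (mem_Sp.1 hk).1 hv, ?_⟩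
      rw [act_cm, act_dd L ho hx₀ hk]
    | one => simp
    | mul a b _ _ ha hb => rw [map_mul]; exact mul_mem ha hb
    | inv a _ ha => rw [map_inv]; exact inv_mem ha
  obtain ⟨y, hy, hy'⟩ := Finset.exists_mem_notMem_of_card_lt_card (s := ({x₀} : Finset GolayPt)) (t := oᶜ)
    (by rw [Finset.card_singleton, card_compl ho]; norm_num)
  obtain ⟨y', hy₂, hy₂'⟩ := Finset.exists_mem_notMem_of_card_lt_card (s := ({x₀, y} : Finset GolayPt)) (t := oᶜ)
    (lt_of_le_of_lt Finset.card_le_two (by rw [card_compl ho]; norm_num))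
  simp only [Finset.mem_singleton, Finset.mem_insert, not_or] at hy' hy₂'
  obtain ⟨u, hu, hu'⟩ := Wo_trans ho hx₀ (Finset.mem_compl.1 hy)
  obtain ⟨v, hv, hv'⟩ := Wo_trans ho hx₀ (Finset.mem_compl.1 hy₂)
  have hu1 : u ≠ 1 := by rintro rfl; exact hy' hu'.symm
  have hv1 : v ≠ 1 := by rintro rfl; exact hy₂'.1 hv'.symm
  have huv : u ≠ v := by rintro rfl; exact hy₂'.2 (hv'.symm.trans hu')
  obtain ⟨-, t₀, ht₀, h4, e₀⟩ := cm_dd_tetrad L ho hx₀ hu hv hu1 hv1 huv
  have hfour : ∀ t ⊆ o, t.card = 4 → ev f (indW t) ∈ H := by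
    intro t ht ht4
    let P : ↥o → Prop := fun p => (p : GolayPt) ∈ t₀
    let Q : ↥o → Prop := fun p => (p : GolayPt) ∈ t
    have hc : ∀ s ⊆ o, Nat.card {p : ↥o // (p : GolayPt) ∈ s} = s.card := fun s hs => by
      rw [← Nat.card_eq_finsetCard]
      exact Nat.card_congr ⟨fun p => ⟨p.1.1, p.2⟩, fun p => ⟨⟨p.1, hs p.2⟩, p.2⟩, fun _ => rfl, fun _ => rfl⟩
    obtain ⟨e⟩ : Nonempty ({p : ↥o // P p} ≃ {p : ↥o // Q p}) :=
      Finite.card_eq.1 (by rw [hc t₀ ht₀, hc t ht, h4, ht4])
    set σ₀ := e.extendSubtype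
    obtain ⟨a, b, hab, ha, hb⟩ : ∃ a b : ↥o, a ≠ b ∧ Q a ∧ Q b := by
      obtain ⟨a, ha, b, hb, hab⟩ := Finset.one_lt_card.1 (show 1 < t.card by omega)
      exact ⟨⟨a, ht ha⟩, ⟨b, ht hb⟩, fun e => hab (congrArg Subtype.val e), ha, hb⟩
    have hswap : ∀ p, Q p → Q (Equiv.swap a b p) := fun p hp => by
      rw [Equiv.swap_apply_def]
      split_ifs with h1 h2
      exacts [hb, ha, hp]
    obtain ⟨σ, hσ, hσQ⟩ : ∃ σ ∈ alternatingGroup ↥o, ∀ p, P p → Q (σ p) := by
      rcases Int.units_eq_one_or (Equiv.Perm.sign σ₀) with h | h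
      · exact ⟨σ₀, Equiv.Perm.mem_alternatingGroup.2 h, fun p hp => e.extendSubtype_mem p hp⟩
      · refine ⟨Equiv.swap a b * σ₀, Equiv.Perm.mem_alternatingGroup.2 ?_,
          fun p hp => hswap _ (e.extendSubtype_mem p hp)⟩
        rw [map_mul, Equiv.Perm.sign_swap hab, h]
        rfl
    obtain ⟨k, hk, hkσ⟩ := Sp_realise ho hx₀ hσ
    have himg : (k : Equiv.Perm GolayPt) • t₀ = t := by
      refine Finset.eq_of_subset_of_card_le (fun p hp => ?_) (by rw [Finset.card_smul_finset, h4, ht4])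
      obtain ⟨q, hq, rfl⟩ := Finset.mem_smul_finset.1 hp
      rw [Equiv.Perm.smul_def, hkσ ⟨q, ht₀ hq⟩]
      exact hσQ ⟨q, ht₀ hq⟩ hq
    have := hinv k hk _ (show ev f (indW t₀) ∈ H from e₀ ▸ Subgroup.subset_closure ⟨u, hu, v, hv, rfl⟩)
    rwa [L.act_ev k (even_iff_card.2 (by rw [h4]; norm_num)), actW_indW, himg] at this
  rintro _ ⟨t, ht, ht2, rfl⟩
  obtain ⟨q, hq⟩ := Finset.card_pos.1 (show 0 < o.card by rw [ho.2]; norm_num)
  refine ev_mem_of_supp L H (S := o) (q := q) (fun a ha => ?_) (even_iff_card.2 ht2)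
    fun p hp => by_contra fun h => hp (if_neg fun h' => h (ht h'))
  by_cases haq : a = q
  · rw [haq, pr_self L]
    exact one_mem _
  obtain ⟨r, hr, hr3⟩ := Finset.exists_subset_card_eq (show 3 ≤ (o \ {a, q}).card by
    rw [Finset.card_sdiff_of_subset (by simp [Finset.insert_subset_iff, ha, hq]), Finset.card_pair haq, ho.2]
    norm_num)
  have har : a ∉ r ∧ q ∉ r := ⟨fun h => by simpa using (Finset.mem_sdiff.1 (hr h)).2,
    fun h => by simpa using (Finset.mem_sdiff.1 (hr h)).2⟩
  have hro : r ⊆ o := hr.trans Finset.sdiff_subset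
  have h1 := hfour (insert a r) (Finset.insert_subset ha hro) (by rw [Finset.card_insert_of_notMem har.1, hr3])
  have h2 := hfour (insert q r) (Finset.insert_subset hq hro) (by rw [Finset.card_insert_of_notMem har.2, hr3])
  have h3 := mul_mem h1 h2
  rw [← L.ev_add, ← indW_symmDiff] at h3
  have e : (insert a r) ∆ (insert q r) = ({a, q} : Finset GolayPt) := by
    ext p
    simp only [Finset.mem_symmDiff, Finset.mem_insert, Finset.mem_singleton]
    by_cases h : p ∈ r
    · simp [h, show p ≠ a from fun e => har.1 (e ▸ h), show p ≠ q from fun e => har.2 (e ▸ h)]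
    · simp only [h, or_false]
      constructor
      · rintro (⟨h1, -⟩ | ⟨h1, -⟩) <;> simp [h1]
      · rintro (rfl | rfl)
        · exact .inl ⟨rfl, haq⟩
        · exact .inr ⟨rfl, fun e => haq e.symm⟩
  rwa [e, ev_pair_indW L haq] at h3

theorem card_Low {u : ↥M24} (hu : u ∈ Wo o) (h1 : u ≠ 1) : 8 ≤ Nat.card ↥(Low L o u) := by
  classical
  set W := (Set.toFinite (Wo o : Set ↥M24)).toFinset
  have hW : ∀ {v}, v ∈ W ↔ v ∈ Wo o := Set.Finite.mem_toFinset _
  have hle := Finset.card_le_mul_card_image (f := fun v => cm L u (dd f x₀ v)) W 2 fun y hy => by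
    obtain ⟨v₀, hv₀, rfl⟩ := Finset.mem_image.1 hy
    refine le_trans (Finset.card_le_card (t := ({v₀, u * v₀} : Finset ↥M24)) fun v hv => ?_) Finset.card_le_two
    obtain ⟨hv, e⟩ := Finset.mem_filter.1 hv
    rw [hW] at hv hv₀
    have he : cm L u (dd f x₀ (v * v₀)) = 1 := by
      rw [dd_mul_mod L ho hx₀ hv hv₀, cm_mul, cm_mul, cm_of_mem L hu (cm_dd_mem L ho hx₀ hv hv₀), mul_one, e, L.sq]
    rw [Finset.mem_insert, Finset.mem_singleton]
    by_cases h2 : v * v₀ = 1
    · exact .inl ((mul_eq_one_iff_eq_inv.1 h2).trans (Wo_inv ho hv₀))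
    by_cases h3 : u = v * v₀
    · exact .inr (by rw [h3, mul_assoc, Wo_sq ho hv₀, mul_one])
    exact absurd he (cm_dd_tetrad L ho hx₀ hu (mul_mem hv hv₀) h1 h2 h3).1
  have h16 : W.card = 16 := by
    rw [← Set.ncard_eq_toFinset_card, ← Nat.card_coe_set_eq]
    exact card_Wo ho
  have himg : (W.image fun v => cm L u (dd f x₀ v)).card ≤ Nat.card ↥(Low L o u) := by
    show _ ≤ Nat.card ↥((Low L o u : Subgroup B) : Set B)
    rw [Nat.card_coe_set_eq, ← Set.ncard_coe_finset]
    refine Set.ncard_le_ncard (fun y hy => ?_) (Set.toFinite _)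
    obtain ⟨v, hv, rfl⟩ := Finset.mem_image.1 hy
    exact (mem_Low L).2 ⟨_, dd_mem_V0 L ho hx₀ (hW.1 hv), rfl⟩
  omega

theorem seven_fixed {k : ↥M24} (hk : k ∈ Sp o x₀) (h7 : orderOf k = 7) {x : B} (hx : x ∈ P6 L o)
    (hfix : L.act k x = x) : x = 1 := by
  classical
  haveI : Fact (Nat.Prime 7) := ⟨by norm_num⟩
  obtain ⟨t, ht, ht2, rfl⟩ := hx
  obtain ⟨hko, hkx⟩ := mem_Sp.1 hk
  set σ : Equiv.Perm ↥o := resHom o ⟨(k : Equiv.Perm GolayPt), mem_St.1 hko⟩ with hσdef
  have hσ : ∀ p : ↥o, (σ p : GolayPt) = (k : Equiv.Perm GolayPt) p := fun p => rfl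
  have hσ7 : orderOf σ = 7 := by
    refine orderOf_eq_prime ?_ fun e => ?_
    · rw [hσdef, ← map_pow, show (⟨(k : Equiv.Perm GolayPt), mem_St.1 hko⟩ : ↥(octStab o)) ^ 7 = 1 from Subtype.ext (by
        show (k : Equiv.Perm GolayPt) ^ 7 = 1
        rw [← Subgroup.coe_pow, ← h7, pow_orderOf_eq_one, Subgroup.coe_one]), map_one]
    · have hk1 : k = 1 := Subtype.ext (octPointStab_fix ho hx₀ k.2 (fun p hp => by
        have := hσ ⟨p, hp⟩
        rw [e] at this
        exact this.symm) hkx)
      rw [hk1, orderOf_one] at h7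
      omega
  have hprime : (orderOf σ).Prime := by rw [hσ7]; norm_num
  have ho8 : Fintype.card ↥o = 8 := by rw [Fintype.card_coe, ho.2]
  have hcyc : σ.IsCycle := Equiv.Perm.isCycle_of_prime_order' hprime (by rw [hσ7, ho8]; norm_num)
  have hsupp : σ.support.card = 7 := by rw [← hcyc.orderOf, hσ7]
  rw [L.act_ev k (even_iff_card.2 ht2), actW_indW,
    L.ev_eq_iff (even_iff_card.2 (by rwa [Finset.card_smul_finset])) (even_iff_card.2 ht2)] at hfix
  have hkt : (k : Equiv.Perm GolayPt) • t ⊆ o := fun p hp => by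
    obtain ⟨q, hq, rfl⟩ := Finset.mem_smul_finset.1 hp
    exact (St_apply hko q).2 (ht hq)
  rw [← indW_symmDiff] at hfix
  have hinvt : (k : Equiv.Perm GolayPt) • t = t := by
    rcases code_small hfix (S := o) (by rw [ho.2]; norm_num) (fun p hp => by
        by_contra hpo
        exact hp (if_neg fun h => hpo (by
          rcases Finset.mem_symmDiff.1 h with h' | h'
          exacts [hkt h'.1, ht h'.1]))) with h | ⟨o', ho', h, hsub⟩
    · have : ((k : Equiv.Perm GolayPt) • t) ∆ t = ∅ := by rw [← support_indW (_ ∆ t), h]; simp [support₂]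
      exact symmDiff_eq_bot.1 this
    · exfalso
      have he : ((k : Equiv.Perm GolayPt) • t) ∆ t = o := by
        rw [← support_indW (_ ∆ t), h, support_indW]
        exact Finset.eq_of_subset_of_card_le hsub (by rw [ho.2, ho'.2])
      have hko' : (k : Equiv.Perm GolayPt) • o = o := hko
      have h1 : (k : Equiv.Perm GolayPt) • t = o \ t := by
        rw [← symmDiff_of_ge ht]
        conv_rhs => rw [← he]
        rw [symmDiff_symmDiff_cancel_right]
      have h2 : ((k : Equiv.Perm GolayPt) ^ 2) • t = t := by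
        rw [pow_two, mul_smul, h1, Finset.smul_finset_sdiff, hko', h1, Finset.sdiff_sdiff_eq_self ht]
      have h7' : ((k : Equiv.Perm GolayPt) ^ 7) • t = (k : Equiv.Perm GolayPt) • t := by
        rw [show 7 = 1 + 2 * 3 from rfl, pow_add, pow_one, mul_smul, pow_mul,
          show (((k : Equiv.Perm GolayPt) ^ 2) ^ 3) • t = t from
            (pow_mem (show (k : Equiv.Perm GolayPt) ^ 2 ∈ MulAction.stabilizer (Equiv.Perm GolayPt) t from h2) 3)]
      rw [← Subgroup.coe_pow, ← h7, pow_orderOf_eq_one, Subgroup.coe_one, one_smul, h1] at h7'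
      have := congrArg (fun s : Finset GolayPt => t ∩ s) h7'
      simp only [Finset.inter_self, Finset.inter_sdiff_self] at this
      rw [this, Finset.smul_finset_empty, Finset.sdiff_empty] at h1
      exact absurd h1.symm (Finset.nonempty_iff_ne_empty.1 (Finset.card_pos.1 (by rw [ho.2]; norm_num)))
  by_cases hr : ∃ r : ↥o, (r : GolayPt) ∈ t ∧ σ r ≠ r
  · obtain ⟨r, hrt, hrm⟩ := hr
    have hall : ∀ q ∈ σ.support, (q : GolayPt) ∈ t := fun q hq => by
      obtain ⟨i, rfl⟩ := hcyc.exists_pow_eq hrm (Equiv.Perm.mem_support.1 hq)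
      induction i with
      | zero => exact hrt
      | succ i ih =>
        rw [pow_succ', Equiv.Perm.mul_apply, hσ]
        by_cases hfx : σ ((σ ^ i) r) = (σ ^ i) r
        · rw [← hσ, hfx]
          exact ih (Equiv.Perm.mem_support.2 fun e => hrm (by
            have e' : (σ ^ i) (σ r) = (σ ^ i) r := by rw [← Equiv.Perm.mul_apply, ← pow_succ, pow_succ', Equiv.Perm.mul_apply, hfx]
            exact (σ ^ i).injective e'))
        · have := ih (Equiv.Perm.mem_support.2 hfx)
          rw [← hinvt]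
          exact Finset.smul_mem_smul_finset this
    have h7t : 7 ≤ t.card := by
      rw [← hsupp, ← Finset.card_map ⟨Subtype.val, Subtype.val_injective⟩]
      exact Finset.card_le_card fun p hp => by
        obtain ⟨q, hq, rfl⟩ := Finset.mem_map.1 hp
        exact hall q hq
    have hto : t = o := by
      refine Finset.eq_of_subset_of_card_le ht ?_
      have := Finset.card_le_card ht
      rw [ho.2] at this ⊢
      omega
    rw [hto, L.code _ (indW_octad ho)]
  · simp only [not_exists, not_and, not_not] at hr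
    have h1 : t.card ≤ 1 := by
      have hc : σ.supportᶜ.card = 1 := by rw [Finset.card_compl, ho8, hsupp]
      rw [← hc, ← Finset.card_map ⟨Subtype.val, Subtype.val_injective⟩ (s := σ.supportᶜ)]
      refine Finset.card_le_card fun p hp => Finset.mem_map.2 ⟨⟨p, ht hp⟩, ?_, rfl⟩
      rw [Finset.mem_compl, Equiv.Perm.notMem_support]
      exact hr ⟨p, ht hp⟩ hp
    rw [Finset.card_eq_zero.1 (show t.card = 0 by omega), ev_indW, Finset.prod_empty]

/-- The stabiliser permutes the outer classes transitively. -/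
theorem outer_trans {u : ↥M24} (hu : u ∈ Wo o) (h1 : u ≠ 1) {v w : B} (hv : v ∈ P6 L o) (hw : w ∈ P6 L o)
    (hvn : v ∉ Low L o u) (hwn : w ∉ Low L o u) :
    ∃ k ∈ Sp o x₀, k * u * k⁻¹ = u ∧ L.act k v * w ∈ Low L o u := by
  classical
  haveI : Fact (Nat.Prime 7) := ⟨by norm_num⟩
  obtain ⟨k, hk, h7, hku⟩ := exists_seven ho hx₀ hu
  have hkuk : k * u * k⁻¹ = u := by rw [hku, mul_inv_cancel_right]
  have hpow : ∀ i : ℕ, k ^ i * u * (k ^ i)⁻¹ = u := fun i => by
    induction i with
    | zero => simp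
    | succ i ih =>
      calc k ^ (i + 1) * u * (k ^ (i + 1))⁻¹ = k * (k ^ i * u * (k ^ i)⁻¹) * k⁻¹ := by rw [pow_succ']; group
        _ = u := by rw [ih, hkuk]
  have hpLow : ∀ i : ℕ, ∀ {y}, y ∈ Low L o u → L.act (k ^ i) y ∈ Low L o u := fun i y hy => by
    have := act_Low L ho hx₀ (pow_mem (mem_Sp.1 hk).1 i) hy
    rwa [hpow i] at this
  have hkey : ∀ m, m % 7 ≠ 0 → L.act (k ^ m) v * v ∉ Low L o u := by
    intro m hm hmem
    have hfixm : ∀ i, L.act (k ^ (m * i)) v * v ∈ Low L o u := by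
      intro i
      induction i with
      | zero => simp [L.sq]
      | succ i ih =>
        rw [Nat.mul_succ, pow_add, map_mul, MulAut.mul_apply]
        have := mul_mem (hpLow (m * i) hmem) ih
        rwa [map_mul, mul_assoc, ← mul_assoc (L.act (k ^ (m * i)) v), L.sq, one_mul] at this
    obtain ⟨i, hi⟩ : ∃ i, m * i % 7 = 1 := by
      have : ∀ r < 7, r ≠ 0 → ∃ i < 7, r * i % 7 = 1 := by decide
      obtain ⟨i, -, hi⟩ := this (m % 7) (Nat.mod_lt _ (by norm_num)) hm
      exact ⟨i, by rw [Nat.mul_mod, Nat.mod_mod] at hi; rw [Nat.mul_mod]; exact hi⟩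
    have hk1 : L.act k v * v ∈ Low L o u := by
      have := hfixm i
      rwa [← pow_mod_orderOf, h7, hi, pow_one] at this
    let X := {y : B // y * v ∈ Low L o u}
    letI : Fintype X := Fintype.ofFinite X
    have hkX : ∀ y : X, L.act k y.1 * v ∈ Low L o u := fun y => by
      have h := mul_mem (hpLow 1 y.2) hk1
      rwa [pow_one, map_mul, mul_assoc, ← mul_assoc (L.act k v), L.sq, one_mul] at h
    let σ : Equiv.Perm X := Equiv.ofBijective (fun y => ⟨L.act k y.1, hkX y⟩)
      (Finite.injective_iff_bijective.1 fun y y' e => Subtype.ext ((L.act k).injective (congrArg Subtype.val e)))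
    have hσpow : ∀ j (y : X), ((σ ^ j) y).1 = L.act (k ^ j) y.1 := fun j => by
      induction j with
      | zero => intro y; simp
      | succ j ih =>
        intro y
        rw [pow_succ', Equiv.Perm.mul_apply, pow_succ', map_mul, MulAut.mul_apply, ← ih]
        rfl
    have hcardX : Fintype.card X = Nat.card ↥(Low L o u) := by
      rw [← Nat.card_eq_fintype_card]
      refine Nat.card_congr ⟨fun y => ⟨y.1 * v, y.2⟩, fun z => ⟨z.1 * v, ?_⟩, fun y => Subtype.ext ?_,
        fun z => Subtype.ext ?_⟩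
      · show z.1 * v * v ∈ _
        rw [mul_assoc, L.sq, mul_one]
        exact z.2
      · show y.1 * v * v = y.1
        rw [mul_assoc, L.sq, mul_one]
      · show z.1 * v * v = z.1
        rw [mul_assoc, L.sq, mul_one]
    obtain ⟨y, hy⟩ := Equiv.Perm.exists_fixed_point_of_prime (n := 1) (p := 7) (σ := σ) (by
      rw [hcardX]
      intro h
      have h' := h.trans (Subgroup.card_subgroup_dvd_card (Low L o u))
      rw [L.cardB] at h'
      norm_num at h') (Equiv.ext fun y => Subtype.ext (by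
        rw [pow_one, hσpow, ← h7, pow_orderOf_eq_one, map_one]; rfl))
    have hyP : y.1 ∈ P6 L o := by
      have := mul_mem (Low_le L ho hx₀ hu y.2) hv
      rwa [mul_assoc, L.sq, mul_one] at this
    have := seven_fixed L ho hx₀ hk h7 hyP (congrArg Subtype.val hy)
    have hyv := y.2
    rw [this, one_mul] at hyv
    exact hvn hyv
  have hvi : ∀ i : ℕ, L.act (k ^ i) v ∉ Low L o u := fun i hi => by
    have := hpLow (6 * i) hi
    rw [← MulAut.mul_apply, ← map_mul, ← pow_add, show 6 * i + i = 7 * i by ring, pow_mul, ← h7,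
      pow_orderOf_eq_one, one_pow, map_one] at this
    exact hvn this
  by_contra hno
  simp only [not_exists, not_and] at hno
  have hwi : ∀ i : ℕ, L.act (k ^ i) v * w ∉ Low L o u := fun i => hno _ (pow_mem hk i) (hpow i)
  let c : Option (Option (Fin 7)) → B := fun a => a.elim 1 fun a => a.elim w fun i => L.act (k ^ (i : ℕ)) v
  have hcP : ∀ j, c j ∈ P6 L o
    | none => one_mem _
    | some none => hw
    | some (some i) => act_P6 L (pow_mem (mem_Sp.1 hk).1 _) hv
  have hdiff : ∀ i j : ℕ, i < j → j < 7 → L.act (k ^ i) v * L.act (k ^ j) v ∉ Low L o u := fun i j hij hj h => by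
    refine hkey (j - i) (by omega) ?_
    have := hpLow (7 - i) h
    rw [map_mul, ← MulAut.mul_apply, ← MulAut.mul_apply (e₁ := L.act (k ^ (7 - i))), ← map_mul, ← map_mul, ← pow_add,
      ← pow_add, show 7 - i + i = 7 by omega, show 7 - i + j = 7 + (j - i) by omega, pow_add, ← h7,
      pow_orderOf_eq_one, one_mul, map_one, MulAut.one_apply, mul_comm] at this
    exact this
  have hne : ∀ a b, a ≠ b → c a * c b ∉ Low L o u := by
    rintro (_ | _ | ⟨i, hi⟩) (_ | _ | ⟨j, hj⟩) hab
    · exact absurd rfl hab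
    · show 1 * w ∉ _
      rwa [one_mul]
    · show 1 * L.act (k ^ j) v ∉ _
      rw [one_mul]
      exact hvi j
    · show w * 1 ∉ _
      rwa [mul_one]
    · exact absurd rfl hab
    · show w * L.act (k ^ j) v ∉ _
      rw [mul_comm]
      exact hwi j
    · show L.act (k ^ i) v * 1 ∉ _
      rw [mul_one]
      exact hvi i
    · exact hwi i
    · show L.act (k ^ i) v * L.act (k ^ j) v ∉ _
      rcases lt_trichotomy i j with h | h | h
      · exact hdiff i j h hj
      · subst h
        exact absurd rfl hab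
      · rw [mul_comm]
        exact hdiff j i h hi
  let g : Option (Option (Fin 7)) × ↥(Low L o u) → ↥(P6 L o) := fun p =>
    ⟨c p.1 * p.2.1, mul_mem (hcP p.1) (Low_le L ho hx₀ hu p.2.2)⟩
  have hg : Function.Injective g := by
    rintro ⟨a, y⟩ ⟨b, z⟩ e
    have e' : c a * y.1 = c b * z.1 := congrArg Subtype.val e
    have hab : a = b := by
      have hprod : c a * c b = y.1 * z.1 := by
        calc c a * c b = (c a * y.1) * (c b * z.1) * (y.1 * z.1) := by
              rw [mul_mul_mul_comm (c a) y.1, mul_assoc (c a * c b), L.sq, mul_one]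
          _ = y.1 * z.1 := by rw [e', L.sq, one_mul]
      by_contra h
      exact hne a b h (hprod ▸ mul_mem y.2 z.2)
    subst hab
    exact Prod.ext rfl (Subtype.ext (mul_left_cancel e'))
  have h := Nat.card_le_card_of_injective g hg
  rw [Nat.card_prod, Nat.card_eq_fintype_card (α := Option (Option (Fin 7))), Fintype.card_option,
    Fintype.card_option, Fintype.card_fin] at h
  have := card_Low L ho hx₀ hu h1
  have := card_P6_le L ho
  omega

end CfsgLib.JankoFour.TwoTen
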