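import Cfsg.Agent.Lib.JankoFour.TwoTen.Defs
import Cfsg.Agent.Lib.JankoFour.TwoTen.Orbit
import Cfsg.Agent.Lib.JankoFour.TwoTen.Large

/-!
# The certificates from a labelling
-/

set_option autoImplicit false
set_option linter.unusedSectionVars false

namespace CfsgLib.JankoFour.TwoTen

open Cfsg CfsgLib.Golay CfsgLib.M24Cert
open scoped Pointwise symmDiff

theorem supports_iff {s : Finset GolayPt} :
    s ∈ supports (golayCode : Set (GolayPt → ZMod 2)) ↔ indW s ∈ golayCode := by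
  constructor
  · rintro ⟨w, hw, rfl⟩
    rwa [indW_support]
  · exact fun h => ⟨indW s, h, support_indW s⟩

theorem mem_Wgrp {w : Equiv.Perm GolayPt} : w ∈ Wgrp ↔ ∃ h : w ∈ M24, (⟨w, h⟩ : ↥M24) ∈ Wo oct := by
  simp [Wgrp, mem_Wo, mem_fixingSubgroup_iff, Equiv.Perm.smul_def]

/-- Adjoining an involution to a set closed under multiplication inside a commutative group of involutions. -/
theorem step_closed {M : Type*} [Group M] [DecidableEq M] {W : Subgroup M} (hsq : ∀ a ∈ W, a * a = 1)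
    (hcm : ∀ a ∈ W, ∀ b ∈ W, a * b = b * a) {H : Finset M} (hH : ∀ a ∈ H, a ∈ W)
    (hmul : ∀ a ∈ H, ∀ b ∈ H, a * b ∈ H) {w : M} (hw : w ∈ W) (hwH : w ∉ H) :
    (∀ a ∈ H ∪ H.image (w * ·), a ∈ W) ∧
      (∀ a ∈ H ∪ H.image (w * ·), ∀ b ∈ H ∪ H.image (w * ·), a * b ∈ H ∪ H.image (w * ·)) ∧
      (H ∪ H.image (w * ·)).card = 2 * H.card := by
  refine ⟨fun a ha => ?_, fun a ha b hb => ?_, ?_⟩
  · rcases Finset.mem_union.1 ha with h | h
    · exact hH a h
    · obtain ⟨c, hc, rfl⟩ := Finset.mem_image.1 h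
      exact mul_mem hw (hH c hc)
  · rw [Finset.mem_union, Finset.mem_image] at ha hb ⊢
    rcases ha with ha | ⟨a, ha, rfl⟩ <;> rcases hb with hb | ⟨b, hb, rfl⟩
    · exact .inl (hmul a ha b hb)
    · refine .inr ⟨a * b, hmul a ha b hb, ?_⟩
      rw [← mul_assoc, ← mul_assoc, hcm w hw a (hH a ha)]
    · exact .inr ⟨a * b, hmul a ha b hb, (mul_assoc _ _ _).symm⟩
    · refine .inl ?_
      have : w * a * (w * b) = a * b := by
        rw [hcm w hw a (hH a ha), mul_assoc, ← mul_assoc w, hsq w hw, one_mul]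
      exact this.symm ▸ hmul a ha b hb
  · rw [Finset.card_union_of_disjoint, Finset.card_image_of_injective _ (mul_right_injective w)]
    · omega
    · rw [Finset.disjoint_left]
      intro d hd hd'
      obtain ⟨a, ha, rfl⟩ := Finset.mem_image.1 hd'
      exact hwH (by simpa [mul_assoc, hsq a (hH a ha)] using hmul _ hd a ha)

/-- Four generators of the group of order sixteen. -/
theorem exists_gens :
    ∃ w : Fin 4 → ↥M24, (∀ i, w i ∈ Wo oct) ∧ ∀ x ∈ Wo oct, ∃ e : Fin 4 → Bool,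
      x = (if e 0 then w 0 else 1) * (if e 1 then w 1 else 1) * (if e 2 then w 2 else 1) *
        (if e 3 then w 3 else 1) := by
  classical
  have ho : oct ∈ octads := baseOctad_mem
  set W := (Set.toFinite (Wo oct : Set ↥M24)).toFinset
  have hW : ∀ {v}, v ∈ W ↔ v ∈ Wo oct := Set.Finite.mem_toFinset _
  have h16 : W.card = 16 := by
    rw [← Set.ncard_eq_toFinset_card, ← Nat.card_coe_set_eq]
    exact card_Wo ho
  have next_ : ∀ H : Finset ↥M24, H.card < 16 → ∃ w, w ∈ Wo oct ∧ w ∉ H := fun H hH => by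
    obtain ⟨w, hw, hn⟩ := Finset.exists_mem_notMem_of_card_lt_card (s := H) (t := W) (by omega)
    exact ⟨w, hW.1 hw, hn⟩
  have hsq : ∀ a ∈ Wo oct, a * a = 1 := fun a ha => Wo_sq ho ha
  have hcm : ∀ a ∈ Wo oct, ∀ b ∈ Wo oct, a * b = b * a := fun a ha b hb => Wo_comm ho ha hb
  set H0 : Finset ↥M24 := {1}
  obtain ⟨w3, hw3, hn3⟩ := next_ H0 (by simp [H0])
  obtain ⟨a1, b1, c1⟩ := step_closed hsq hcm (H := H0) (by simp [H0]) (by simp [H0]) hw3 hn3
  set H1 := H0 ∪ H0.image (w3 * ·)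
  obtain ⟨w2, hw2, hn2⟩ := next_ H1 (by rw [c1]; simp [H0])
  obtain ⟨a2, b2, c2⟩ := step_closed hsq hcm a1 b1 hw2 hn2
  set H2 := H1 ∪ H1.image (w2 * ·)
  obtain ⟨w1, hw1, hn1⟩ := next_ H2 (by rw [c2, c1]; simp [H0])
  obtain ⟨a3, b3, c3⟩ := step_closed hsq hcm a2 b2 hw1 hn1
  set H3 := H2 ∪ H2.image (w1 * ·)
  obtain ⟨w0, hw0, hn0⟩ := next_ H3 (by rw [c3, c2, c1]; simp [H0])
  obtain ⟨a4, b4, c4⟩ := step_closed hsq hcm a3 b3 hw0 hn0
  set H4 := H3 ∪ H3.image (w0 * ·)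
  have hall : H4 = W := Finset.eq_of_subset_of_card_le (fun a ha => hW.2 (a4 a ha))
    (by rw [h16, c4, c3, c2, c1]; simp [H0])
  refine ⟨![w0, w1, w2, w3], by intro i; fin_cases i <;> assumption, fun x hx => ?_⟩
  have hpart : ∀ (w : ↥M24) (H : Finset ↥M24) (y : ↥M24), y ∈ H ∪ H.image (w * ·) →
      ∃ (c : Bool) (a : ↥M24), a ∈ H ∧ y = (if c then w else 1) * a := by
    intro w H y hy
    rcases Finset.mem_union.1 hy with h | h
    · exact ⟨false, y, h, (one_mul y).symm⟩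
    · obtain ⟨a, ha, rfl⟩ := Finset.mem_image.1 h
      exact ⟨true, a, ha, rfl⟩
  obtain ⟨e0, a, ha, rfl⟩ := hpart w0 H3 x (show x ∈ H4 by rw [hall]; exact hW.2 hx)
  obtain ⟨e1, b, hb, rfl⟩ := hpart w1 H2 a ha
  obtain ⟨e2, c, hc, rfl⟩ := hpart w2 H1 b hb
  obtain ⟨e3, d, hd, rfl⟩ := hpart w3 H0 c hc
  rw [Finset.mem_singleton.1 hd, mul_one]
  exact ⟨![e0, e1, e2, e3], by simp only [mul_assoc]; rfl⟩

variable {B : Type*} [CommGroup B] [Finite B]

/-- The element of a set of points. -/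
noncomputable def el (f : GolayPt → B) (s : Finset GolayPt) : B := ev f (indW s)

variable {f : GolayPt → B} (L : Lab f)
include L

theorem el_sd (s t : Finset GolayPt) : el f (s ∆ t) = el f s * el f t := by
  rw [el, el, el, indW_symmDiff, L.ev_add]

theorem el_empty : el f ∅ = 1 := by rw [el, ev_indW, Finset.prod_empty]

theorem el_smul {g : Equiv.Perm GolayPt} (hg : g ∈ M24) {s : Finset GolayPt} (hs : 2 ∣ s.card) :
    el f (g • s) = L.act ⟨g, hg⟩ (el f s) := by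
  rw [el, el, L.act_ev ⟨g, hg⟩ (even_iff_card.2 hs), actW_indW]

theorem el_co {g : Equiv.Perm GolayPt} (hg : g ∈ M24) {v : Finset GolayPt} (hv : 2 ∣ v.card) :
    el f (co g v) = cm L ⟨g, hg⟩ (el f v) := by
  rw [co, el_sd L, el_smul L hg hv, cm, mul_comm]

theorem eqv_iff {s t : Finset GolayPt} (hs : 2 ∣ s.card) (ht : 2 ∣ t.card) : Eqv s t ↔ el f s = el f t := by
  rw [el, el, L.ev_eq_iff (even_iff_card.2 hs) (even_iff_card.2 ht), Eqv, supports_iff, indW_symmDiff]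

omit L in
theorem dvd_sd {s t : Finset GolayPt} (hs : 2 ∣ s.card) (ht : 2 ∣ t.card) : 2 ∣ (s ∆ t).card := by
  rw [← even_iff_card] at hs ht ⊢
  rw [indW_symmDiff]
  simp [Finset.sum_add_distrib, hs, ht]

omit L in
theorem dvd_co {g : Equiv.Perm GolayPt} {v : Finset GolayPt} (hv : 2 ∣ v.card) : 2 ∣ (co g v).card :=
  dvd_sd hv (by rwa [Finset.card_smul_finset])

theorem inP_iff {s : Finset GolayPt} (hs : 2 ∣ s.card) : InP s ↔ el f s ∈ P6 L oct :=
  ⟨fun ⟨t, ht, ht2, e⟩ => ⟨t, ht, ht2, ((eqv_iff L hs ht2).1 e).symm⟩,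
    fun ⟨t, ht, ht2, e⟩ => ⟨t, ht, ht2, (eqv_iff L hs ht2).2 e.symm⟩⟩

theorem evenly_iff {v : Finset GolayPt} (hv : 2 ∣ v.card) : 2 ∣ (v ∩ oct).card ↔ el f v ∈ V0 L oct := by
  have ho : oct ∈ octads := baseOctad_mem
  rw [el, mem_V0_iff L ho (even_iff_card.2 hv), sum_filter_indW, ZMod.natCast_eq_zero_iff_even,
    even_iff_two_dvd]

theorem exists_el (x : B) : ∃ s : Finset GolayPt, 2 ∣ s.card ∧ el f s = x := by
  obtain ⟨w, hw, rfl⟩ := L.cover x
  exact ⟨support₂ w, even_iff_card.1 (by rw [indW_support]; exact hw), by rw [el, indW_support]⟩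

theorem isLow_iff {w : Equiv.Perm GolayPt} (hw : w ∈ M24) {t : Finset GolayPt} (ht : 2 ∣ t.card) :
    IsLow w t ↔ el f t ∈ Low L oct ⟨w, hw⟩ := by
  rw [mem_Low]
  constructor
  · rintro ⟨v, ⟨hv, hv'⟩, e⟩
    exact ⟨_, (evenly_iff L hv).1 hv', by rw [← el_co L hw hv]; exact (eqv_iff L (dvd_co hv) ht).1 e⟩
  · rintro ⟨x, hx, e⟩
    obtain ⟨v, hv, rfl⟩ := exists_el L x
    exact ⟨v, ⟨hv, (evenly_iff L hv).2 hx⟩, (eqv_iff L (dvd_co hv) ht).2 (by rw [el_co L hw hv, e])⟩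

variable {o : Finset GolayPt} (ho : o ∈ octads) {x₀ : GolayPt} (hx₀ : x₀ ∉ o)
include ho hx₀

theorem correct_fixed {u : ↥M24} (hu : u ∈ Wo o) (h1 : u ≠ 1) {x y : B} (hx : L.act u x = x)
    (hxP : x ∉ P6 L o) (hy : y ∉ V0 L o) : x * cm L u y ∈ P6 L o := by
  have hfix : L.act u (cm L u y) = cm L u y := by
    rw [cm, map_mul, ← MulAut.mul_apply, ← map_mul, Wo_sq ho hu, map_one, MulAut.one_apply, mul_comm]
  have h2 := ((fixed_iff L ho hx₀ hu h1 x).1 hx).resolve_left hxP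
  have h3 := ((fixed_iff L ho hx₀ hu h1 _).1 hfix).resolve_left (cm_notMem L ho hx₀ hu h1 hy)
  have h4 := mul_mem h2 h3
  rwa [mul_mul_mul_comm, L.sq, mul_one] at h4

omit ho hx₀ in
/-- The certificates. -/
theorem certs_of_lab : Certs := by
  classical
  have ho : oct ∈ octads := baseOctad_mem
  obtain ⟨x₀, hx₀⟩ : ∃ x, x ∉ oct := by
    obtain ⟨x, -, hx⟩ := Finset.exists_mem_notMem_of_card_lt_card (s := oct) (t := Finset.univ)
      (by rw [ho.2, Finset.card_univ, Fintype.card_congr ptEquiv, Fintype.card_fin]; norm_num)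
    exact ⟨x, hx⟩
  obtain ⟨q, hq⟩ := Finset.card_pos.1 (show 0 < oct.card by rw [ho.2]; norm_num)
  have hqx : q ≠ x₀ := fun e => hx₀ (e ▸ hq)
  have hpair : 2 ∣ ({q, x₀} : Finset GolayPt).card := by rw [Finset.card_pair hqx]
  have hpairV : el f {q, x₀} ∉ V0 L oct := by
    rw [el, ev_pair_indW L hqx, pr_mem_V0_iff L ho]
    exact fun h => hx₀ (h.1 hq)
  obtain ⟨W4, hW4, hW4gen⟩ := exists_gens
  refine ⟨?_, ?_, ?_, ?_, ?_, ?_, ?_, ?_⟩
  · -- fix_w
    intro s hs hfix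
    obtain ⟨y, hy, hy'⟩ := Finset.exists_mem_notMem_of_card_lt_card (s := ({x₀} : Finset GolayPt)) (t := octᶜ)
      (by rw [Finset.card_singleton, card_compl ho]; norm_num)
    obtain ⟨y', hy₂, hy₂'⟩ := Finset.exists_mem_notMem_of_card_lt_card (s := ({x₀, y} : Finset GolayPt)) (t := octᶜ)
      (lt_of_le_of_lt Finset.card_le_two (by rw [card_compl ho]; norm_num))
    simp only [Finset.mem_singleton, Finset.mem_insert, not_or] at hy' hy₂'
    obtain ⟨u, hu, hu'⟩ := Wo_trans ho hx₀ (Finset.mem_compl.1 hy)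
    obtain ⟨v, hv, hv'⟩ := Wo_trans ho hx₀ (Finset.mem_compl.1 hy₂)
    have hfx : ∀ w : ↥M24, w ∈ Wo oct → L.act w (el f s) = el f s := fun w hw => by
      rw [← el_smul L w.2 hs]
      exact (eqv_iff L (by rwa [Finset.card_smul_finset]) hs).1 (hfix _ (mem_Wgrp.2 ⟨w.2, hw⟩))
    exact (inP_iff L hs).2 (fixed_two L ho hx₀ hu hv (by rintro rfl; exact hy' hu'.symm)
      (by rintro rfl; exact hy₂'.1 hv'.symm) (by rintro rfl; exact hy₂'.2 (hv'.symm.trans hu'))
      (hfx u hu) (hfx v hv))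
  · -- big
    intro K hKM hK S hS hSinj hbig
    refine or_iff_not_imp_left.2 fun hne => ?_
    have hK2 : ∀ g ∈ K.subgroupOf M24, g * g = 1 := fun g hg => Subtype.ext (by
      rw [Subgroup.coe_mul, Subgroup.coe_one, ← pow_two]
      exact hK.2 _ hg)
    have hcard : Nat.card ↥(K.subgroupOf M24) = Nat.card ↥K := Nat.card_congr (Subgroup.subgroupOfEquivOfLe hKM).toEquiv
    obtain ⟨o, ho', e⟩ := classify L hK2 (fun h => hne (by
      rw [← Subgroup.card_eq_one, ← hcard, h, Subgroup.card_bot])) (by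
      rw [hcard]
      refine hbig.trans (Nat.mul_le_mul_left _ ?_)
      rw [← Nat.card_eq_finsetCard]
      refine Nat.card_le_card_of_injective (fun s => (⟨el f s.1, fun g hg => ?_⟩ : ↥(fixS L _))) ?_
      · obtain ⟨h2, hfix⟩ := hS s.1 s.2
        rw [← el_smul L g.2 h2]
        exact (eqv_iff L (by rwa [Finset.card_smul_finset]) h2).1 (hfix _ hg)
      · intro s t e
        exact Subtype.ext (hSinj _ s.2 _ t.2 ((eqv_iff L (hS _ s.2).1 (hS _ t.2).1).2 (congrArg Subtype.val e))))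
    refine ⟨o, ho', Subgroup.ext fun g => ?_⟩
    constructor
    · intro hg
      have h : (⟨g, hKM hg⟩ : ↥M24) ∈ K.subgroupOf M24 := hg
      rw [e] at h
      exact ⟨hKM hg, h⟩
    · rintro ⟨hg, hfix⟩
      have h : (⟨g, hg⟩ : ↥M24) ∈ Wo o := hfix
      rw [← e] at h
      exact h
  · -- lifts
    intro c hc2 hfix hcomm hcoc
    let s : ↥M24 → B := fun w => el f (c w)
    have hfx : ∀ w : ↥M24, w ∈ Wo oct → L.act w (s w) = s w := fun w hw => by
      have hw' := mem_Wgrp.2 ⟨w.2, hw⟩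
      show L.act w (el f _) = el f _
      rw [← el_smul L w.2 (hc2 _ hw')]
      exact (eqv_iff L (by rw [Finset.card_smul_finset]; exact hc2 _ hw') (hc2 _ hw')).1 (hfix _ hw')
    have hsym : ∀ w v : ↥M24, w ∈ Wo oct → v ∈ Wo oct → cm L w (s v) = cm L v (s w) := by
      intro w v hw hv
      have hw' := mem_Wgrp.2 ⟨w.2, hw⟩
      have hv' := mem_Wgrp.2 ⟨v.2, hv⟩
      have h := (eqv_iff L (dvd_sd (hc2 _ hw') (by rw [Finset.card_smul_finset]; exact hc2 _ hv'))
        (dvd_sd (hc2 _ hv') (by rw [Finset.card_smul_finset]; exact hc2 _ hw'))).1 (hcomm _ hw' _ hv')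
      rw [el_sd L, el_sd L, el_smul L w.2 (hc2 _ hv'), el_smul L v.2 (hc2 _ hw')] at h
      change s w * L.act w (s v) = s v * L.act v (s w) at h
      calc cm L w (s v) = s w * L.act w (s v) * (s w * s v) := by
            rw [cm, mul_mul_mul_comm, L.sq, one_mul]
        _ = cm L v (s w) := by rw [h, cm, mul_comm (s w) (s v), mul_mul_mul_comm, L.sq, one_mul]
    have h1 : InP (c 1) := by
      have := hcoc 1 (one_mem _) 1 (one_mem _)
      rwa [one_mul, one_smul, symmDiff_self, bot_symmDiff] at this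
    by_cases hall : ∀ w : ↥M24, w ∈ Wo oct → w ≠ 1 → s w ∈ P6 L oct
    · refine ⟨∅, by simp, fun w hw => ?_⟩
      obtain ⟨hwM, hwW⟩ := mem_Wgrp.1 hw
      rw [co, Finset.smul_finset_empty, symmDiff_self, Finset.bot_eq_empty, ← Finset.bot_eq_empty, symmDiff_bot]
      by_cases hw1 : (⟨w, hwM⟩ : ↥M24) = 1
      · rw [show w = 1 from congrArg Subtype.val hw1]
        exact h1
      · exact (inP_iff L (hc2 _ hw)).2 (hall ⟨w, hwM⟩ hwW hw1)
    · simp only [not_forall] at hall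
      obtain ⟨v, hv, hv1, hvP⟩ := hall
      refine ⟨{q, x₀}, hpair, fun w hw => ?_⟩
      obtain ⟨hwM, hwW⟩ := mem_Wgrp.1 hw
      by_cases hw1 : (⟨w, hwM⟩ : ↥M24) = 1
      · rw [show w = 1 from congrArg Subtype.val hw1, co, one_smul, symmDiff_self, symmDiff_bot]
        exact h1
      refine (inP_iff L (dvd_sd (hc2 _ hw) (dvd_co hpair))).2 ?_
      rw [el_sd L, el_co L hwM hpair]
      refine correct_fixed L ho hx₀ hwW hw1 (hfx ⟨w, hwM⟩ hwW) (fun hP => hvP ?_) hpairV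
      have := hsym v ⟨w, hwM⟩ hv hwW
      rw [cm_of_mem L hv hP] at this
      by_cases hvw : v = ⟨w, hwM⟩
      · exact hvw ▸ hP
      exact fixed_two L ho hx₀ hwW hv hw1 hv1 (Ne.symm hvw) ((cm_eq_one_iff L _ _).1 this.symm) (hfx v hv)
  · -- fix_one
    intro w hw hw1 v hv hfix
    obtain ⟨hwM, hwW⟩ := mem_Wgrp.1 hw
    have hne : (⟨w, hwM⟩ : ↥M24) ≠ 1 := fun e => hw1 (congrArg Subtype.val e)
    have hfx : L.act ⟨w, hwM⟩ (el f v) = el f v := by
      rw [← el_smul L hwM hv]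
      exact (eqv_iff L (by rwa [Finset.card_smul_finset]) hv).1 hfix
    by_cases hP : el f v ∈ P6 L oct
    · refine ⟨∅, by simp, ?_⟩
      rw [co, Finset.smul_finset_empty, symmDiff_self, symmDiff_bot]
      exact (inP_iff L hv).2 hP
    · refine ⟨{q, x₀}, hpair, (inP_iff L (dvd_sd hv (dvd_co hpair))).2 ?_⟩
      rw [el_sd L, el_co L hwM hpair]
      exact correct_fixed L ho hx₀ hwW hne hfx hP hpairV
  · -- evenly
    intro v hv
    constructor
    · intro h
      refine (evenly_iff L hv).2 (by_contra fun hn => ?_)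
      obtain ⟨y, hy, hy'⟩ := Finset.exists_mem_notMem_of_card_lt_card (s := ({x₀} : Finset GolayPt)) (t := octᶜ)
        (by rw [Finset.card_singleton, card_compl ho]; norm_num)
      rw [Finset.mem_singleton] at hy'
      obtain ⟨u, hu, hu'⟩ := Wo_trans ho hx₀ (Finset.mem_compl.1 hy)
      have h' := (inP_iff L (dvd_co hv)).1 (h _ (mem_Wgrp.2 ⟨u.2, hu⟩))
      rw [el_co L u.2 hv] at h'
      exact cm_notMem L ho hx₀ hu (by rintro rfl; exact hy' hu'.symm) hn h'
    · intro h w hw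
      obtain ⟨hwM, hwW⟩ := mem_Wgrp.1 hw
      refine (inP_iff L (dvd_co hv)).2 ?_
      rw [el_co L hwM hv]
      exact cm_V0 L ho hx₀ hwW ((evenly_iff L hv).1 h)
  · -- trans
    intro w hw hw1 w' hw' hw1' t _ ht t' ht'o ht' hiff
    obtain ⟨hwM, hwW⟩ := mem_Wgrp.1 hw
    obtain ⟨hwM', hwW'⟩ := mem_Wgrp.1 hw'
    have hne : (⟨w, hwM⟩ : ↥M24) ≠ 1 := fun e => hw1 (congrArg Subtype.val e)
    have hne' : (⟨w', hwM'⟩ : ↥M24) ≠ 1 := fun e => hw1' (congrArg Subtype.val e)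
    rw [isLow_iff L hwM ht, isLow_iff L hwM' ht'] at hiff
    obtain ⟨g, hg, hge⟩ := Sp_trans ho hx₀ hwW hwW' hne hne'
    suffices h : ∃ k ∈ Sp oct x₀, k * ⟨w', hwM'⟩ * k⁻¹ = (⟨w', hwM'⟩ : ↥M24) ∧
        L.act k (L.act g (el f t)) * el f t' ∈ Low L oct ⟨w', hwM'⟩ by
      obtain ⟨k, hk, hkw, hlow⟩ := h
      obtain ⟨x, hx, he⟩ := (mem_Low L).1 hlow
      obtain ⟨v, hv, rfl⟩ := exists_el L x
      refine ⟨v, ⟨hv, (evenly_iff L hv).2 hx⟩, ((k * g : ↥M24) : Equiv.Perm GolayPt), (k * g).2,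
        (mul_mem (mem_Sp.1 hk).1 (mem_Sp.1 hg).1 : k * g ∈ St oct), ?_, ?_⟩
      · have : k * g * ⟨w, hwM⟩ * (k * g)⁻¹ = (⟨w', hwM'⟩ : ↥M24) := by
          calc k * g * ⟨w, hwM⟩ * (k * g)⁻¹ = k * (g * ⟨w, hwM⟩ * g⁻¹) * k⁻¹ := by group
            _ = _ := by rw [hge, hkw]
        exact congrArg Subtype.val this
      · refine (eqv_iff L (dvd_sd (by rwa [Finset.card_smul_finset]) (dvd_co hv)) ht').2 ?_
        rw [el_sd L, el_co L hwM' hv, he, el_smul L (k * g).2 ht, ← mul_assoc]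
        show L.act (k * g) (el f t) * L.act k (L.act g (el f t)) * el f t' = el f t'
        rw [map_mul, MulAut.mul_apply, L.sq, one_mul]
    have htP : el f t ∈ P6 L oct := ⟨t, ‹t ⊆ oct›, ht, rfl⟩
    have ht'P : el f t' ∈ P6 L oct := ⟨t', ht'o, ht', rfl⟩
    by_cases hlow : el f t ∈ Low L oct ⟨w, hwM⟩
    · refine ⟨1, one_mem _, by group, ?_⟩
      rw [map_one, MulAut.one_apply]
      refine mul_mem ?_ (hiff.1 hlow)
      have := act_Low L ho hx₀ (mem_Sp.1 hg).1 hlow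
      rwa [hge] at this
    · refine outer_trans L ho hx₀ hwW' hne' (act_P6 L (mem_Sp.1 hg).1 htP) ht'P (fun h => hlow ?_)
        (fun h => hlow (hiff.2 h))
      have := act_Low L ho hx₀ (inv_mem (mem_Sp.1 hg).1) h
      rw [show g⁻¹ * ⟨w', hwM'⟩ * g⁻¹⁻¹ = (⟨w, hwM⟩ : ↥M24) by rw [← hge]; group, ← MulAut.mul_apply, ← map_mul,
        inv_mul_cancel, map_one, MulAut.one_apply] at this
      exact this
  · -- coords
    set uS : Fin 4 → Finset GolayPt := fun i =>
      if W4 i = 1 then ∅ else {x₀, (W4 i : Equiv.Perm GolayPt) x₀}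
    have hu2 : ∀ i, 2 ∣ (uS i).card := fun i => by
      simp only [uS]
      split
      · simp
      · next h =>
        rw [Finset.card_pair]
        exact fun e => hx₀ ((Wo_fix_iff ho (hW4 i) h x₀).1 e.symm)
    have hel : ∀ i, el f (uS i) = dd f x₀ (W4 i) := fun i => by
      simp only [uS]
      split
      · next h => rw [el_empty L, h, dd_one L]
      · next h =>
        rw [el, ev_pair_indW L fun e => hx₀ ((Wo_fix_iff ho (hW4 i) h x₀).1 e.symm)]
        rfl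
    have hev : ∀ i, Evenly (uS i) := fun i => ⟨hu2 i, (evenly_iff L (hu2 i)).2 (hel i ▸ dd_mem_V0 L ho hx₀ (hW4 i))⟩
    have hco : ∀ i j, el f (co (W4 i) (uS j)) = cm L (W4 i) (dd f x₀ (W4 j)) := fun i j => by
      rw [el_co L (W4 i).2 (hu2 j), hel]
    refine ⟨fun i => (W4 i : Equiv.Perm GolayPt), uS, fun i => mem_Wgrp.2 ⟨(W4 i).2, hW4 i⟩, hev, ?_, ?_, ?_, ?_, ?_⟩
    · intro x hx
      obtain ⟨hxM, hxW⟩ := mem_Wgrp.1 hx
      obtain ⟨e, he⟩ := hW4gen _ hxW
      refine ⟨e, (congrArg Subtype.val he).trans ?_⟩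
      simp only [Subgroup.coe_mul, apply_ite Subtype.val, Subgroup.coe_one]
    · intro i j
      refine (eqv_iff L (dvd_co (hu2 j)) (dvd_co (hu2 i))).2 ?_
      rw [hco, hco, cm_dd_comm L ho hx₀ (hW4 i) (hW4 j)]
    · intro i
      refine (eqv_iff L (dvd_co (hu2 i)) (by simp)).2 ?_
      rw [hco, cm_dd_self L ho hx₀ (hW4 i), el_empty L]
    · intro v hv
      obtain ⟨u, hu, huP⟩ := V0_eq L ho hx₀ ((evenly_iff L hv.1).1 hv.2)
      obtain ⟨e, he⟩ := hW4gen u hu
      have heven : ∀ i, 2 ∣ (if e i then uS i else ∅).card := fun i => by split; exact hu2 i; simp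
      refine ⟨e, (inP_iff L (dvd_sd (dvd_sd (dvd_sd (dvd_sd hv.1 (heven 0)) (heven 1)) (heven 2)) (heven 3))).2 ?_⟩
      let wi : Fin 4 → ↥M24 := fun i => if e i then W4 i else 1
      have hwi : ∀ i, wi i ∈ Wo oct := fun i => by simp only [wi]; split; exacts [hW4 i, one_mem _]
      have hterm : ∀ i, el f (if e i then uS i else ∅) = dd f x₀ (wi i) := fun i => by
        simp only [wi]; split
        · exact hel i
        · rw [el_empty L, dd_one L]
      rw [el_sd L, el_sd L, el_sd L, el_sd L, hterm, hterm, hterm, hterm]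
      have h01 := mul_mem (hwi 0) (hwi 1)
      have h012 := mul_mem h01 (hwi 2)
      have key := mul_mem (mul_mem (mul_mem huP (cm_dd_mem L ho hx₀ h012 (hwi 3)))
        (cm_dd_mem L ho hx₀ h01 (hwi 2))) (cm_dd_mem L ho hx₀ (hwi 0) (hwi 1))
      rw [show u = wi 0 * wi 1 * wi 2 * wi 3 from he, dd_mul_mod L ho hx₀ h012 (hwi 3),
        dd_mul_mod L ho hx₀ h01 (hwi 2), dd_mul_mod L ho hx₀ (hwi 0) (hwi 1)] at key
      have hcancel : ∀ x a b c d p q r : B, x * (a * b * p * c * q * d * r) * r * q * p = x * a * b * c * d := by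
        intro x a b c d p q r
        calc x * (a * b * p * c * q * d * r) * r * q * p = x * a * b * c * d * (p * p) * (q * q) * (r * r) := by ac_rfl
          _ = _ := by rw [L.sq, L.sq, L.sq, mul_one, mul_one, mul_one]
      rwa [hcancel] at key
    · intro t ht ht2
      let gens : Fin 6 → B := ![cm L (W4 0) (dd f x₀ (W4 1)), cm L (W4 0) (dd f x₀ (W4 2)),
        cm L (W4 0) (dd f x₀ (W4 3)), cm L (W4 1) (dd f x₀ (W4 2)), cm L (W4 1) (dd f x₀ (W4 3)),
        cm L (W4 2) (dd f x₀ (W4 3))]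
      let H : Subgroup B :=
        { carrier := {x | ∃ e : Fin 6 → Bool, x = ∏ i, if e i then gens i else 1}
          one_mem' := ⟨fun _ => false, by simp⟩
          mul_mem' := by
            rintro _ _ ⟨e, rfl⟩ ⟨e', rfl⟩
            refine ⟨fun i => xor (e i) (e' i), ?_⟩
            rw [← Finset.prod_mul_distrib]
            refine Finset.prod_congr rfl fun i _ => ?_
            rcases Bool.eq_false_or_eq_true (e i) with h | h <;>
              rcases Bool.eq_false_or_eq_true (e' i) with h' | h' <;> simp [h, h', L.sq]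
          inv_mem' := fun h => by rwa [L.inv_eq] }
      have hgen : ∀ i, gens i ∈ H := fun i => ⟨fun j => decide (j = i), by simp⟩
      have hbase : ∀ i j : Fin 4, cm L (W4 i) (dd f x₀ (W4 j)) ∈ H := by
        intro i j
        fin_cases i <;> fin_cases j <;> first
          | (rw [cm_dd_self L ho hx₀ (hW4 _)]; exact one_mem _)
          | exact hgen 0 | exact hgen 1 | exact hgen 2 | exact hgen 3 | exact hgen 4 | exact hgen 5
          | (rw [cm_dd_comm L ho hx₀ (hW4 _) (hW4 _)]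
             first | exact hgen 0 | exact hgen 1 | exact hgen 2 | exact hgen 3 | exact hgen 4 | exact hgen 5)
      have hall : ∀ (P : ↥M24 → Prop), P 1 → (∀ i, P (W4 i)) →
          (∀ a b, a ∈ Wo oct → b ∈ Wo oct → P a → P b → P (a * b)) → ∀ x ∈ Wo oct, P x := by
        intro P h1 hi hm x hx
        obtain ⟨e, rfl⟩ := hW4gen x hx
        have hP : ∀ i, P (if e i then W4 i else 1) := fun i => by split; exacts [hi i, h1]
        have hmW : ∀ i, (if e i then W4 i else 1) ∈ Wo oct := fun i => by split; exacts [hW4 i, one_mem _]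
        exact hm _ _ (mul_mem (mul_mem (hmW 0) (hmW 1)) (hmW 2)) (hmW 3)
          (hm _ _ (mul_mem (hmW 0) (hmW 1)) (hmW 2) (hm _ _ (hmW 0) (hmW 1) (hP 0) (hP 1)) (hP 2)) (hP 3)
      have hle : P6 L oct ≤ H := by
        rw [← cm_span L ho hx₀, Subgroup.closure_le]
        rintro _ ⟨u, hu, v, hv, rfl⟩
        refine hall (fun u => cm L u (dd f x₀ v) ∈ H) ?_ (fun i => ?_) (fun a b ha hb h1 h2 => ?_) u hu
        · rw [cm, map_one, MulAut.one_apply, L.sq]
          exact one_mem _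
        · refine hall (fun v => cm L (W4 i) (dd f x₀ v) ∈ H) ?_ (hbase i) (fun a b ha hb h1 h2 => ?_) v hv
          · rw [dd_one L, cm, map_one, mul_one]
            exact one_mem _
          · rw [dd_mul_mod L ho hx₀ ha hb, cm_mul, cm_mul, cm_of_mem L (hW4 i) (cm_dd_mem L ho hx₀ ha hb), mul_one]
            exact mul_mem h1 h2
        · rw [cm_mul_left L ho hx₀ ha hb (dd_mem_V0 L ho hx₀ hv)]
          exact mul_mem h1 h2
      obtain ⟨e, he⟩ := hle (show el f t ∈ P6 L oct from ⟨t, ht, ht2, rfl⟩)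
      have hd : ∀ (b : Bool) (i j : Fin 4), 2 ∣ (if b then co (W4 i) (uS j) else ∅).card := fun b i j => by
        split; exacts [dvd_co (hu2 j), by simp]
      refine ⟨e, (eqv_iff L ht2 (dvd_sd (dvd_sd (dvd_sd (dvd_sd (dvd_sd (hd _ 0 1) (hd _ 0 2)) (hd _ 0 3))
        (hd _ 1 2)) (hd _ 1 3)) (hd _ 2 3))).2 ?_⟩
      rw [he, el_sd L, el_sd L, el_sd L, el_sd L, el_sd L, Fin.prod_univ_six]
      simp only [apply_ite (el f), el_empty L, hco]
      rfl
  · -- fixed_oct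
    intro g hg h2 hp
    by_cases hg1 : g = 1
    · exact ⟨oct, ho, fun x _ => by rw [hg1]; rfl⟩
    obtain ⟨p, hp⟩ := hp
    exact ⟨_, exists_octad_of_fix hg h2 hg1 hp, fun x hx => (Finset.mem_filter.1 hx).2⟩

end CfsgLib.JankoFour.TwoTen
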