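import Cfsg.Agent.Lib.JankoFour.TwoTen.Module

/-!
# The elementary subgroups of the Mathieu group with many fixed vectors
-/

set_option autoImplicit false
set_option linter.unusedSectionVars false

namespace CfsgLib.JankoFour.TwoTen

open Cfsg CfsgLib.Golay CfsgLib.M24Cert
open scoped Pointwise symmDiff

/-! ### Permutations of a small set -/

section perm

variable {α : Type*} [Fintype α] [DecidableEq α]

/-- The support of an even involution. -/
theorem support_mod_four {σ : Equiv.Perm α} (h2 : σ * σ = 1) (hs : Equiv.Perm.sign σ = 1) :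
    σ.support.card % 4 = 0 := by
  by_cases h1 : σ = 1
  · simp [h1]
  haveI : Fact (Nat.Prime 2) := ⟨Nat.prime_two⟩
  have hord : orderOf σ = 2 := orderOf_eq_prime (by rw [pow_two, h2]) h1
  obtain ⟨n, hn⟩ := Equiv.Perm.cycleType_prime_order (by rw [hord]; exact Nat.prime_two)
  rw [hord] at hn
  have hsum := σ.sum_cycleType
  rw [hn, Multiset.sum_replicate, smul_eq_mul] at hsum
  rw [Equiv.Perm.sign_of_cycleType, hn, Multiset.sum_replicate, Multiset.card_replicate, smul_eq_mul] at hs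
  rcases Nat.even_or_odd (n + 1) with ⟨k, hk⟩ | h
  · omega
  · exfalso
    have : Odd ((n + 1) * 2 + (n + 1)) := Even.add_odd (even_two.mul_left _) h
    rw [this.neg_one_pow] at hs
    exact absurd hs (by decide)

/-- A commutative group of involutions moving points of a set only has order at most two to half its size. -/
theorem card_sq_le : ∀ (n : ℕ) (s : Finset α), s.card = n → ∀ G : Subgroup (Equiv.Perm α),
    (∀ g ∈ G, g * g = 1) → (∀ g ∈ G, ∀ x, x ∉ s → g x = x) → Nat.card ↥G * Nat.card ↥G ≤ 2 ^ n := by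
  classical
  intro n
  induction n using Nat.strong_induction_on with
  | _ n ih =>
  intro s hs G hG hmove
  have hcomm : ∀ g ∈ G, ∀ h ∈ G, g * h = h * g := fun g hg h hh => by
    have e := hG _ (mul_mem hg hh)
    calc g * h = g * (g * h * (g * h)) * h := by rw [e, mul_one]
      _ = (g * g) * (h * g) * (h * h) := by simp only [mul_assoc]
      _ = h * g := by rw [hG g hg, hG h hh, one_mul, mul_one]
  by_cases hne : ∃ x ∈ s, ∃ g ∈ G, g x ≠ x
  swap
  · have hbot : G = ⊥ := by
      rw [eq_bot_iff]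
      intro g hg
      refine Subgroup.mem_bot.2 (Equiv.ext fun x => by_contra fun hgx => ?_)
      exact hne ⟨x, by_contra fun hx => hgx (hmove g hg x hx), g, hg, hgx⟩
    rw [hbot, Subgroup.card_bot]
    exact Nat.one_le_two_pow
  obtain ⟨x, hx, g₀, hg₀, hgx⟩ := hne
  set O := (MulAction.orbit ↥G x).toFinset with hO
  set S := G ⊓ MulAction.stabilizer (Equiv.Perm α) x with hS
  have hOs : O ⊆ s := by
    intro y hy
    obtain ⟨g, rfl⟩ := Set.mem_toFinset.1 hy
    by_contra hgy
    have h1 : (g : Equiv.Perm α) ((g : Equiv.Perm α) x) = (g : Equiv.Perm α) x := hmove g g.2 _ hgy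
    exact hgy (show (g : Equiv.Perm α) x ∈ s from ((g : Equiv.Perm α).injective h1).symm ▸ hx)
  have hfix : ∀ g ∈ S, ∀ y, y ∉ s \ O → g y = y := by
    rintro g ⟨hg, hgx⟩ y hy
    by_cases hys : y ∈ s
    · have hyO : y ∈ O := by_contra fun h => hy (Finset.mem_sdiff.2 ⟨hys, h⟩)
      obtain ⟨k, rfl⟩ := Set.mem_toFinset.1 hyO
      show g ((k : Equiv.Perm α) x) = (k : Equiv.Perm α) x
      rw [← Equiv.Perm.mul_apply, hcomm g hg _ k.2, Equiv.Perm.mul_apply, show g x = x from hgx]
    · exact hmove g hg y hys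
  have hOcard : O.card = Nat.card ↥(MulAction.orbit ↥G x) := by
    rw [hO, Set.toFinset_card, Nat.card_eq_fintype_card]
  have hcard : Nat.card ↥G = O.card * Nat.card ↥S := by
    rw [hOcard, Nat.card_coe_set_eq, ← MulAction.index_stabilizer, ← Subgroup.index_mul_card (MulAction.stabilizer ↥G x)]
    congr 1
    exact Nat.card_congr ⟨fun g => ⟨g.1.1, g.1.2, g.2⟩, fun g => ⟨⟨g.1, g.2.1⟩, g.2.2⟩, fun _ => rfl, fun _ => rfl⟩
  have hG2 : IsPGroup 2 ↥G := fun g => ⟨1, by rw [pow_one, pow_two]; exact Subtype.ext (hG g g.2)⟩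
  obtain ⟨k, hk⟩ := hG2.card_orbit x
  rw [← hOcard] at hk
  have h2 : 2 ≤ O.card := Finset.one_lt_card.2 ⟨x, Set.mem_toFinset.2 (MulAction.mem_orbit_self x),
    g₀ x, Set.mem_toFinset.2 ⟨⟨g₀, hg₀⟩, rfl⟩, Ne.symm hgx⟩
  have hle := Finset.card_le_card hOs
  have hrest := ih (s \ O).card (by rw [Finset.card_sdiff_of_subset hOs, hs]; omega) (s \ O) rfl S
    (fun g hg => hG g hg.1) hfix
  rw [Finset.card_sdiff_of_subset hOs, hs] at hrest
  have hsq : O.card * O.card ≤ 2 ^ O.card := by
    rw [hk]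
    have h : ∀ k, 2 * k ≤ 2 ^ k := by
      intro k
      induction k with
      | zero => simp
      | succ k ih => rw [pow_succ]; have := Nat.one_le_two_pow (n := k); omega
    rw [← pow_add, ← two_mul]
    exact Nat.pow_le_pow_right (by norm_num) (h k)
  rw [hcard, show n = O.card + (n - O.card) by omega, pow_add]
  calc O.card * Nat.card ↥S * (O.card * Nat.card ↥S) = (O.card * O.card) * (Nat.card ↥S * Nat.card ↥S) :=
        mul_mul_mul_comm _ _ _ _
    _ ≤ _ := Nat.mul_le_mul hsq hrest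

end perm

/-! ### The involution without fixed points -/

/-- The commutator masks of five pairs with the representative involution. -/
def fpfMasks : List ℕ := [15, 4194323, 2097187, 1091, 2179]

/-- The sum of the chosen masks. -/
def maskSum (e : ℕ) : ℕ :=
  (if e.testBit 0 then 15 else 0) ^^^ (if e.testBit 1 then 4194323 else 0) ^^^
    (if e.testBit 2 then 2097187 else 0) ^^^ (if e.testBit 3 then 1091 else 0) ^^^
    (if e.testBit 4 then 2179 else 0)

theorem maskSum_odd : ∀ e < 32, e ≠ 0 → ∃ b ∈ golayBasis, bitCount (maskSum e &&& b) % 2 = 1 := by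
  decide +kernel

theorem fpf_images : getR elT.L 0 = 1 ∧ getR elT.L 2 = 3 ∧ getR elT.L 4 = 22 ∧ getR elT.L 5 = 21 ∧
    getR elT.L 6 = 10 ∧ getR elT.L 7 = 11 := by
  decide +kernel

variable {B : Type*} [CommGroup B] [Finite B] {f : GolayPt → B} (L : Lab f)
include L

/-- The fixed vectors of a set of elements. -/
noncomputable def fixS (S : Set ↥M24) : Subgroup B where
  carrier := {x | ∀ g ∈ S, L.act g x = x}
  one_mem' := fun g _ => map_one _
  mul_mem' := fun ha hb g hg => by rw [map_mul, ha g hg, hb g hg]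
  inv_mem' := fun ha g hg => by rw [map_inv, ha g hg]

theorem mem_fixS {S : Set ↥M24} {x : B} : x ∈ fixS L S ↔ ∀ g ∈ S, L.act g x = x := Iff.rfl

theorem fixed_fpf_rep {T : ↥M24} (hT : (T : Equiv.Perm GolayPt) = pL elT.L) :
    Nat.card ↥(fixS L {T}) ≤ 64 := by
  classical
  have hv : validL 24 elT.L = true := (GenT.valid' certs_ok.2.2.2.1).2
  have himg : ∀ i, i < 24 → (T : Equiv.Perm GolayPt) (pt i) = pt (getR elT.L i) := fun i hi => by
    rw [hT]
    exact (desc_pL hv i hi).2
  let φ : B →* B := MonoidHom.mk' (cm L T) (cm_mul L T)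
  have hker : φ.ker = fixS L {T} := by
    ext x
    rw [MonoidHom.mem_ker, mem_fixS]
    show cm L T x = 1 ↔ _
    rw [cm_eq_one_iff]
    simp
  have hword : ∀ i, i < 24 → (Pi.single (pt i) 1 : Word) = toWord (2 ^ i) := fun i hi => by
    ext p
    simp only [toWord, Nat.testBit_two_pow, Pi.single_apply]
    by_cases h : p = pt i
    · rw [if_pos h, h, ptEquiv_pt hi]
      simp
    · rw [if_neg h, if_neg]
      simp only [decide_eq_true_eq]
      intro e
      exact h (by rw [e, pt_ptEquiv])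
  have hval : ∀ a, a < 24 → getR elT.L a < 24 → ∀ m, (2 ^ 0 ^^^ 2 ^ 1) ^^^ (2 ^ a ^^^ 2 ^ getR elT.L a) = m →
      φ (pr f (pt 0) (pt a)) = ev f (toWord m) := by
    intro a ha hTa m hm
    show cm L T (pr f (pt 0) (pt a)) = _
    rw [cm_pr, himg a ha, himg 0 (by norm_num), fpf_images.1, ← hm, toWord_xor, toWord_xor, toWord_xor, L.ev_add,
      ← hword 0 (by norm_num), ← hword 1 (by norm_num), ← hword a ha, ← hword _ hTa, L.ev_pair, L.ev_pair]
  obtain ⟨-, e2, e4, e5, e6, e7⟩ := fpf_images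
  have hr : ∀ e, ev f (toWord (maskSum e)) ∈ φ.range := by
    intro e
    have h1 : ∀ (c : Bool) (m : ℕ), ev f (toWord m) ∈ φ.range → ev f (toWord (if c then m else 0)) ∈ φ.range := by
      intro c m hm
      cases c
      · simpa [toWord_zero, ev] using one_mem φ.range
      · exact hm
    simp only [maskSum, toWord_xor, L.ev_add]
    refine mul_mem (mul_mem (mul_mem (mul_mem (h1 _ _ ?_) (h1 _ _ ?_)) (h1 _ _ ?_)) (h1 _ _ ?_)) (h1 _ _ ?_)
    · exact ⟨_, hval 2 (by norm_num) (by rw [e2]; norm_num) 15 (by rw [e2]; decide)⟩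
    · exact ⟨_, hval 4 (by norm_num) (by rw [e4]; norm_num) 4194323 (by rw [e4]; decide)⟩
    · exact ⟨_, hval 5 (by norm_num) (by rw [e5]; norm_num) 2097187 (by rw [e5]; decide)⟩
    · exact ⟨_, hval 6 (by norm_num) (by rw [e6]; norm_num) 1091 (by rw [e6]; decide)⟩
    · exact ⟨_, hval 7 (by norm_num) (by rw [e7]; norm_num) 2179 (by rw [e7]; decide)⟩
  have heven : ∀ e < 32, bitCount (maskSum e) % 2 = 0 := by decide +kernel
  have hxor : ∀ a < 32, ∀ b < 32, maskSum a ^^^ maskSum b = maskSum (a ^^^ b) ∧ a ^^^ b < 32 := by decide +kernel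
  have hsum : ∀ n, bitCount n % 2 = 0 → ∑ p, toWord n p = 0 := fun n hn => by
    rw [toWord_eq_indW]
    exact even_iff_card.2 (by rw [card_toSet]; exact Nat.dvd_of_mod_eq_zero hn)
  let g : Fin 32 → ↥φ.range := fun e => ⟨_, hr e⟩
  have hg : Function.Injective g := by
    intro a b e
    by_contra hab
    have e' : ev f (toWord (maskSum a)) = ev f (toWord (maskSum b)) := congrArg Subtype.val e
    rw [L.ev_eq_iff (hsum _ (heven a a.2)) (hsum _ (heven b b.2)), ← toWord_xor, (hxor a a.2 b b.2).1] at e'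
    obtain ⟨c, hc, hodd⟩ := maskSum_odd _ (hxor a a.2 b b.2).2
      (fun h => hab (Fin.ext (Nat.xor_eq_zero_iff.1 h)))
    have h0 := code_self_orth e' (mem_golayCode.2 ⟨c, mem_spanList_self hc, rfl⟩)
    rw [dotW, sum_toWord, ZMod.natCast_eq_zero_iff_even] at h0
    obtain ⟨k, hk⟩ := h0
    omega
  have h32 := Nat.card_le_card_of_injective g hg
  rw [Nat.card_fin] at h32
  have h := φ.ker.card_mul_index
  rw [Subgroup.index_ker, L.cardB, hker] at h
  nlinarith

theorem fixed_fpf {g : ↥M24} (h2 : g * g = 1) (hfp : ∀ p, (g : Equiv.Perm GolayPt) p ≠ p) :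
    Nat.card ↥(fixS L {g}) ≤ 64 := by
  have ho : orderOf (g : Equiv.Perm GolayPt) = 2 := orderOf_eq_prime
    (by rw [pow_two, ← Subgroup.coe_mul, h2, Subgroup.coe_one]) fun e => hfp none (by rw [e]; rfl)
  obtain ⟨a, ha, ⟨e, -⟩ | ⟨-, hc⟩⟩ := inv_cases g.2 ho
  · let T : ↥M24 := ⟨pL elT.L, GenT.mem_M24 certs_ok.2.2.2.1⟩
    let k : ↥M24 := ⟨a, ha⟩
    have hgk : g = k * T * k⁻¹ := Subtype.ext e
    refine le_trans (Nat.card_le_card_of_injective (fun x : ↥(fixS L {g}) => (⟨L.act k⁻¹ x.1, ?_⟩ : ↥(fixS L {T})))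
      fun x y e => Subtype.ext ((L.act k⁻¹).injective (congrArg Subtype.val e))) (fixed_fpf_rep L (T := T) rfl)
    rw [mem_fixS]
    intro t ht
    have e1 : T * k⁻¹ = k⁻¹ * g := by rw [hgk]; group
    rw [Set.mem_singleton_iff.1 ht, ← MulAut.mul_apply, ← map_mul, e1, map_mul, MulAut.mul_apply, x.2 g rfl]
  · rw [fixed_card_zero_iff.2 hfp] at hc
    omega

end CfsgLib.JankoFour.TwoTen
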