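import Cfsg.Agent.Lib.JankoFour.TwoTen.Exist

/-!
# One class of self-centralising elementary groups of order `2^10`
-/

set_option autoImplicit false
set_option linter.unusedSectionVars false

namespace CfsgLib.JankoFour.TwoTen

open Cfsg CfsgLib.Golay
open scoped symmDiff Pointwise

variable {G : Type*} [Group G] [Finite G]

/-- The conjugate of a subgroup. -/
abbrev cnj (k : G) (H : Subgroup G) : Subgroup G := H.map (MulAut.conj k).toMonoidHom

theorem mem_cnj {k x : G} {H : Subgroup G} : x ∈ cnj k H ↔ k⁻¹ * x * k ∈ H := by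
  constructor
  · rintro ⟨y, hy, rfl⟩
    simpa [mul_assoc] using hy
  · intro h
    exact ⟨_, h, by simp [mul_assoc]⟩

theorem cnj_mul (k l : G) (H : Subgroup G) : cnj k (cnj l H) = cnj (k * l) H := by
  ext x
  simp [mem_cnj, mul_assoc]

theorem cnj_one (H : Subgroup G) : cnj 1 H = H := by
  ext x
  simp [mem_cnj]

theorem cnj_mono {k : G} {H K : Subgroup G} (h : H ≤ K) : cnj k H ≤ cnj k K := Subgroup.map_mono h

theorem cnj_card (k : G) (H : Subgroup G) : Nat.card ↥(cnj k H) = Nat.card ↥H :=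
  Subgroup.card_map_of_injective (f := (MulAut.conj k).toMonoidHom) (MulAut.conj k).injective

theorem cnj_elem {k : G} {H : Subgroup G} (h : IsElementaryAbelian 2 H) : IsElementaryAbelian 2 (cnj k H) := by
  refine ⟨⟨⟨?_⟩⟩, ?_⟩
  · rintro ⟨_, a, ha, rfl⟩ ⟨_, b, hb, rfl⟩
    refine Subtype.ext ?_
    show (MulAut.conj k).toMonoidHom a * (MulAut.conj k).toMonoidHom b =
      (MulAut.conj k).toMonoidHom b * (MulAut.conj k).toMonoidHom a
    rw [← map_mul, ← map_mul, show a * b = b * a from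
      congrArg Subtype.val (h.1.is_comm.comm ⟨a, ha⟩ ⟨b, hb⟩)]
  · rintro _ ⟨a, ha, rfl⟩
    rw [← map_pow, h.2 a ha, map_one]

theorem cnj_normalizer (k : G) (H : Subgroup G) :
    cnj k (Subgroup.normalizer (H : Set G)) = Subgroup.normalizer (cnj k H : Set G) := by
  ext x
  simp only [mem_cnj, Subgroup.mem_normalizer_iff, SetLike.mem_coe]
  constructor
  · intro h y
    rw [h (k⁻¹ * y * k)]
    simp [mul_assoc]
  · intro h y
    have := h (k * y * k⁻¹)
    simpa [mul_assoc] using this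

theorem cnj_cent {k : G} {H : Subgroup G} (h : Subgroup.centralizer (H : Set G) = H) :
    Subgroup.centralizer (cnj k H : Set G) = cnj k H := by
  ext x
  rw [mem_cnj]
  conv_rhs => rw [← h]
  simp only [Subgroup.mem_centralizer_iff, SetLike.mem_coe]
  constructor
  · intro hx y hy
    have := hx (k * y * k⁻¹) (mem_cnj.2 (by simpa [mul_assoc] using hy))
    calc y * (k⁻¹ * x * k) = k⁻¹ * (k * y * k⁻¹ * x) * k := by group
      _ = k⁻¹ * (x * (k * y * k⁻¹)) * k := by rw [this]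
      _ = k⁻¹ * x * k * y := by group
  · intro hx y hy
    have := hx _ (mem_cnj.1 hy)
    calc y * x = k * (k⁻¹ * y * k * (k⁻¹ * x * k)) * k⁻¹ := by group
      _ = k * (k⁻¹ * x * k * (k⁻¹ * y * k)) * k⁻¹ := by rw [this]
      _ = x * y := by group

variable {z : G} {V : Subgroup G} {P : Finset GolayPt → G} {κ : Equiv.Perm GolayPt → G}

namespace Setup

variable (S : Setup z V P κ)
include S

theorem exists_into_normalizer {B : Subgroup G} (hB : IsPGroup 2 ↥B) :
    ∃ c : G, cnj c B ≤ Subgroup.normalizer (V : Set G) := by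
  haveI := Fact.mk Nat.prime_two
  obtain ⟨T₀, hT₀⟩ := (IsPGroup.of_card S.card).exists_le_sylow
  obtain ⟨T, hT⟩ := hB.exists_le_sylow
  obtain ⟨c, hc⟩ := MulAction.exists_smul_eq G T T₀
  have e : cnj c (T : Subgroup G) = (T₀ : Subgroup G) := by
    rw [← hc]
    rfl
  have hnorm : (T₀ : Subgroup G) ≤ Subgroup.normalizer (V : Set G) := by
    intro t ht
    have h1 : cnj t V = V := S.uniq _ _ (cnj_elem S.elem) (by rw [cnj_card]; exact S.card) T₀.2 hT₀ fun x hx => by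
      have := mul_mem (mul_mem ht (hT₀ (mem_cnj.1 hx))) (inv_mem ht)
      simpa [mul_assoc] using this
    refine Subgroup.mem_normalizer_iff.2 fun y => ?_
    conv_rhs => rw [← h1]
    rw [mem_cnj]
    simp [mul_assoc]
  exact ⟨c, le_trans (cnj_mono hT) (e.le.trans hnorm)⟩

/-- A self-centralising group of order `2^10` normalising `V` is a conjugate of the standard one. -/
theorem conj_A (hC : Certs) {B : Subgroup G} (hB : IsElementaryAbelian 2 B) (hcard : Nat.card ↥B = 2 ^ 10)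
    (hself : Subgroup.centralizer (B : Set G) = B) (hle : B ≤ Subgroup.normalizer (V : Set G)) :
    ∃ g ∈ Subgroup.normalizer (V : Set G), B = cnj g S.A := by
  classical
  obtain ⟨ψ, hψM, hψ1, hψ⟩ := S.exists_proj
  let f : ↥B →* Equiv.Perm GolayPt := ψ.comp (Subgroup.inclusion hle)
  have hker : ∀ b : ↥B, f b = 1 ↔ (b : G) ∈ V := fun b => hψ1 _
  have hcomm : ∀ a ∈ B, ∀ b ∈ B, a * b = b * a := fun a ha b hb =>
    congrArg Subtype.val (hB.1.is_comm.comm ⟨a, ha⟩ ⟨b, hb⟩)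
  have hdec : ∀ b : ↥B, ∃ s, 2 ∣ s.card ∧ (b : G) = P s * κ (f b) := fun b => hψ (Subgroup.inclusion hle b)
  choose sec hsec hb using hdec
  -- the image and the vectors
  have hBimg : IsElementaryAbelian 2 f.range := by
    refine ⟨⟨⟨?_⟩⟩, ?_⟩
    · rintro ⟨_, a, rfl⟩ ⟨_, b, rfl⟩
      refine Subtype.ext ?_
      show f a * f b = f b * f a
      rw [← map_mul, ← map_mul, show a * b = b * a from Subtype.ext (hcomm _ a.2 _ b.2)]
    · rintro _ ⟨a, rfl⟩
      rw [← map_pow, show a ^ 2 = 1 from Subtype.ext (hB.2 _ a.2), map_one]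
  have himgM : f.range ≤ M24 := by
    rintro _ ⟨b, rfl⟩
    exact hψM _
  haveI : Fintype ↥f.ker := Fintype.ofFinite _
  let T : Finset (Finset GolayPt) := Finset.image (fun b : ↥f.ker => sec (b : ↥B)) Finset.univ
  have hkerP : ∀ b : ↥f.ker, ((b : ↥B) : G) = P (sec (b : ↥B)) := fun b => by
    rw [hb, MonoidHom.mem_ker.1 b.2, S.κ_one, mul_one]
  have hTcard : T.card = Nat.card ↥f.ker := by
    rw [Finset.card_image_of_injective, Finset.card_univ, Nat.card_eq_fintype_card]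
    intro a b e
    exact Subtype.ext (Subtype.ext (by rw [hkerP, hkerP, show sec (a : ↥B) = sec (b : ↥B) from e]))
  have hsplit : Nat.card ↥f.ker * Nat.card ↥f.range = 2 ^ 10 := by
    rw [← hcard, ← f.ker.card_mul_index, Subgroup.index_ker]
  have hfixT : ∀ s ∈ T, 2 ∣ s.card ∧ ∀ k ∈ f.range, Eqv (k • s) s := by
    intro s hs
    obtain ⟨b, -, rfl⟩ := Finset.mem_image.1 hs
    refine ⟨hsec _, ?_⟩
    rintro _ ⟨a, rfl⟩
    have e := hcomm _ (b : ↥B).2 _ a.2
    rw [hkerP, hb a, ← mul_one (P (sec (b : ↥B))), ← S.κ_one,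
      S.el_comm_iff (hsec _) (hsec a) (one_mem _) (himgM ⟨a, rfl⟩), one_smul] at e
    have := e.2.add (Eqv.refl (sec a))
    rw [show sec (b : ↥B) ∆ sec a ∆ sec a = sec (b : ↥B) by rw [symmDiff_assoc, symmDiff_self]; exact symmDiff_bot _,
      show sec a ∆ (f a • sec (b : ↥B)) ∆ sec a = f a • sec (b : ↥B) by
        rw [symmDiff_comm (sec a), symmDiff_assoc, symmDiff_self]; exact symmDiff_bot _] at this
    exact this.symm
  have hinjT : ∀ s ∈ T, ∀ t ∈ T, Eqv s t → s = t := by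
    intro s hs t ht e
    obtain ⟨a, -, rfl⟩ := Finset.mem_image.1 hs
    obtain ⟨b, -, rfl⟩ := Finset.mem_image.1 ht
    have : a = b := Subtype.ext (Subtype.ext (by rw [hkerP, hkerP, (S.P_eq_iff (hsec _) (hsec _)).2 e]))
    rw [this]
  rcases hC.big f.range himgM hBimg T hfixT hinjT (by rw [hTcard, mul_comm, hsplit]) with h0 | ⟨o, ho, h0⟩
  · -- inside `V`
    exfalso
    have hBV : B ≤ V := fun b hb' => (hker ⟨b, hb'⟩).1 ((Subgroup.eq_bot_iff_forall _).1 h0 _ ⟨⟨b, hb'⟩, rfl⟩)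
    have hVB : V ≤ B := by
      intro v hv
      rw [← hself]
      exact Subgroup.mem_centralizer_iff.2 fun b hb' => S.comm (hBV hb') hv
    have := Subgroup.card_le_of_le hVB
    rw [S.card, hcard] at this
    norm_num at this
  obtain ⟨k, hk, rfl⟩ := octads_transitive ho
  -- move to the standard octad
  have hkN := S.kmem k hk
  let B₁ : Subgroup G := cnj (κ k)⁻¹ B
  have hrange : ∀ w, w ∈ Wgrp ↔ k * w * k⁻¹ ∈ f.range := by
    intro w
    rw [h0, mem_W, Subgroup.mem_inf]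
    refine and_congr ⟨fun h => mul_mem (mul_mem hk h) (inv_mem hk), fun h => ?_⟩ ?_
    · have := mul_mem (mul_mem (inv_mem hk) h) hk
      simpa [mul_assoc] using this
    · simp only [mem_fixingSubgroup_iff, Finset.mem_coe, Equiv.Perm.smul_def, Equiv.Perm.mul_apply]
      constructor
      · intro h y hy
        obtain ⟨x, hx, rfl⟩ := Finset.mem_smul_finset.1 hy
        rw [Equiv.Perm.smul_def, show k⁻¹ (k x) = x by simp, h x hx]
      · intro h x hx
        have := h (k x) (Finset.smul_mem_smul_finset hx)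
        simpa using this
  have hrep : ∀ w ∈ Wgrp, ∃ s, 2 ∣ s.card ∧ P s * κ w ∈ B₁ := by
    intro w hw
    obtain ⟨b, hb'⟩ := (hrange w).1 hw
    refine ⟨k⁻¹ • sec b, two_dvd_smul (hsec b), mem_cnj.2 ?_⟩
    rw [inv_inv, S.conj_κ (two_dvd_smul (hsec b)) hk (mem_W.1 hw).1, smul_inv_smul, ← hb', ← hb]
    exact b.2
  choose! c hc2 hc using hrep
  have hB₁ : IsElementaryAbelian 2 B₁ := cnj_elem hB
  have hB₁comm : ∀ a ∈ B₁, ∀ b ∈ B₁, a * b = b * a := fun a ha b hb' =>
    congrArg Subtype.val (hB₁.1.is_comm.comm ⟨a, ha⟩ ⟨b, hb'⟩)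
  have hB₁img : ∀ x ∈ B₁, ∃ s, 2 ∣ s.card ∧ ∃ w ∈ Wgrp, x = P s * κ w := by
    intro x hx
    have hx' := mem_cnj.1 hx
    rw [inv_inv] at hx'
    obtain ⟨s, hs, e⟩ : ∃ s, 2 ∣ s.card ∧ κ k * x * (κ k)⁻¹ = P s * κ (f ⟨_, hx'⟩) := ⟨_, hsec _, hb ⟨_, hx'⟩⟩
    refine ⟨k⁻¹ • s, two_dvd_smul hs, k⁻¹ * f ⟨_, hx'⟩ * k, (hrange _).2 ?_, ?_⟩
    · exact ⟨⟨_, hx'⟩, by group⟩
    · have e2 := S.conj_κ (g := k⁻¹) (k := f ⟨_, hx'⟩) hs (inv_mem hk) (hψM _)
      rw [inv_inv, ← e, S.κ_inv hk] at e2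
      rw [← e2]
      group
  have hPW : ∀ s, 2 ∣ s.card → P s ∈ B₁ → InP s := by
    intro s hs hsB
    refine hC.fix_w s hs fun w hw => ?_
    have e := hB₁comm _ (hc w hw) _ hsB
    rw [← mul_one (P s), ← S.κ_one, S.el_comm_iff (hc2 w hw) hs (mem_W.1 hw).1 (one_mem _), one_smul] at e
    have := (Eqv.refl (c w)).add e.2
    rwa [← symmDiff_assoc, symmDiff_self, bot_symmDiff, symmDiff_comm s, ← symmDiff_assoc, symmDiff_self,
      bot_symmDiff] at this
  obtain ⟨u, hu, huW⟩ := hC.lifts c hc2 (fun w hw => ((S.el_sq_iff (hc2 w hw) (mem_W.1 hw).1).1 (by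
      rw [← pow_two]; exact hB₁.2 _ (hc w hw))).2)
    (fun w hw w' hw' => ((S.el_comm_iff (hc2 w hw) (hc2 w' hw') (mem_W.1 hw).1 (mem_W.1 hw').1).1
      (hB₁comm _ (hc w hw) _ (hc w' hw'))).2)
    fun w hw w' hw' => by
      have hww' := mul_mem hw hw'
      have hd : 2 ∣ (c w ∆ (w • c w')).card := two_dvd_sd (hc2 w hw) (two_dvd_smul (hc2 w' hw'))
      refine hPW _ (two_dvd_sd hd (hc2 _ hww')) ?_
      have h1 := mul_mem (mul_mem (hc w hw) (hc w' hw')) (inv_mem (hc _ hww'))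
      rw [S.mul_el (hc2 w hw) (hc2 w' hw') (mem_W.1 hw).1 (mem_W.1 hw').1, mul_inv_rev, ← mul_assoc,
        mul_inv_cancel_right, S.P_inv (hc2 _ hww'), ← S.mul _ _ hd (hc2 _ hww')] at h1
      exact h1
  have hB₂ : cnj (P u) B₁ ≤ S.A := by
    rintro _ ⟨x, hx, rfl⟩
    obtain ⟨s, hs, w, hw, rfl⟩ := hB₁img x hx
    show P u * (P s * κ w) * (P u)⁻¹ ∈ S.A
    rw [S.conj_P hu hs (mem_W.1 hw).1, S.el_mem_A (two_dvd_sd hs (two_dvd_co hu)) (mem_W.1 hw).1]
    refine ⟨?_, hw⟩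
    have h1 : InP (s ∆ c w) := by
      refine hPW _ (two_dvd_sd hs (hc2 w hw)) ?_
      have := mul_mem hx (inv_mem (hc w hw))
      rwa [mul_inv_rev, ← mul_assoc, mul_inv_cancel_right, S.P_inv (hc2 w hw), ← S.mul _ _ hs (hc2 w hw)] at this
    have := h1.add (huW w hw)
    rwa [sd_mid] at this
  refine ⟨κ k * (P u)⁻¹, mul_mem hkN (inv_mem (Subgroup.le_normalizer (S.mem u hu))), ?_⟩
  have hA : cnj (P u) B₁ = S.A :=
    Subgroup.eq_of_le_of_card_ge hB₂ (by rw [S.A_card, cnj_card, cnj_card, hcard])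
  rw [← hA, cnj_mul, cnj_mul, inv_mul_cancel_right, mul_inv_cancel, cnj_one]

theorem one_class (hC : Certs) {B : Subgroup G} (hB : IsElementaryAbelian 2 B) (hcard : Nat.card ↥B = 2 ^ 10)
    (hself : Subgroup.centralizer (B : Set G) = B) : ∃ g : G, B = cnj g S.A := by
  obtain ⟨c, hc⟩ := S.exists_into_normalizer (IsPGroup.of_card hcard)
  obtain ⟨g, -, hg⟩ := S.conj_A hC (cnj_elem hB) (by rw [cnj_card, hcard]) (cnj_cent hself) hc
  exact ⟨c⁻¹ * g, by rw [← cnj_mul, ← hg, cnj_mul, inv_mul_cancel, cnj_one]⟩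

/-- The normaliser of the standard group is transitive on the conjugates of `V` it normalises. -/
theorem trans_normalised (hC : Certs) {k : G} (hk : S.A ≤ Subgroup.normalizer (cnj k V : Set G)) :
    ∃ g ∈ Subgroup.normalizer (S.A : Set G), cnj g V = cnj k V := by
  have hle : cnj k⁻¹ S.A ≤ Subgroup.normalizer (V : Set G) := by
    have := cnj_mono (k := k⁻¹) hk
    rwa [cnj_normalizer, cnj_mul, inv_mul_cancel, cnj_one] at this
  obtain ⟨h, hh, e⟩ := S.conj_A hC (cnj_elem S.A_elem) (by rw [cnj_card, S.A_card]) (cnj_cent (S.A_cent hC)) hle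
  have hfix : cnj (k * h) S.A = S.A := by rw [← cnj_mul, ← e, cnj_mul, mul_inv_cancel, cnj_one]
  refine ⟨k * h, Subgroup.mem_normalizer_iff.2 fun y => ?_, ?_⟩
  · conv_rhs => rw [← hfix]
    rw [mem_cnj]
    simp [mul_assoc]
  · rw [← cnj_mul]
    congr 1
    ext y
    rw [mem_cnj]
    exact (Subgroup.mem_normalizer_iff''.1 hh y).symm

end Setup

end CfsgLib.JankoFour.TwoTen
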