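import Cfsg.Agent.Lib.JankoFour.TwoTen.Stab

/-!
# The two orbits of the normaliser on the group of order `2^10`
-/

set_option autoImplicit false
set_option linter.unusedSectionVars false

namespace CfsgLib.JankoFour.TwoTen

open Cfsg CfsgLib.Golay
open scoped symmDiff Pointwise

theorem exists_even_perm {α : Type*} [Fintype α] [DecidableEq α] {s t : Finset α} (h : s.card = t.card)
    (h2 : 2 ≤ t.card) : ∃ σ ∈ alternatingGroup α, σ • s = t := by
  classical
  let e : {x // x ∈ s} ≃ {x // x ∈ t} := Fintype.equivOfCardEq (by simpa using h)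
  set σ : Equiv.Perm α := e.extendSubtype
  have hσ : σ • s = t := by
    refine Finset.eq_of_subset_of_card_le (fun y hy => ?_) (by rw [Finset.card_smul_finset, h])
    obtain ⟨x, hx, rfl⟩ := Finset.mem_smul_finset.1 hy
    rw [Equiv.Perm.smul_def]
    exact Equiv.extendSubtype_mem e x hx
  rcases Int.units_eq_one_or (Equiv.Perm.sign σ) with hs | hs
  · exact ⟨σ, Equiv.Perm.mem_alternatingGroup.2 hs, hσ⟩
  · obtain ⟨a, ha, b, hb, hab⟩ := Finset.one_lt_card.1 (show 1 < t.card by omega)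
    refine ⟨Equiv.swap a b * σ, Equiv.Perm.mem_alternatingGroup.2 ?_, ?_⟩
    · rw [map_mul, Equiv.Perm.sign_swap hab, hs]
      norm_num
    · rw [mul_smul, hσ]
      refine Finset.eq_of_subset_of_card_le (fun y hy => ?_) (by rw [Finset.card_smul_finset])
      obtain ⟨x, hx, rfl⟩ := Finset.mem_smul_finset.1 hy
      rw [Equiv.Perm.smul_def, Equiv.swap_apply_def]
      split_ifs <;> assumption

/-- The stabiliser of the octad moves subsets of the octad of one size onto each other. -/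
theorem oct_move {s t : Finset GolayPt} (hs : s ⊆ oct) (ht : t ⊆ oct) (h : s.card = t.card) (h2 : 2 ≤ t.card) :
    ∃ g ∈ M24, g • oct = oct ∧ g • s = t := by
  classical
  let f : GolayPt → Prop := fun x => x ∈ oct
  obtain ⟨σ, hσ, hst⟩ := exists_even_perm (s := s.subtype f) (t := t.subtype f)
    (by rw [Finset.card_subtype, Finset.card_subtype, Finset.filter_true_of_mem hs, Finset.filter_true_of_mem ht, h])
    (by rw [Finset.card_subtype, Finset.filter_true_of_mem ht]; exact h2)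
  have hσ' : σ ∈ (M24Cert.resHom oct).range := by rw [M24Cert.range_resHom oct_mem]; exact hσ
  obtain ⟨g, rfl⟩ := hσ'
  obtain ⟨hg, ho⟩ := M24Cert.mem_octStab.1 g.2
  refine ⟨g.1, hg, ho, Finset.eq_of_subset_of_card_le (fun y hy => ?_) (by rw [Finset.card_smul_finset, h])⟩
  obtain ⟨x, hx, rfl⟩ := Finset.mem_smul_finset.1 hy
  have h' : (M24Cert.resHom oct g) ⟨x, hs hx⟩ ∈ t.subtype f :=
    hst ▸ Finset.smul_mem_smul_finset (Finset.mem_subtype.2 hx)
  exact Finset.mem_subtype.1 h'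

theorem M24_two_trans {a b c d : GolayPt} (hab : a ≠ b) (hcd : c ≠ d) : ∃ g ∈ M24, g a = c ∧ g b = d := by
  haveI := M24_five_transitive
  haveI : MulAction.IsMultiplyPretransitive M24 GolayPt 2 :=
    MulAction.isMultiplyPretransitive_of_le' (G := M24) (α := GolayPt) (m := 2) (n := 5) (by norm_num)
      (by rw [ENat.card_eq_coe_fintype_card]; exact_mod_cast (by decide +kernel : 5 ≤ Fintype.card GolayPt))
  obtain ⟨g, h1, h2⟩ := MulAction.is_two_pretransitive_iff.1 (inferInstance : MulAction.IsMultiplyPretransitive M24 GolayPt 2) hab hcd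
  exact ⟨g.1, g.2, h1, h2⟩

variable {G : Type*} [Group G] [Finite G] {z : G} {V : Subgroup G} {P : Finset GolayPt → G}
  {κ : Equiv.Perm GolayPt → G}

/-- The orbit of an element under conjugation by a subgroup. -/
def orbS (K : Subgroup G) (x : G) : Set G := {v : G | ∃ n ∈ K, n * x * n⁻¹ = v}

/-- The orbit of an element under the normaliser of a subgroup. -/
abbrev orbN (A : Subgroup G) (x : G) : Set G := orbS (Subgroup.normalizer (A : Set G)) x

theorem orbS_card (N : Subgroup G) (x : G) :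
    Nat.card ↥N =
      (orbS N x).ncard * Nat.card ↥(N ⊓ Subgroup.centralizer ({x} : Set G)) := by
  classical
  letI := Fintype.ofFinite ↥N
  letI := Fintype.ofFinite ↥(orbS N x)
  let f : ↥N → ↥(orbS N x) := fun n => ⟨(n : G) * x * (n : G)⁻¹, n, n.2, rfl⟩
  have key : ∀ y : ↥(orbS N x), Nat.card {n : ↥N // f n = y} = Nat.card ↥(N ⊓ Subgroup.centralizer ({x} : Set G)) := by
    rintro ⟨_, m, hm, rfl⟩
    refine Nat.card_congr ⟨fun n => ⟨m⁻¹ * n.1.1, N.mul_mem (N.inv_mem hm) n.1.2,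
        Subgroup.mem_centralizer_singleton_iff.2 ?_⟩,
      fun c => ⟨⟨m * c.1, N.mul_mem hm c.2.1⟩, Subtype.ext ?_⟩, fun n => ?_, fun c => ?_⟩
    · have e : n.1.1 * x * n.1.1⁻¹ = m * x * m⁻¹ := congrArg Subtype.val n.2
      calc m⁻¹ * n.1.1 * x = m⁻¹ * (n.1.1 * x * n.1.1⁻¹) * n.1.1 := by group
        _ = x * (m⁻¹ * n.1.1) := by rw [e]; group
    · have e : (c : G) * x = x * (c : G) := Subgroup.mem_centralizer_singleton_iff.1 c.2.2
      show m * c.1 * x * (m * c.1)⁻¹ = m * x * m⁻¹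
      rw [mul_assoc m, e]
      group
    · exact Subtype.ext (Subtype.ext (mul_inv_cancel_left m n.1.1))
    · exact Subtype.ext (inv_mul_cancel_left m c.1)
  rw [← Nat.card_congr (Equiv.sigmaFiberEquiv f), Nat.card_sigma, Finset.sum_congr rfl fun y _ => key y,
    Finset.sum_const, smul_eq_mul, Finset.card_univ, ← Nat.card_eq_fintype_card, Nat.card_coe_set_eq]

namespace Setup

variable (S : Setup z V P κ)
include S

theorem isConj_pairs {a b c d : GolayPt} (hab : a ≠ b) (hcd : c ≠ d) : IsConj (P {a, b}) (P {c, d}) := by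
  obtain ⟨g, hg, rfl, rfl⟩ := M24_two_trans hab hcd
  refine isConj_iff.2 ⟨κ g, ?_⟩
  rw [S.act g hg _ (by rw [Finset.card_pair hab]), Finset.smul_finset_insert, Finset.smul_finset_singleton]
  rfl

/-- The members of the class of a pair in `A` form one orbit. -/
theorem class_eq_orbit (hC : Certs) {p q : GolayPt} (hp : p ∈ oct) (hq : q ∈ oct) (hpq : p ≠ q) {x : G}
    (hx : x ∈ S.A) (hc : IsConj (P {p, q}) x) : x ∈ orbN S.A (P {p, q}) := by
  obtain ⟨g, rfl⟩ := isConj_iff.1 hc
  have hle : S.A ≤ Subgroup.normalizer (cnj g V : Set G) := by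
    intro a ha
    rw [← cnj_normalizer, mem_cnj]
    refine S.cent p q hpq (Subgroup.mem_centralizer_singleton_iff.2 ?_)
    have e : a * (g * P {p, q} * g⁻¹) = g * P {p, q} * g⁻¹ * a :=
      congrArg Subtype.val (S.A_elem.1.is_comm.comm ⟨a, ha⟩ ⟨_, hx⟩)
    calc g⁻¹ * a * g * P {p, q} = g⁻¹ * (a * (g * P {p, q} * g⁻¹)) * g := by group
      _ = P {p, q} * (g⁻¹ * a * g) := by rw [e]; group
  obtain ⟨h, hh, he⟩ := S.trans_normalised hC hle
  have hxh : g * P {p, q} * g⁻¹ ∈ cnj h V := by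
    rw [he]
    exact mem_cnj.2 (by simpa [mul_assoc] using S.mem _ (by rw [Finset.card_pair hpq]))
  set y := h⁻¹ * (g * P {p, q} * g⁻¹) * h with hy
  have hyA : y ∈ S.A := (Subgroup.mem_normalizer_iff''.1 hh _).1 hx
  obtain ⟨t, ht, ht2, w, hw, e⟩ := hyA
  have hyV : y ∈ V := mem_cnj.1 hxh
  rw [e, S.el_mem_V ht2 (mem_W.1 hw).1] at hyV
  subst hyV
  rw [S.κ_one, mul_one] at e
  obtain ⟨r, hr, her⟩ := reps_eqv ht ht2
  obtain ⟨hr1, -, hr2⟩ := mem_reps.1 hr
  rw [(S.P_eq_iff ht2 hr2).2 her] at e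
  have hyc : IsConj (P {p, q}) y := isConj_iff.2 ⟨h⁻¹ * g, by rw [hy]; group⟩
  rw [e] at hyc
  obtain ⟨s, hs, hs2, hes⟩ : ∃ s ⊆ oct, s.card = 2 ∧ P r = P s := by
    have h8 := Finset.card_le_card hr1
    rw [oct_card] at h8
    rcases (show r.card = 0 ∨ r.card = 2 ∨ r.card = 4 ∨ r.card = 6 ∨ r.card = 8 by omega) with h | h | h | h | h
    · exfalso
      rw [Finset.card_eq_zero.1 h, S.P_empty, isConj_one_left] at hyc
      have := ((S.eq_one _ (by rw [Finset.card_pair hpq])).1 hyc).small (by rw [Finset.card_pair hpq]; norm_num)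
      simp at this
    · exact ⟨r, hr1, h, rfl⟩
    · exfalso
      exact S.pairN p q hpq ((S.quadZ r h).trans hyc.symm)
    · refine ⟨oct \ r, Finset.sdiff_subset, by rw [Finset.card_sdiff_of_subset hr1, oct_card, h], ?_⟩
      refine (S.P_eq_iff hr2 (by rw [Finset.card_sdiff_of_subset hr1, oct_card, h])).2 ?_
      rw [Eqv, show r ∆ (oct \ r) = oct by
        rw [← symmDiff_of_ge hr1, symmDiff_comm oct r, ← symmDiff_assoc, symmDiff_self]; exact bot_symmDiff _]
      exact oct_mem.1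
    · exfalso
      have := Finset.card_le_card (mem_reps.1 hr |>.2.1 |> fun h' => Finset.subset_erase.2 ⟨hr1, h'⟩)
      rw [Finset.card_erase_of_mem p₀_mem, oct_card] at this
      omega
  obtain ⟨k, hk, hko, hks⟩ := oct_move (s := {p, q}) (Finset.insert_subset_iff.2 ⟨hp, Finset.singleton_subset_iff.2 hq⟩)
    hs (by rw [hs2, Finset.card_pair hpq]) (by omega)
  refine ⟨h * κ k, mul_mem hh ?_, ?_⟩
  · rw [← one_mul (κ k), ← S.P_empty]
    exact (S.mem_stab hC (by simp) hk).2 ⟨hko, evenly_empty⟩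
  · have e' : κ k * P {p, q} * (κ k)⁻¹ = y := by
      rw [S.act k hk _ (by rw [Finset.card_pair hpq]), hks, ← hes, ← e]
    calc h * κ k * P {p, q} * (h * κ k)⁻¹ = h * (κ k * P {p, q} * (κ k)⁻¹) * h⁻¹ := by group
      _ = _ := by rw [e', hy]; group

/-- An element of the normaliser of `A` outside that of `V`. -/
theorem exists_moving (hC : Certs) :
    ∃ h ∈ Subgroup.normalizer (S.A : Set G), h ∉ Subgroup.normalizer (V : Set G) := by
  classical
  haveI := Fact.mk Nat.prime_two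
  obtain ⟨s, hs, k, hk, hk1, hk2, hfix, hsk, hconj⟩ := S.outside
  obtain ⟨o, ho, hof⟩ := hC.fixed_oct k hk hk2 hfix
  obtain ⟨g, hg, rfl⟩ := octads_transitive ho
  set w := g⁻¹ * k * g with hwdef
  have hgo : ∀ x ∈ oct, k (g x) = g x := fun x hx => hof (g x) (Finset.smul_mem_smul_finset hx)
  have hw : w ∈ Wgrp := mem_W.2 ⟨mul_mem (mul_mem (inv_mem hg) hk) hg, fun x hx => by
    simp only [hwdef, Equiv.Perm.mul_apply]
    rw [hgo x hx]
    simp⟩
  have hw1 : w ≠ 1 := fun e => hk1 (by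
    calc k = g * w * g⁻¹ := by rw [hwdef]; group
      _ = 1 := by rw [e]; group)
  have hsw : Eqv (w • g⁻¹ • s) (g⁻¹ • s) := by
    have := hsk.smul (inv_mem hg)
    rwa [← mul_smul, show g⁻¹ * k = w * g⁻¹ by rw [hwdef]; group, mul_smul] at this
  obtain ⟨u, hu, hInP⟩ := hC.fix_one w hw hw1 _ (two_dvd_smul hs) hsw
  set c := P u * κ g⁻¹
  set y := c * (P s * κ k) * c⁻¹ with hydef
  have hy : y = P ((g⁻¹ • s) ∆ co w u) * κ w := by
    rw [hydef, S.conj_el hu hs (inv_mem hg) hk, inv_inv]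
  have hyA : y ∈ S.A := by
    rw [hy, S.el_mem_A (two_dvd_sd (two_dvd_smul hs) (two_dvd_co hu)) (mem_W.1 hw).1]
    exact ⟨hInP, hw⟩
  have hyV : y ∉ V := by
    rw [hy, S.el_mem_V (two_dvd_sd (two_dvd_smul hs) (two_dvd_co hu)) (mem_W.1 hw).1]
    exact hw1
  have hyc : IsConj (P s * κ k) y := isConj_iff.2 ⟨c, hydef.symm⟩
  rcases hconj with hz | ⟨a, b, hab, hz⟩
  · -- a conjugate of `V` through `y`
    obtain ⟨e, he⟩ := isConj_iff.1 (hz.trans hyc)
    obtain ⟨T, hT⟩ := S.zsylow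
    have hT1 : cnj e (T : Subgroup G) ≤ Subgroup.centralizer ({y} : Set G) := by
      rintro _ ⟨x, hx, rfl⟩
      refine Subgroup.mem_centralizer_singleton_iff.2 ?_
      show e * x * e⁻¹ * y = y * (e * x * e⁻¹)
      rw [← he]
      calc e * x * e⁻¹ * (e * z * e⁻¹) = e * (x * z) * e⁻¹ := by group
        _ = _ := by rw [Subgroup.mem_centralizer_singleton_iff.1 (hT hx)]; group
    set C := Subgroup.centralizer ({y} : Set G)
    have hAC : S.A ≤ C := fun a ha => Subgroup.mem_centralizer_singleton_iff.2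
      (congrArg Subtype.val (S.A_elem.1.is_comm.comm ⟨a, ha⟩ ⟨y, hyA⟩))
    obtain ⟨R, hR⟩ := (((IsPGroup.of_card S.A_card).comap_of_injective C.subtype C.subtype_injective) :
      IsPGroup 2 ↥(S.A.comap C.subtype)).exists_le_sylow
    obtain ⟨R', hR'⟩ := ((T.2.map _).comap_of_injective C.subtype C.subtype_injective :
      IsPGroup 2 ↥((cnj e (T : Subgroup G)).comap C.subtype)).exists_le_sylow
    have hRG : Nat.card ↥(T : Subgroup G) ≤ Nat.card ↥((R : Subgroup ↥C).map C.subtype) := by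
      rw [Subgroup.card_map_of_injective C.subtype_injective, R.card_eq_multiplicity, ← R'.card_eq_multiplicity,
        ← cnj_card e, ← Nat.card_congr (Subgroup.subgroupOfEquivOfLe hT1).toEquiv]
      exact Subgroup.card_le_of_le hR'
    have hR2 : IsPGroup 2 ↥((R : Subgroup ↥C).map C.subtype) := R.2.map _
    obtain ⟨d, hd⟩ := S.exists_into_normalizer hR2
    set R₀ := cnj d ((R : Subgroup ↥C).map C.subtype) with hR₀
    obtain ⟨T', hT'⟩ := ((hR2.map _).to_sup_of_normal_right' (IsPGroup.of_card S.card) hd).exists_le_sylow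
    have hVR : V ≤ R₀ := by
      have hle : R₀ ≤ R₀ ⊔ V := le_sup_left
      have := Subgroup.eq_of_le_of_card_ge (hle.trans hT') (by
        rw [T'.card_eq_multiplicity, ← T.card_eq_multiplicity, cnj_card]
        exact hRG)
      rw [this]
      exact le_sup_right.trans hT'
    set y' := d * y * d⁻¹ with hy'
    have hyN : y' ∈ V := by
      refine (S.self _ fun a ha => ?_)
      obtain ⟨x, hx, rfl⟩ := hVR ha
      obtain ⟨x', -, rfl⟩ := hx
      have e' : (x' : G) * y = y * x' := Subgroup.mem_centralizer_singleton_iff.1 x'.2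
      show d * y * d⁻¹ * (d * x' * d⁻¹) = d * x' * d⁻¹ * (d * y * d⁻¹)
      calc d * y * d⁻¹ * (d * x' * d⁻¹) = d * (y * x') * d⁻¹ := by group
        _ = _ := by rw [← e']; group
    have hA' : S.A ≤ Subgroup.normalizer (cnj d⁻¹ V : Set G) := by
      intro a ha
      rw [← cnj_normalizer, mem_cnj, inv_inv]
      have hamem : a ∈ (R : Subgroup ↥C).map C.subtype :=
        ⟨⟨a, hAC ha⟩, hR (show (⟨a, hAC ha⟩ : ↥C) ∈ S.A.comap C.subtype from ha), rfl⟩
      exact hd (mem_cnj.2 (by simpa [mul_assoc] using hamem))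
    obtain ⟨h, hh, he'⟩ := S.trans_normalised hC hA'
    refine ⟨h, hh, fun hhV => hyV ?_⟩
    have : y ∈ cnj d⁻¹ V := mem_cnj.2 (by simpa [mul_assoc, hy'] using hyN)
    rw [← he', mem_cnj] at this
    have := (Subgroup.mem_normalizer_iff.1 hhV _).1 this
    simpa [mul_assoc] using this
  · obtain ⟨p, hp⟩ := exists_pt
    obtain ⟨q, hq⟩ := Finset.card_pos.1 (show 0 < (oct.erase p).card by
      rw [Finset.card_erase_of_mem hp, oct_card]; norm_num)
    rw [Finset.mem_erase] at hq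
    obtain ⟨h, hh, e⟩ := S.class_eq_orbit hC hq.2 hp hq.1 hyA ((S.isConj_pairs hq.1 hab).trans (hz.trans hyc))
    exact ⟨h, hh, fun hhV => hyV (e ▸ (Subgroup.mem_normalizer_iff.1 hhV _).1
      (S.mem _ (by rw [Finset.card_pair hq.1])))⟩

end Setup

end CfsgLib.JankoFour.TwoTen
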