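import Cfsg.Agent.Lib.JankoFour.TwoTen.Setup

/-!
# The elementary group of order `2^10` attached to an octad
-/

set_option autoImplicit false
set_option linter.unusedSectionVars false

namespace CfsgLib.JankoFour.TwoTen

open Cfsg CfsgLib.Golay
open scoped symmDiff Pointwise

variable {G : Type*} [Group G] [Finite G] {z : G} {V : Subgroup G} {P : Finset GolayPt → G}
  {κ : Equiv.Perm GolayPt → G}

namespace Setup

variable (S : Setup z V P κ)

/-- The group of order `2^10`. -/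
def A : Subgroup G where
  carrier := {x | ∃ t, t ⊆ oct ∧ 2 ∣ t.card ∧ ∃ w ∈ Wgrp, x = P t * κ w}
  one_mem' := ⟨∅, Finset.empty_subset _, by simp, 1, one_mem _, by rw [S.P_empty, S.κ_one, one_mul]⟩
  mul_mem' := by
    rintro _ _ ⟨t, ht, ht2, w, hw, rfl⟩ ⟨t', ht', ht2', w', hw', rfl⟩
    refine ⟨t ∆ t', fun x hx => ?_, two_dvd_sd ht2 ht2', w * w', mul_mem hw hw', ?_⟩
    · rw [Finset.mem_symmDiff] at hx
      rcases hx with ⟨h, -⟩ | ⟨h, -⟩
      exacts [ht h, ht' h]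
    · rw [S.mul_el ht2 ht2' (mem_W.1 hw).1 (mem_W.1 hw').1, W_smul hw ht']
  inv_mem' := by
    rintro _ ⟨t, ht, ht2, w, hw, rfl⟩
    refine ⟨t, ht, ht2, w, hw, inv_eq_of_mul_eq_one_left ?_⟩
    exact (S.el_sq_iff ht2 (mem_W.1 hw).1).2 ⟨W_sq hw, Eqv.of_eq (W_smul hw ht)⟩

theorem mem_A {x : G} : x ∈ S.A ↔ ∃ t, t ⊆ oct ∧ 2 ∣ t.card ∧ ∃ w ∈ Wgrp, x = P t * κ w := Iff.rfl

include S

theorem el_mem_A {s : Finset GolayPt} {k : Equiv.Perm GolayPt} (hs : 2 ∣ s.card) (hk : k ∈ M24) :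
    P s * κ k ∈ S.A ↔ InP s ∧ k ∈ Wgrp := by
  constructor
  · rintro ⟨t, ht, ht2, w, hw, e⟩
    obtain ⟨rfl, e'⟩ := S.el_inj hs ht2 hk (mem_W.1 hw).1 e
    exact ⟨⟨t, ht, ht2, e'⟩, hw⟩
  · rintro ⟨⟨t, ht, ht2, e⟩, hw⟩
    exact ⟨t, ht, ht2, k, hw, by rw [(S.P_eq_iff hs ht2).2 e]⟩

theorem P_mem_A {t : Finset GolayPt} (ht : t ⊆ oct) (ht2 : 2 ∣ t.card) : P t ∈ S.A :=
  ⟨t, ht, ht2, 1, one_mem _, by rw [S.κ_one, mul_one]⟩

theorem κ_mem_A {w : Equiv.Perm GolayPt} (hw : w ∈ Wgrp) : κ w ∈ S.A :=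
  ⟨∅, Finset.empty_subset _, by simp, w, hw, by rw [S.P_empty, one_mul]⟩

theorem A_le : S.A ≤ Subgroup.normalizer (V : Set G) := by
  rintro _ ⟨t, -, ht2, w, hw, rfl⟩
  exact S.el_mem ht2 (mem_W.1 hw).1

theorem A_elem : IsElementaryAbelian 2 S.A := by
  refine ⟨⟨⟨?_⟩⟩, ?_⟩
  · rintro ⟨_, t, ht, ht2, w, hw, rfl⟩ ⟨_, t', ht', ht2', w', hw', rfl⟩
    refine Subtype.ext ((S.el_comm_iff ht2 ht2' (mem_W.1 hw).1 (mem_W.1 hw').1).2 ⟨W_comm hw hw', ?_⟩)
    rw [W_smul hw ht', W_smul hw' ht, symmDiff_comm]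
    exact Eqv.refl _
  · rintro _ ⟨t, ht, ht2, w, hw, rfl⟩
    rw [pow_two]
    exact (S.el_sq_iff ht2 (mem_W.1 hw).1).2 ⟨W_sq hw, Eqv.of_eq (W_smul hw ht)⟩

theorem A_card : Nat.card ↥S.A = 2 ^ 10 := by
  classical
  have hb : Function.Bijective fun x : {t // t ∈ reps} × ↥Wgrp =>
      (⟨P x.1.1 * κ x.2.1, x.1.1, (mem_reps.1 x.1.2).1, (mem_reps.1 x.1.2).2.2, x.2.1, x.2.2, rfl⟩ : ↥S.A) := by
    constructor
    · rintro ⟨⟨r, hr⟩, ⟨w, hw⟩⟩ ⟨⟨r', hr'⟩, ⟨w', hw'⟩⟩ e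
      obtain ⟨e1, e2⟩ := S.el_inj (mem_reps.1 hr).2.2 (mem_reps.1 hr').2.2 (mem_W.1 hw).1 (mem_W.1 hw').1
        (congrArg Subtype.val e)
      subst e1
      have := reps_inj hr hr' e2
      subst this
      rfl
    · rintro ⟨_, t, ht, ht2, w, hw, rfl⟩
      obtain ⟨r, hr, e⟩ := reps_eqv ht ht2
      exact ⟨⟨⟨r, hr⟩, ⟨w, hw⟩⟩, Subtype.ext (show P r * κ w = P t * κ w by
        rw [(S.P_eq_iff ht2 (mem_reps.1 hr).2.2).2 e])⟩
  rw [← Nat.card_congr (Equiv.ofBijective _ hb), Nat.card_prod, W_card, Nat.card_eq_fintype_card,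
    Fintype.card_coe, reps_card]
  norm_num

/-- A permutation centralising a pair modulo the code fixes it. -/
theorem pair_fix {g : Equiv.Perm GolayPt} {a b : GolayPt} (hab : a ≠ b) (h : Eqv (g • ({a, b} : Finset GolayPt)) {a, b}) :
    g • ({a, b} : Finset GolayPt) = {a, b} :=
  h.small (by rw [Finset.card_smul_finset, Finset.card_pair hab]; norm_num)

theorem A_cent (hC : Certs) : Subgroup.centralizer (S.A : Set G) = S.A := by
  refine le_antisymm (fun x hx => ?_) (fun x hx => ?_)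
  swap
  · exact Subgroup.mem_centralizer_iff.2 fun y hy =>
      congrArg Subtype.val (S.A_elem.1.is_comm.comm ⟨y, hy⟩ ⟨x, hx⟩)
  rw [Subgroup.mem_centralizer_iff] at hx
  obtain ⟨p, hp⟩ := exists_pt
  obtain ⟨q, hq⟩ := Finset.card_pos.1 (show 0 < (oct.erase p).card by
    rw [Finset.card_erase_of_mem hp, oct_card]; norm_num)
  rw [Finset.mem_erase] at hq
  have h2 : ∀ {a b : GolayPt}, a ≠ b → 2 ∣ ({a, b} : Finset GolayPt).card := fun h => by
    rw [Finset.card_pair h]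
  have hsub : ∀ {a b : GolayPt}, a ∈ oct → b ∈ oct → ({a, b} : Finset GolayPt) ⊆ oct := fun ha hb =>
    Finset.insert_subset_iff.2 ⟨ha, Finset.singleton_subset_iff.2 hb⟩
  have hxN : x ∈ Subgroup.normalizer (V : Set G) := S.cent q p hq.1 (Subgroup.mem_centralizer_singleton_iff.2
    (hx _ (S.P_mem_A (hsub hq.2 hp) (h2 hq.1))).symm)
  obtain ⟨s, hs, k, hk, rfl⟩ := S.split x hxN
  have hfix : ∀ a ∈ oct, ∀ b ∈ oct, a ≠ b → k • ({a, b} : Finset GolayPt) = {a, b} := by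
    intro a ha b hb hab
    refine S.pair_fix hab ?_
    have e := hx _ (S.P_mem_A (hsub ha hb) (h2 hab))
    rw [← mul_one (P {a, b}), ← S.κ_one, S.el_comm_iff (h2 hab) hs (one_mem _) hk, one_smul] at e
    obtain ⟨-, e⟩ := e
    have := e.add (Eqv.refl s)
    rw [show ({a, b} : Finset GolayPt) ∆ s ∆ s = {a, b} by rw [symmDiff_assoc, symmDiff_self]; exact symmDiff_bot _,
      show s ∆ (k • ({a, b} : Finset GolayPt)) ∆ s = k • {a, b} by
        rw [symmDiff_comm s, symmDiff_assoc, symmDiff_self]; exact symmDiff_bot _] at this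
    exact this.symm
  have hkW : k ∈ Wgrp := by
    refine mem_W.2 ⟨hk, fun a ha => ?_⟩
    obtain ⟨b, hb⟩ := Finset.card_pos.1 (show 0 < (oct.erase a).card by
      rw [Finset.card_erase_of_mem ha, oct_card]; norm_num)
    rw [Finset.mem_erase] at hb
    obtain ⟨c, hc⟩ := Finset.card_pos.1 (show 0 < ((oct.erase a).erase b).card by
      rw [Finset.card_erase_of_mem (Finset.mem_erase.2 hb), Finset.card_erase_of_mem ha, oct_card]; norm_num)
    rw [Finset.mem_erase, Finset.mem_erase] at hc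
    have e1 : k a ∈ ({a, b} : Finset GolayPt) := by
      rw [← hfix a ha b hb.2 (Ne.symm hb.1)]
      exact Finset.smul_mem_smul_finset (Finset.mem_insert_self _ _)
    have e2 : k a ∈ ({a, c} : Finset GolayPt) := by
      rw [← hfix a ha c hc.2.2 (Ne.symm hc.2.1)]
      exact Finset.smul_mem_smul_finset (Finset.mem_insert_self _ _)
    rw [Finset.mem_insert, Finset.mem_singleton] at e1 e2
    rcases e1 with e1 | e1
    · exact e1
    · rcases e2 with e2 | e2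
      · exact e2
      · exact absurd (e1.symm.trans e2).symm hc.1
  refine (S.el_mem_A hs hk).2 ⟨hC.fix_w s hs fun w hw => ?_, hkW⟩
  have e := hx _ (S.κ_mem_A hw)
  rw [← one_mul (κ w), ← S.P_empty, S.el_comm_iff (by simp) hs (mem_W.1 hw).1 hk] at e
  obtain ⟨-, e⟩ := e
  rwa [Finset.smul_finset_empty, ← Finset.bot_eq_empty, bot_symmDiff, symmDiff_bot] at e

end Setup

end CfsgLib.JankoFour.TwoTen
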