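import Cfsg.Agent.Lib.JankoFour.TwoTen.KleinData

/-!
# Maps of the exterior square keeping the decomposable vectors come from maps of the space
-/

set_option autoImplicit false
set_option maxRecDepth 20000
set_option exponentiation.threshold 2000

namespace CfsgLib.JankoFour.TwoTen.Klein

theorem mask_lt : decMask < 2 ^ 1024 := by decide +kernel

theorem stars_lt : starMasks.all (fun m => decide (m < 2 ^ 1024)) = true := by decide +kernel

theorem dec_lt {x : ℕ} (h : dec x = true) : x < 1024 := by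
  by_contra hx
  rw [dec, Nat.testBit_lt_two_pow (lt_of_lt_of_le mask_lt (Nat.pow_le_pow_right (by norm_num) (by omega)))] at h
  exact Bool.false_ne_true h

theorem inS_lt {p x : ℕ} (h : inS p x = true) : x < 1024 := by
  by_contra hx
  have hm : starMasks.getD p 0 < 2 ^ x := by
    refine lt_of_lt_of_le ?_ (Nat.pow_le_pow_right (by norm_num) (show 1024 ≤ x by omega))
    by_cases hp : p < starMasks.length
    · rw [List.getD_eq_getElem _ _ hp]
      exact of_decide_eq_true (List.all_eq_true.1 stars_lt _ (List.getElem_mem hp))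
    · rw [List.getD_eq_default _ _ (by omega)]
      exact Nat.two_pow_pos _
  rw [inS, Nat.testBit_lt_two_pow hm] at h
  exact Bool.false_ne_true h

theorem dec_ne_zero {x : ℕ} (h : dec x = true) : x ≠ 0 := by
  rintro rfl
  exact absurd h (by decide +kernel)

theorem dec_mem {x : ℕ} (h : dec x = true) : x ∈ decList := by
  have := List.all_eq_true.1 dec_list x (List.mem_range.2 (dec_lt h))
  rw [beq_iff_eq, h] at this
  exact List.contains_iff_mem.1 this.symm

/-- The star of a point. -/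
def star (p : ℕ) : Finset ℕ := (Finset.range 1024).filter fun x => inS p x = true

theorem mem_star {p x : ℕ} : x ∈ star p ↔ inS p x = true := by
  simp only [star, Finset.mem_filter, Finset.mem_range]
  exact ⟨fun h => h.2, fun h => ⟨inS_lt h, h⟩⟩

theorem star_sixteen {p : ℕ} (hp : p < 32) (h0 : p ≠ 0) : (star p).card = 16 := by
  have h := List.all_eq_true.1 star_card p (List.mem_range.2 hp)
  simp only [Bool.or_eq_true, beq_iff_eq] at h
  have e : (star p).card = ((List.range 1024).filter fun x => decide (inS p x = true)).length := rfl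
  rw [e, ← h.resolve_left h0]
  simp only [Bool.decide_eq_true]

theorem wd_mem {p q : ℕ} (hp : p < 32) (hq : q < 32) : inS p (wd p q) = true ∧ (wd p q = 0 ∨ dec (wd p q) = true) := by
  have h := List.all_eq_true.1 (List.all_eq_true.1 wd_dec p (List.mem_range.2 hp)) q (List.mem_range.2 hq)
  rw [Bool.and_eq_true, Bool.or_eq_true, beq_iff_eq] at h
  refine ⟨h.1, h.2.imp_right fun h' => ?_⟩
  have hlt : wd p q < 1024 := inS_lt h.1
  have := List.all_eq_true.1 dec_list _ (List.mem_range.2 hlt)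
  rw [beq_iff_eq, h'] at this
  exact this

theorem mem_filter_range {p x : ℕ} (h : inS p x = true) : x ∈ (List.range 1024).filter fun y => inS p y :=
  List.mem_filter.2 ⟨List.mem_range.2 (inS_lt h), h⟩

theorem inS_wd {p x : ℕ} (hp : p < 32) (h : inS p x = true) : ∃ q < 32, x = wd p q := by
  have h' := List.all_eq_true.1 (List.all_eq_true.1 star_sub p (List.mem_range.2 hp)) x (mem_filter_range h)
  rw [Bool.and_eq_true] at h'
  obtain ⟨q, hq, e⟩ := List.any_eq_true.1 h'.1
  exact ⟨q, List.mem_range.1 hq, beq_iff_eq.1 e⟩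

theorem inS_xor {p x y : ℕ} (hp : p < 32) (hx : inS p x = true) (hy : inS p y = true) : inS p (x ^^^ y) = true := by
  have h' := List.all_eq_true.1 (List.all_eq_true.1 star_sub p (List.mem_range.2 hp)) x (mem_filter_range hx)
  rw [Bool.and_eq_true] at h'
  exact List.all_eq_true.1 h'.2 y (mem_filter_range hy)

theorem inS_zero {p : ℕ} (hp : p < 32) : inS p 0 = true := by
  have h := (wd_mem hp (show 0 < 32 by norm_num)).1
  simpa [wd, mi] using h

theorem inS_dec {p x : ℕ} (hp : p < 32) (h : inS p x = true) (h0 : x ≠ 0) : dec x = true := by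
  obtain ⟨q, hq, rfl⟩ := inS_wd hp h
  exact (wd_mem hp hq).2.resolve_left h0

theorem pair_facts {p q : ℕ} (hp : p < 32) (hq : q < 32) (hp0 : p ≠ 0) (hq0 : q ≠ 0) (hpq : p ≠ q) :
    wd p q ≠ 0 ∧ (∀ x, inS p x = true → inS q x = true → x = 0 ∨ x = wd p q) ∧
      ∀ r < 32, r ≠ 0 → (inS r (wd p q) = true ↔ r = p ∨ r = q ∨ r = p ^^^ q) := by
  have h := List.all_eq_true.1 (List.all_eq_true.1 star_pair p (List.mem_range.2 hp)) q (List.mem_range.2 hq)
  simp only [Bool.or_eq_true, Bool.and_eq_true, beq_iff_eq, hp0, hq0, hpq, false_or, bne_iff_ne,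
    List.all_eq_true, List.mem_range, List.mem_filter, Bool.not_eq_true'] at h
  obtain ⟨⟨h1, h2⟩, h3⟩ := h
  refine ⟨h1, fun x hx hx' => ?_, fun r hr hr0 => ?_⟩
  · rcases h2 x ⟨inS_lt hx, hx⟩ with (h' | h') | h'
    · rw [hx'] at h'
      exact absurd h' (by simp)
    · exact .inl h'
    · exact .inr h'
  · have := (h3 r hr).resolve_left hr0
    rw [this]
    simp [Bool.or_eq_true, or_assoc]

/-- A group of sixteen decomposable vectors is a star. -/
theorem star_of_clique {W : Finset ℕ} (hW : W.card = 16) (hadd : ∀ x ∈ W, ∀ y ∈ W, x ^^^ y ∈ W)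
    (hdec : ∀ x ∈ W, x ≠ 0 → dec x = true) : ∃ p, p < 32 ∧ p ≠ 0 ∧ W = star p := by
  obtain ⟨x, hx, hx0⟩ := Finset.exists_mem_ne (show 1 < W.card by omega) 0
  obtain ⟨y, hy, hy0⟩ := Finset.exists_mem_ne (show 1 < (W.erase x).card by
    rw [Finset.card_erase_of_mem hx]; omega) 0
  obtain ⟨hyx, hy⟩ := Finset.mem_erase.1 hy
  have hxy0 : x ^^^ y ≠ 0 := fun e => hyx (Nat.xor_eq_zero_iff.1 e).symm
  have hdxy := hdec _ (hadd x hx y hy) hxy0
  have hh := List.all_eq_true.1 clique_small x (dec_mem (hdec x hx hx0))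
  have h := List.all_eq_true.1 hh y (List.mem_filter.2 ⟨dec_mem (hdec y hy hy0), hdxy⟩)
  rw [Bool.and_eq_true] at h
  obtain ⟨p, hp, hp'⟩ := List.any_eq_true.1 h.1
  simp only [Bool.and_eq_true, bne_iff_ne] at hp'
  obtain ⟨⟨hp0, hpx⟩, hpy⟩ := hp'
  have hp32 := List.mem_range.1 hp
  have hF := List.all_eq_true.1 h.2 p hp
  simp only [Bool.or_eq_true, beq_iff_eq, hp0, hpx, hpy, Bool.and_self, Bool.not_true, Bool.false_eq_true,
    or_false, false_or, decide_eq_true_eq] at hF
  refine ⟨p, hp32, hp0, Finset.eq_of_subset_of_card_le ?_ (by rw [hW, star_sixteen hp32 hp0])⟩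
  by_contra hsub
  obtain ⟨z, hz, hzS⟩ := Finset.not_subset.1 hsub
  rw [mem_star] at hzS
  set I := W.filter fun w => inS p w = true with hI
  set O := W.filter fun w => ¬ inS p w = true with hO
  have hIO : I.card ≤ O.card := Finset.card_le_card_of_injOn (fun w => z ^^^ w) (fun w hw => by
    rw [hI, Finset.mem_coe, Finset.mem_filter] at hw
    rw [hO, Finset.mem_coe, Finset.mem_filter]
    refine ⟨hadd z hz w hw.1, fun hzw => hzS ?_⟩
    have := inS_xor hp32 hzw hw.2
    rwa [Nat.xor_assoc, Nat.xor_self, Nat.xor_zero] at this) fun a _ b _ e => Nat.xor_right_injective e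
  have hsum : I.card + O.card = 16 := by rw [hI, hO, Finset.card_filter_add_card_filter_not, hW]
  have hOF : O ⊆ ((decList.filter fun w => dec (x ^^^ w)).filter fun w =>
      dec (y ^^^ w) && dec (x ^^^ y ^^^ w) && !inS p w).toFinset := by
    intro w hw
    rw [hO, Finset.mem_filter] at hw
    obtain ⟨hw, hwS⟩ := hw
    have hne : ∀ u, inS p u = true → u ^^^ w ≠ 0 := fun u hu e => hwS (Nat.xor_eq_zero_iff.1 e ▸ hu)
    have hw0 : w ≠ 0 := fun e => hwS (e ▸ inS_zero hp32)
    rw [List.mem_toFinset, List.mem_filter, List.mem_filter]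
    refine ⟨⟨dec_mem (hdec w hw hw0), hdec _ (hadd x hx w hw) (hne x hpx)⟩, ?_⟩
    rw [hdec _ (hadd y hy w hw) (hne y hpy), hdec _ (hadd _ (hadd x hx y hy) w hw) (hne _ (inS_xor hp32 hpx hpy))]
    simpa using hwS
  have := (Finset.card_le_card hOF).trans (List.toFinset_card_le _)
  omega

theorem star_inj {p q : ℕ} (hp : p < 32) (hq : q < 32) (hp0 : p ≠ 0) (hq0 : q ≠ 0) (h : star p = star q) : p = q := by
  by_contra hpq
  obtain ⟨-, h2, -⟩ := pair_facts hp hq hp0 hq0 hpq
  have hle : (star p).card ≤ 2 := (Finset.card_le_card (t := {0, wd p q}) fun x hx => by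
    rcases h2 x (mem_star.1 hx) (mem_star.1 (h ▸ hx)) with e | e <;> simp [e]).trans Finset.card_le_two
  rw [star_sixteen hp hp0] at hle
  omega

/-- A permutation of the vectors keeping sums and decomposability. -/
structure IsAut (f : ℕ → ℕ) : Prop where
  lt : ∀ x < 1024, f x < 1024
  xor : ∀ x < 1024, ∀ y < 1024, f (x ^^^ y) = f x ^^^ f y
  inj : ∀ x < 1024, ∀ y < 1024, f x = f y → x = y
  dec : ∀ x, dec x = true → dec (f x) = true

variable {f : ℕ → ℕ}

theorem IsAut.zero (hf : IsAut f) : f 0 = 0 := by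
  have := hf.xor 0 (by norm_num) 0 (by norm_num)
  rw [Nat.xor_self, Nat.xor_self] at this
  exact this

theorem IsAut.exists_pt (hf : IsAut f) {p : ℕ} (hp : p < 32) (hp0 : p ≠ 0) :
    ∃ q, q < 32 ∧ q ≠ 0 ∧ (star p).image f = star q := by
  refine star_of_clique ?_ ?_ ?_
  · rw [Finset.card_image_of_injOn fun x hx y hy e => hf.inj x (inS_lt (mem_star.1 hx)) y (inS_lt (mem_star.1 hy)) e,
      star_sixteen hp hp0]
  · intro a ha b hb
    obtain ⟨x, hx, rfl⟩ := Finset.mem_image.1 ha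
    obtain ⟨y, hy, rfl⟩ := Finset.mem_image.1 hb
    rw [mem_star] at hx hy
    exact Finset.mem_image.2 ⟨x ^^^ y, mem_star.2 (inS_xor hp hx hy), hf.xor x (inS_lt hx) y (inS_lt hy)⟩
  · intro a ha ha0
    obtain ⟨x, hx, rfl⟩ := Finset.mem_image.1 ha
    exact hf.dec x (inS_dec hp (mem_star.1 hx) fun e => ha0 (e ▸ hf.zero))

open scoped Classical in
/-- The map of points under a permutation of the vectors. -/
noncomputable def pt (f : ℕ → ℕ) (p : ℕ) : ℕ :=
  if h : ∃ q, q < 32 ∧ q ≠ 0 ∧ (star p).image f = star q then h.choose else 0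

theorem IsAut.pt_spec (hf : IsAut f) {p : ℕ} (hp : p < 32) (hp0 : p ≠ 0) :
    pt f p < 32 ∧ pt f p ≠ 0 ∧ (star p).image f = star (pt f p) := by
  rw [pt, dif_pos (hf.exists_pt hp hp0)]
  exact (hf.exists_pt hp hp0).choose_spec

theorem pt_zero : pt f 0 = 0 := by
  rw [pt]
  split
  · next h =>
    exfalso
    obtain ⟨q, hq, hq0, e⟩ := h
    have h1 : (star 0).card ≤ 1 := by decide +kernel
    have h2 := Finset.card_image_le (s := star 0) (f := f)
    rw [e, star_sixteen hq hq0] at h2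
    omega
  · rfl

theorem IsAut.pt_lt (hf : IsAut f) {p : ℕ} (hp : p < 32) : pt f p < 32 := by
  by_cases hp0 : p = 0
  · subst hp0
    rw [pt_zero]
    norm_num
  · exact (hf.pt_spec hp hp0).1

theorem IsAut.pt_inj (hf : IsAut f) {p q : ℕ} (hp : p < 32) (hq : q < 32) (h : pt f p = pt f q) : p = q := by
  by_cases hp0 : p = 0 <;> by_cases hq0 : q = 0
  · rw [hp0, hq0]
  · rw [hp0, pt_zero] at h
    exact absurd h.symm (hf.pt_spec hq hq0).2.1
  · rw [hq0, pt_zero] at h
    exact absurd h (hf.pt_spec hp hp0).2.1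
  · refine star_inj hp hq hp0 hq0 ?_
    have e : (star p).image f = (star q).image f := by
      rw [(hf.pt_spec hp hp0).2.2, (hf.pt_spec hq hq0).2.2, h]
    ext x
    constructor <;> intro hx
    · obtain ⟨y, hy, e'⟩ := Finset.mem_image.1 (e ▸ Finset.mem_image_of_mem f hx)
      rwa [← hf.inj y (inS_lt (mem_star.1 hy)) x (inS_lt (mem_star.1 hx)) e']
    · obtain ⟨y, hy, e'⟩ := Finset.mem_image.1 (e.symm ▸ Finset.mem_image_of_mem f hx)
      rwa [← hf.inj y (inS_lt (mem_star.1 hy)) x (inS_lt (mem_star.1 hx)) e']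

theorem IsAut.pt_xor (hf : IsAut f) {p q : ℕ} (hp : p < 32) (hq : q < 32) :
    pt f (p ^^^ q) = pt f p ^^^ pt f q := by
  by_cases hp0 : p = 0
  · rw [hp0, pt_zero, Nat.zero_xor, Nat.zero_xor]
  by_cases hq0 : q = 0
  · rw [hq0, pt_zero, Nat.xor_zero, Nat.xor_zero]
  by_cases hpq : p = q
  · rw [hpq, Nat.xor_self, Nat.xor_self, pt_zero]
  have hr : p ^^^ q < 32 := Nat.xor_lt_two_pow (n := 5) hp hq
  have hr0 : p ^^^ q ≠ 0 := fun e => hpq (Nat.xor_eq_zero_iff.1 e)
  obtain ⟨hw0, -, h3⟩ := pair_facts hp hq hp0 hq0 hpq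
  obtain ⟨a1, a2, a3⟩ := hf.pt_spec hp hp0
  obtain ⟨b1, b2, b3⟩ := hf.pt_spec hq hq0
  obtain ⟨c1, c2, c3⟩ := hf.pt_spec hr hr0
  have hin : ∀ t, t = p ∨ t = q ∨ t = p ^^^ q → t < 32 → t ≠ 0 → inS (pt f t) (f (wd p q)) = true := by
    intro t ht htl ht0
    rw [← mem_star, ← (hf.pt_spec htl ht0).2.2]
    exact Finset.mem_image_of_mem f (mem_star.2 ((h3 t htl ht0).2 ht))
  have hne : pt f p ≠ pt f q := fun e => hpq (hf.pt_inj hp hq e)
  obtain ⟨-, k2, k3⟩ := pair_facts a1 b1 a2 b2 hne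
  have hy0 : f (wd p q) ≠ 0 := fun e =>
    hw0 (hf.inj _ (inS_lt (wd_mem hp hq).1) 0 (by norm_num) (by rw [e, hf.zero]))
  have e := (k2 _ (hin p (.inl rfl) hp hp0) (hin q (.inr (.inl rfl)) hq hq0)).resolve_left hy0
  have h := hin _ (.inr (.inr rfl)) hr hr0
  rw [e] at h
  rcases (k3 _ c1 c2).1 h with h' | h' | h'
  · exact absurd (hf.pt_inj hr hp h') fun e' => hq0 (by simpa using congrArg (p ^^^ ·) e')
  · exact absurd (hf.pt_inj hr hq h') fun e' => hp0 (by simpa [Nat.xor_assoc] using congrArg (· ^^^ q) e')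
  · exact h'

theorem wd_basis : ∀ k < 10, ∃ p < 32, ∃ q < 32, p ≠ 0 ∧ q ≠ 0 ∧ p ≠ q ∧ wd p q = 2 ^ k := by decide +kernel

theorem IsAut.eq_id (hf : IsAut f) (h : ∀ p < 32, pt f p = p) {x : ℕ} (hx : x < 1024) : f x = x := by
  have hb : ∀ k < 10, f (2 ^ k) = 2 ^ k := by
    intro k hk
    obtain ⟨p, hp, q, hq, hp0, hq0, hpq, e⟩ := wd_basis k hk
    obtain ⟨h1, h2, h3⟩ := pair_facts hp hq hp0 hq0 hpq
    have hin : ∀ t, t = p ∨ t = q → t < 32 → t ≠ 0 → inS t (f (wd p q)) = true := by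
      intro t ht htl ht0
      rw [← mem_star, ← h t htl, ← (hf.pt_spec htl ht0).2.2]
      exact Finset.mem_image_of_mem f (mem_star.2 ((h3 t htl ht0).2 (ht.imp_right .inl)))
    rw [← e]
    exact (h2 _ (hin p (.inl rfl) hp hp0) (hin q (.inr rfl) hq hq0)).resolve_left fun e' =>
      h1 (hf.inj _ (inS_lt (wd_mem hp hq).1) 0 (by norm_num) (by rw [e', hf.zero]))
  have key : ∀ n ≤ 10, ∀ y < 2 ^ n, f y = y := by
    intro n
    induction n with
    | zero =>
      intro _ y hy
      rw [pow_zero, Nat.lt_one_iff] at hy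
      rw [hy, hf.zero]
    | succ n ih =>
      intro hn y hy
      by_cases hlt : y < 2 ^ n
      · exact ih (by omega) y hlt
      have hpow : 2 ^ (n + 1) ≤ 2 ^ 10 := Nat.pow_le_pow_right (by norm_num) hn
      have hbit : y ^^^ 2 ^ n < 2 ^ n := by
        refine Nat.lt_pow_two_of_testBit _ fun i hi => ?_
        rw [Nat.testBit_xor, Nat.testBit_two_pow]
        rcases Nat.eq_or_lt_of_le hi with rfl | hlt'
        · have : y.testBit n = true := by
            by_contra hc
            rw [Bool.not_eq_true] at hc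
            refine hlt (Nat.lt_pow_two_of_testBit _ fun j hj => ?_)
            rcases Nat.eq_or_lt_of_le hj with rfl | hj'
            · exact hc
            · exact Nat.testBit_lt_two_pow (lt_of_lt_of_le hy (Nat.pow_le_pow_right (by norm_num) hj'))
          simp [this]
        · rw [Nat.testBit_lt_two_pow (lt_of_lt_of_le hy (Nat.pow_le_pow_right (by norm_num) hlt'))]
          simp [Nat.ne_of_lt hlt']
      have he : y = (y ^^^ 2 ^ n) ^^^ 2 ^ n := by rw [Nat.xor_assoc, Nat.xor_self, Nat.xor_zero]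
      rw [he, hf.xor _ (by omega) _ (lt_of_lt_of_le (Nat.pow_lt_pow_right (by norm_num) (Nat.lt_succ_self n))
        (by simpa using hpow)), ih (by omega) _ hbit, hb n (by omega)]
  exact key 10 le_rfl x (by simpa using hx)

theorem pt_comp {g : ℕ → ℕ} (hf : IsAut f) (hg : IsAut g) {h : ℕ → ℕ} (hh : IsAut h)
    (e : ∀ x < 1024, h x = f (g x)) {p : ℕ} (hp : p < 32) : pt h p = pt f (pt g p) := by
  by_cases hp0 : p = 0
  · rw [hp0, pt_zero, pt_zero, pt_zero]
  obtain ⟨a1, a2, a3⟩ := hg.pt_spec hp hp0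
  obtain ⟨b1, b2, b3⟩ := hf.pt_spec a1 a2
  obtain ⟨c1, c2, c3⟩ := hh.pt_spec hp hp0
  refine star_inj c1 b1 c2 b2 ?_
  rw [← c3, ← b3, ← a3, Finset.image_image]
  exact Finset.image_congr fun x hx => e x (inS_lt (mem_star.1 hx))

theorem pt_id (hf : IsAut f) (e : ∀ x < 1024, f x = x) {p : ℕ} (hp : p < 32) : pt f p = p := by
  by_cases hp0 : p = 0
  · rw [hp0, pt_zero]
  obtain ⟨a1, a2, a3⟩ := hf.pt_spec hp hp0
  refine star_inj a1 hp a2 hp0 ?_
  rw [← a3]
  exact (Finset.image_congr fun x hx => e x (inS_lt (mem_star.1 hx))).trans Finset.image_id'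

end CfsgLib.JankoFour.TwoTen.Klein
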