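import Cfsg.Agent.Lib.LargeFischer.Thompson.Code
import Cfsg.Agent.Lib.M24Cert.Modules
import Cfsg.Agent.Lib.Leech.Index

/-!
# A group of order 2^11 labelled by the pairs of the twenty-four points, with the action of the Mathieu group
-/

set_option autoImplicit false
set_option linter.unusedSectionVars false

namespace CfsgLib.JankoFour.TwoTen

open Cfsg CfsgLib.Golay CfsgLib.M24Cert CfsgLib.LargeFischer.Thompson
open scoped Pointwise symmDiff

abbrev Word : Type := GolayPt → ZMod 2

variable {B : Type*} [CommGroup B] [Finite B]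

/-- The product over the support of a word. -/
noncomputable def ev (f : GolayPt → B) (w : Word) : B := ∏ p, f p ^ (w p).val

/-- The product of two labels. -/
def pr (f : GolayPt → B) (a b : GolayPt) : B := f a * f b

/-- The even words modulo the code, as a labelled group. -/
structure Lab (f : GolayPt → B) : Prop where
  sq : ∀ x : B, x * x = 1
  cardB : Nat.card B = 2 ^ 11
  code : ∀ w ∈ golayCode, ev f w = 1
  cover : ∀ x : B, ∃ w : Word, ∑ p, w p = 0 ∧ ev f w = x

theorem even_iff_card {s : Finset GolayPt} : ∑ p, indW s p = 0 ↔ 2 ∣ s.card := by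
  simp only [indW, Finset.sum_boole, Finset.filter_univ_mem]
  exact ZMod.natCast_eq_zero_iff_even.trans even_iff_two_dvd

theorem sum_single_pair (a b : GolayPt) :
    ∑ p : GolayPt, ((Pi.single a 1 : Word) + (Pi.single b 1 : Word)) p = 0 := by
  simp only [Pi.add_apply, Finset.sum_add_distrib, Finset.sum_pi_single', Finset.mem_univ, if_true]
  exact CharTwo.add_self_eq_zero _

theorem sum_actW (g : Equiv.Perm GolayPt) (w : Word) : ∑ p, actW g w p = ∑ p, w p :=
  Equiv.sum_comp g.symm w

theorem actW_single (g : Equiv.Perm GolayPt) (a : GolayPt) :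
    actW g (Pi.single a 1 : Word) = Pi.single (g a) 1 := by
  ext p
  simp only [actW, Pi.single_apply, Equiv.symm_apply_eq]

theorem ev_indW (f : GolayPt → B) (s : Finset GolayPt) : ev f (indW s) = s.prod f := by
  rw [ev, ← Finset.prod_subset (Finset.subset_univ s) fun p _ hp => by simp [indW, hp]]
  refine Finset.prod_congr rfl fun p hp => ?_
  simp [indW, hp, ZMod.val_one]

namespace Lab

variable {f : GolayPt → B} (L : Lab f)
include L

theorem inv_eq (x : B) : x⁻¹ = x := inv_eq_of_mul_eq_one_right (L.sq x)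

theorem ev_add (v w : Word) : ev f (v + w) = ev f v * ev f w := by
  simp only [ev, ← Finset.prod_mul_distrib, Pi.add_apply]
  refine Finset.prod_congr rfl fun p _ => ?_
  have h2 : ∀ x : ZMod 2, x = 0 ∨ x = 1 := by decide
  rcases h2 (v p) with h | h <;> rcases h2 (w p) with h' | h' <;>
    simp [h, h', ZMod.val_one, show ((1 : ZMod 2) + 1) = 0 from by decide, L.sq]

omit L in
theorem ev_single (a : GolayPt) : ev f (Pi.single a 1) = f a := by
  rw [ev, Finset.prod_eq_single a (fun p _ hp => by simp [hp]) (fun h => absurd (Finset.mem_univ a) h)]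
  simp [ZMod.val_one]

theorem ev_pair (a b : GolayPt) : ev f ((Pi.single a 1 : Word) + Pi.single b 1) = pr f a b := by
  rw [L.ev_add, ev_single, ev_single, pr]

/-- A word of even weight dies exactly when it is in the code. -/
theorem ev_eq_one_iff {w : Word} (hw : ∑ p, w p = 0) : ev f w = 1 ↔ w ∈ golayCode := by
  refine ⟨fun h => ?_, L.code w⟩
  classical
  let tot : Word →+ ZMod 2 := AddMonoidHom.mk' (fun v => ∑ p, v p) fun a b => by
    simp [Finset.sum_add_distrib]
  let E : AddSubgroup Word := tot.ker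
  let Φ : ↥E →+ Additive B := AddMonoidHom.mk' (fun v => Additive.ofMul (ev f (v : Word))) fun a b => by
    simp [L.ev_add]
  have hsurj : Function.Surjective Φ := fun x => by
    obtain ⟨v, hv, e⟩ := L.cover x.toMul
    exact ⟨⟨v, hv⟩, congrArg Additive.ofMul e⟩
  have hidx : E.index = 2 := by
    rw [AddSubgroup.index_ker, show tot.range = ⊤ from AddMonoidHom.range_eq_top.2 fun x => ⟨Pi.single none x, by
      simp [tot, Finset.sum_pi_single']⟩]
    simp
  have hE : Nat.card ↥E = 2 ^ 23 := by
    have h1 := E.card_mul_index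
    rw [hidx, Nat.card_fun, Nat.card_zmod, Nat.card_eq_fintype_card (α := GolayPt), Fintype.card_congr ptEquiv,
      Fintype.card_fin] at h1
    omega
  have hker : Nat.card ↥Φ.ker = 4096 := by
    have h1 := Φ.ker.card_mul_index
    rw [AddSubgroup.index_ker, AddMonoidHom.range_eq_top.2 hsurj, AddSubgroup.card_top,
      Nat.card_congr Additive.toMul, L.cardB, hE] at h1
    omega
  have hcode : ∀ c : ↥golayCode.toAddSubgroup, (c : Word) ∈ E := fun c => by
    show ∑ p, (c : Word) p = 0
    have h1 := code_self_orth c.2 one_mem_code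
    simpa [dotW] using h1
  let ι : ↥golayCode.toAddSubgroup → ↥Φ.ker := fun c =>
    ⟨⟨c, hcode c⟩, show Additive.ofMul (ev f (c : Word)) = 0 by rw [L.code _ c.2]; rfl⟩
  have hι : Function.Bijective ι := (Nat.bijective_iff_injective_and_card ι).2
    ⟨fun a b e => Subtype.ext (congrArg (fun x : ↥Φ.ker => ((x : ↥E) : Word)) e), by
      rw [hker, CfsgLib.Leech.card_golayCode]⟩
  obtain ⟨c, hc⟩ := hι.2 ⟨⟨w, hw⟩, show Additive.ofMul (ev f w) = 0 by rw [h]; rfl⟩
  have hwc : (c : Word) = w := congrArg (fun x : ↥Φ.ker => ((x : ↥E) : Word)) hc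
  exact hwc ▸ c.2

theorem ev_eq_iff {v w : Word} (hv : ∑ p, v p = 0) (hw : ∑ p, w p = 0) :
    ev f v = ev f w ↔ v + w ∈ golayCode := by
  rw [← L.ev_eq_one_iff (by simp [Finset.sum_add_distrib, hv, hw]), L.ev_add]
  exact ⟨fun e => by rw [e, L.sq], fun e => by rw [mul_eq_one_iff_eq_inv.1 e, L.inv_eq]⟩

/-- The pairs generate. -/
theorem pr_induction {P : B → Prop} (h1 : P 1) (hm : ∀ x a b, P x → P (x * pr f a b)) : ∀ x, P x := by
  intro x
  obtain ⟨w, hw, rfl⟩ := L.cover x
  have key : w = ∑ p, w p • ((Pi.single p 1 : Word) + Pi.single none 1) := by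
    simp only [smul_add, Finset.sum_add_distrib, ← Finset.sum_smul, hw, zero_smul, add_zero]
    ext q; simp [Finset.sum_apply, Pi.single_apply]
  rw [key]
  suffices ∀ s : Finset GolayPt, P (ev f (∑ p ∈ s, w p • ((Pi.single p 1 : Word) + Pi.single none 1))) from this _
  intro s
  induction s using Finset.induction with
  | empty => simpa [ev] using h1
  | insert p s hp ih =>
    rw [Finset.sum_insert hp]
    rcases (show ∀ x : ZMod 2, x = 0 ∨ x = 1 by decide) (w p) with h | h
    · simpa [h] using ih
    · rw [h, one_smul, L.ev_add, L.ev_pair, mul_comm]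
      exact hm _ _ _ ih

end Lab

/-- The action of an element of the Mathieu group. -/
noncomputable def Lab.actFun {f : GolayPt → B} (L : Lab f) (g : ↥M24) (x : B) : B :=
  ev f (actW (g : Equiv.Perm GolayPt) (L.cover x).choose)

theorem Lab.actFun_ev {f : GolayPt → B} (L : Lab f) (g : ↥M24) {w : Word} (hw : ∑ p, w p = 0) :
    L.actFun g (ev f w) = ev f (actW (g : Equiv.Perm GolayPt) w) := by
  obtain ⟨h1, h2⟩ := (L.cover (ev f w)).choose_spec
  refine (L.ev_eq_iff ((sum_actW _ _).trans h1) ((sum_actW _ _).trans hw)).2 ?_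
  rw [← actW_add]
  exact actW_code g.2 ((L.ev_eq_iff h1 hw).1 h2)

/-- The action of the Mathieu group. -/
noncomputable def Lab.act {f : GolayPt → B} (L : Lab f) : ↥M24 →* MulAut B :=
  MonoidHom.mk'
    (fun g =>
      { toFun := L.actFun g
        invFun := L.actFun g⁻¹
        left_inv := fun x => by
          obtain ⟨w, hw, rfl⟩ := L.cover x
          rw [L.actFun_ev g hw, L.actFun_ev g⁻¹ ((sum_actW _ _).trans hw), ← actW_mul, ← Subgroup.coe_mul,
            inv_mul_cancel, Subgroup.coe_one, actW_one]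
        right_inv := fun x => by
          obtain ⟨w, hw, rfl⟩ := L.cover x
          rw [L.actFun_ev g⁻¹ hw, L.actFun_ev g ((sum_actW _ _).trans hw), ← actW_mul, ← Subgroup.coe_mul,
            mul_inv_cancel, Subgroup.coe_one, actW_one]
        map_mul' := fun x y => by
          obtain ⟨v, hv, rfl⟩ := L.cover x
          obtain ⟨w, hw, rfl⟩ := L.cover y
          rw [← L.ev_add, L.actFun_ev g (by simp [Finset.sum_add_distrib, hv, hw]), L.actFun_ev g hv,
            L.actFun_ev g hw, actW_add, L.ev_add] })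
    fun g h => MulEquiv.ext fun x => by
      obtain ⟨w, hw, rfl⟩ := L.cover x
      show L.actFun (g * h) _ = L.actFun g (L.actFun h _)
      rw [L.actFun_ev (g * h) hw, L.actFun_ev h hw, L.actFun_ev g ((sum_actW _ _).trans hw), ← actW_mul]
      rfl

namespace Lab

variable {f : GolayPt → B} (L : Lab f)
include L

theorem act_ev (g : ↥M24) {w : Word} (hw : ∑ p, w p = 0) :
    L.act g (ev f w) = ev f (actW (g : Equiv.Perm GolayPt) w) := L.actFun_ev g hw

theorem act_pr (g : ↥M24) (a b : GolayPt) :
    L.act g (pr f a b) = pr f ((g : Equiv.Perm GolayPt) a) ((g : Equiv.Perm GolayPt) b) := by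
  rw [← L.ev_pair, L.act_ev g (sum_single_pair a b), actW_add, actW_single, actW_single, L.ev_pair]

/-- An automorphism moving the pairs like a permutation in the group is the action of it. -/
theorem eq_act {α : MulAut B} {g : ↥M24}
    (h : ∀ a b, α (pr f a b) = pr f ((g : Equiv.Perm GolayPt) a) ((g : Equiv.Perm GolayPt) b)) : α = L.act g :=
  MulEquiv.ext (L.pr_induction (P := fun x => α x = L.act g x) (by simp) fun x a b hx => by
    rw [map_mul, map_mul, hx, h, L.act_pr])

/-- Equal pair products come from equal pairs. -/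
theorem pr_inj {a b c d : GolayPt} (hab : a ≠ b) (hcd : c ≠ d) (e : pr f a b = pr f c d) :
    ({a, b} : Finset GolayPt) = {c, d} := by
  rw [← L.ev_pair, ← L.ev_pair, L.ev_eq_iff (sum_single_pair a b) (sum_single_pair c d)] at e
  rw [← indW_pair hab, ← indW_pair hcd] at e
  rcases word_cases e with h | h | ⟨o, ho, h⟩ | ⟨o, ho, h⟩ | ⟨o, ho, h⟩
  · have h1 : indW {a, b} = indW {c, d} := CharTwo.add_eq_zero.1 h
    rw [← support_indW ({a, b} : Finset GolayPt), h1, support_indW]
  all_goals exfalso
  all_goals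
    have hsub : support₂ (indW {a, b} + indW {c, d}) ⊆ ({a, b} : Finset GolayPt) ∪ {c, d} := by
      intro p hp
      by_contra hn
      rw [Finset.mem_union, not_or] at hn
      have h0 : (indW {a, b} + indW {c, d}) p = 0 := by
        simp only [Pi.add_apply, indW, if_neg hn.1, if_neg hn.2, add_zero]
      exact (Finset.mem_filter.1 hp).2 h0
    have h4 := (Finset.card_le_card hsub).trans (Finset.card_union_le _ _)
    rw [Finset.card_pair hab, Finset.card_pair hcd, h] at h4
  · rw [show support₂ (fun _ : GolayPt => (1 : ZMod 2)) = Finset.univ by simp [support₂], Finset.card_univ,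
      Fintype.card_congr ptEquiv, Fintype.card_fin] at h4
    omega
  · rw [support_indW, ho.2] at h4
    omega
  · rw [show support₂ ((fun _ : GolayPt => (1 : ZMod 2)) + indW o) = oᶜ by
      ext p
      refine (Finset.mem_filter.trans ?_)
      rw [and_iff_right (Finset.mem_univ p), Finset.mem_compl]
      by_cases hp : p ∈ o <;> simp [indW, hp, show ((1 : ZMod 2) + 1) = 0 from by decide],
      Finset.card_compl, ho.2, Fintype.card_congr ptEquiv, Fintype.card_fin] at h4
    omega
  · rw [support_indW, ho.2] at h4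
    omega

theorem pr_ne_one {a b : GolayPt} (hab : a ≠ b) : pr f a b ≠ 1 := by
  intro e
  obtain ⟨c, hc⟩ : ∃ c : GolayPt, c ≠ a ∧ c ≠ b :=
    (show ∀ a b : GolayPt, ∃ c, c ≠ a ∧ c ≠ b by decide +kernel) a b
  have h1 : pr f a c = pr f b c := by
    have : pr f a b * pr f b c = pr f a c := by
      simp only [pr]
      rw [mul_assoc, ← mul_assoc (f b), L.sq, one_mul]
    rw [← this, e, one_mul]
  have := L.pr_inj hc.1.symm hc.2.symm h1
  have ha : a ∈ ({b, c} : Finset GolayPt) := this ▸ Finset.mem_insert_self a {c}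
  simp [hab, hc.1.symm] at ha

end Lab

/-- The labelling of a group with 276 elements labelled by pairs, and the permutations of an action on it. -/
theorem exists_lab {Ω : Type*} [Fintype Ω] [DecidableEq Ω] {Γ : Type*} [Group Γ] (ρ : Γ →* MulAut B)
    {N : Set B} {f₀ : Ω → B} (h : Pairing N f₀) (hρ : ∀ m x, x ∈ N → ρ m x ∈ N) :
    ∃ (f : GolayPt → B) (L : Lab f) (ψ : Γ →* ↥M24),
      N = {x | ∃ a b, a ≠ b ∧ pr f a b = x} ∧ ∀ m, ρ m = L.act (ψ m) := by
  classical
  obtain ⟨e, he⟩ := CfsgLib.Golay.iso_octads h.cardPts h.steiner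
  have hf : ∀ s : Finset Ω, (s.image e).prod (fun p => f₀ (e.symm p)) = s.prod f₀ := fun s => by
    rw [Finset.prod_image fun x _ y _ hxy => e.injective hxy]
    exact Finset.prod_congr rfl fun x _ => by rw [Equiv.symm_apply_apply]
  have hoct : ∀ o ∈ octads, o.prod (fun p => f₀ (e.symm p)) = 1 := fun o ho => by
    rw [← he] at ho
    obtain ⟨b, ⟨-, hb⟩, rfl⟩ := ho
    exact (hf b).trans hb
  set f : GolayPt → B := fun p => f₀ (e.symm p) with hfdef
  have hadd : ∀ v w : Word, ev f (v + w) = ev f v * ev f w := fun v w => by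
    simp only [ev, ← Finset.prod_mul_distrib, Pi.add_apply]
    refine Finset.prod_congr rfl fun p _ => ?_
    have h2 : ∀ x : ZMod 2, x = 0 ∨ x = 1 := by decide
    rcases h2 (v p) with h' | h' <;> rcases h2 (w p) with h'' | h'' <;>
      simp [h', h'', ZMod.val_one, show ((1 : ZMod 2) + 1) = 0 from by decide, h.sq]
  have L : Lab f := by
    refine ⟨h.sq, h.cardB, fun w hw => ?_, fun x => ?_⟩
    · let K : Submodule (ZMod 2) Word :=
        { carrier := {v | ev f v = 1}
          zero_mem' := by simp [ev]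
          add_mem' := fun {a b} ha hb => by
            show ev f (a + b) = 1
            rw [hadd, show ev f a = 1 from ha, show ev f b = 1 from hb, one_mul]
          smul_mem' := fun c a ha => by
            rcases (show ∀ x : ZMod 2, x = 0 ∨ x = 1 by decide) c with rfl | rfl
            · show ev f ((0 : ZMod 2) • a) = 1
              simp [ev]
            · show ev f ((1 : ZMod 2) • a) = 1
              rwa [one_smul] }
      refine (code_le_of_basis (W := K) (fun b hb => ?_)) hw
      show ev f (toWord b) = 1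
      have h8 : ∀ b ∈ golayBasis, bitCount b = 8 := by decide +kernel
      rw [toWord_eq_indW, ev_indW]
      exact hoct _ (mem_wordsOfWeight.2 ⟨b, mem_spanList_self hb, h8 b hb, rfl⟩)
    · obtain ⟨t, ht, -, rfl⟩ := h.exhaust.1 x
      refine ⟨indW (t.image e), even_iff_card.2 (by rwa [Finset.card_image_of_injective _ e.injective]), ?_⟩
      rw [ev_indW, hf]
  have hiff : ∀ m x, ρ m x ∈ N ↔ x ∈ N := fun m x => ⟨fun hx => by
    have := hρ m⁻¹ _ hx
    rwa [map_inv, MulAut.inv_apply_self] at this, hρ m x⟩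
  choose g hg using fun m => h.exists_perm (ρ m) (hiff m)
  let σ : Γ →* Equiv.Perm Ω := MonoidHom.mk' g fun m m' => h.perm_unique fun a b => by
    show f₀ (g (m * m') a) * f₀ (g (m * m') b) = f₀ (g m (g m' a)) * f₀ (g m (g m' b))
    rw [← hg (m * m'), ← hg m, ← hg m', ρ.map_mul, MulAut.mul_apply]
  let τ : Γ →* Equiv.Perm GolayPt := e.permCongrHom.toMonoidHom.comp σ
  have hτ : ∀ m x, τ m (e x) = e (g m x) := fun m x => by
    show e (σ m (e.symm (e x))) = _
    rw [Equiv.symm_apply_apply]
    rfl
  have hM : ∀ m, τ m ∈ M24 := fun m => by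
    refine CfsgLib.Golay.smul_octads_mem_M24 _ fun o ho _ => ?_
    rw [← he] at ho ⊢
    obtain ⟨b, ⟨hb8, hb1⟩, rfl⟩ := ho
    refine ⟨b.image (g m), ⟨?_, ?_⟩, ?_⟩
    · rw [Finset.card_image_of_injective _ (g m).injective, hb8]
    · rw [h.prod_image_perm (hg m) (by rw [hb8]; norm_num), hb1, map_one]
    · show (b.image (g m)).image e = τ m • b.image e
      rw [Finset.smul_finset_def, Finset.image_image, Finset.image_image]
      exact Finset.image_congr fun u _ => (hτ m u).symm
  refine ⟨f, L, τ.codRestrict M24 hM, Set.ext fun x => ⟨fun hx => ?_, ?_⟩, fun m => L.eq_act fun a b => ?_⟩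
  · obtain ⟨a, b, hab, rfl⟩ := h.cover x hx
    exact ⟨e a, e b, fun e' => hab (e.injective e'), by simp [pr, hfdef]⟩
  · rintro ⟨a, b, hab, rfl⟩
    exact h.pair _ _ fun e' => hab (e.symm.injective e')
  · obtain ⟨x, rfl⟩ := e.surjective a
    obtain ⟨y, rfl⟩ := e.surjective b
    show ρ m (f₀ (e.symm (e x)) * f₀ (e.symm (e y))) =
      f₀ (e.symm (τ m (e x))) * f₀ (e.symm (τ m (e y)))
    rw [hτ, hτ, Equiv.symm_apply_apply, Equiv.symm_apply_apply, Equiv.symm_apply_apply, Equiv.symm_apply_apply, hg]

end CfsgLib.JankoFour.TwoTen
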