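import Cfsg.Agent.Lib.JankoFour.TwoTen.Word
import Cfsg.Agent.Lib.M24Cert.OctadAction

/-!
# The vectors meeting the octad evenly and their commutators
-/

set_option autoImplicit false

namespace CfsgLib.JankoFour.TwoTen

open Cfsg CfsgLib.Golay
open scoped symmDiff Pointwise

theorem co_add (w : Equiv.Perm GolayPt) (a b : Finset GolayPt) : co w (a ∆ b) = co w a ∆ co w b := by
  rw [co, co, co, Finset.smul_finset_symmDiff, sd4]

theorem co_empty (w : Equiv.Perm GolayPt) : co w ∅ = ∅ := by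
  rw [co, Finset.smul_finset_empty]
  exact symmDiff_self _

theorem co_congr {w : Equiv.Perm GolayPt} (hw : w ∈ M24) {a b : Finset GolayPt} (h : Eqv a b) :
    Eqv (co w a) (co w b) := h.add (h.smul hw)

theorem sd_empty_right (s : Finset GolayPt) : s ∆ (∅ : Finset GolayPt) = s := symmDiff_bot s

theorem sd_empty_left (s : Finset GolayPt) : (∅ : Finset GolayPt) ∆ s = s := bot_symmDiff s

theorem sd_five {α : Type*} [DecidableEq α] (v a b c d : Finset α) :
    v ∆ (v ∆ a ∆ b ∆ c ∆ d ∆ a) = b ∆ c ∆ d := by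
  ext x
  simp only [Finset.mem_symmDiff]
  tauto

theorem co_inP {w : Equiv.Perm GolayPt} (hw : w ∈ Wgrp) {s : Finset GolayPt} (h : InP s) : Eqv (co w s) ∅ := by
  obtain ⟨t, ht, -, e⟩ := h
  refine (co_congr (mem_W.1 hw).1 e).trans (Eqv.of_eq ?_)
  rw [co, W_smul hw ht]
  exact symmDiff_self _

theorem evenly_empty : Evenly ∅ := by simp [Evenly]

theorem evenly_sd {a b : Finset GolayPt} (ha : Evenly a) (hb : Evenly b) : Evenly (a ∆ b) := by
  refine ⟨two_dvd_sd ha.1 hb.1, ?_⟩
  have e : (a ∆ b) ∩ oct = (a ∩ oct) ∆ (b ∩ oct) := by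
    ext x
    simp only [Finset.mem_inter, Finset.mem_symmDiff]
    tauto
  rw [e]
  exact two_dvd_sd ha.2 hb.2

theorem evenly_congr (hC : Certs) {a b : Finset GolayPt} (ha : 2 ∣ a.card) (hb : 2 ∣ b.card) (h : Eqv a b) :
    Evenly a ↔ Evenly b := by
  simp only [Evenly, ha, hb, true_and, ← hC.evenly a ha, ← hC.evenly b hb]
  exact ⟨fun h' w hw => (h' w hw).congr (co_congr (mem_W.1 hw).1 h.symm),
    fun h' w hw => (h' w hw).congr (co_congr (mem_W.1 hw).1 h)⟩

theorem IsLow.congr {w : Equiv.Perm GolayPt} {t t' : Finset GolayPt} (h : IsLow w t) (e : Eqv t t') : IsLow w t' := by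
  obtain ⟨v, hv, hv'⟩ := h
  exact ⟨v, hv, hv'.trans e⟩

theorem low_inP (hC : Certs) {w : Equiv.Perm GolayPt} (hw : w ∈ Wgrp) {t : Finset GolayPt} (h : IsLow w t) : InP t := by
  obtain ⟨v, hv, e⟩ := h
  exact ((hC.evenly v hv.1).2 hv.2 w hw).congr e.symm

/-- The fixed points of the stabiliser of the octad. -/
theorem fixed_in_oct (hC : Certs) {x : GolayPt} (h : ∀ w ∈ Wgrp, w x = x) : x ∈ oct := by
  by_contra hx
  obtain ⟨p, hp⟩ := exists_pt
  have hpx : p ≠ x := fun e => hx (e ▸ hp)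
  obtain ⟨t, ht, ht2, e⟩ := hC.fix_w {p, x} (by rw [Finset.card_pair hpx]) fun w hw => Eqv.of_eq (by
    rw [Finset.smul_finset_insert, Finset.smul_finset_singleton, Equiv.Perm.smul_def, Equiv.Perm.smul_def,
      h w hw, (mem_W.1 hw).2 p hp])
  obtain ⟨t', ht', hlt, e'⟩ : ∃ t' ⊆ oct, t'.card ≤ 4 ∧ Eqv ({p, x} : Finset GolayPt) t' := by
    by_cases h4 : t.card ≤ 4
    · exact ⟨t, ht, h4, e⟩
    · refine ⟨oct \ t, Finset.sdiff_subset, ?_, e.trans ?_⟩
      · rw [Finset.card_sdiff_of_subset ht, oct_card]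
        omega
      · rw [Eqv, show t ∆ (oct \ t) = oct by
          rw [← symmDiff_of_ge ht, symmDiff_comm oct t, ← symmDiff_assoc, symmDiff_self]; exact bot_symmDiff _]
        exact oct_mem.1
  have := e'.small (by rw [Finset.card_pair hpx]; omega)
  exact hx (ht' (this ▸ by simp))

theorem octStab_of_conj (hC : Certs) {g : Equiv.Perm GolayPt}
    (h : ∀ w ∈ Wgrp, g⁻¹ * w * g ∈ Wgrp) : g • oct = oct := by
  refine Finset.eq_of_subset_of_card_le (fun y hy => ?_) (by rw [Finset.card_smul_finset])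
  obtain ⟨x, hx, rfl⟩ := Finset.mem_smul_finset.1 hy
  refine fixed_in_oct hC fun w hw => ?_
  have e := (mem_W.1 (h w hw)).2 x hx
  have e' := congrArg g e
  rw [Equiv.Perm.smul_def]
  simpa using e'

theorem W_conj {g : Equiv.Perm GolayPt} (hg : g ∈ M24) (ho : g • oct = oct) {w : Equiv.Perm GolayPt} (hw : w ∈ Wgrp) :
    g * w * g⁻¹ ∈ Wgrp := by
  refine mem_W.2 ⟨mul_mem (mul_mem hg (mem_W.1 hw).1) (inv_mem hg), fun x hx => ?_⟩
  rw [← ho] at hx
  obtain ⟨y, hy, rfl⟩ := Finset.mem_smul_finset.1 hx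
  simp [(mem_W.1 hw).2 y hy]

/-- The exact description of the commutators of one involution. -/
theorem low_eight (hC : Certs) : ∃ w₀ ∈ Wgrp, w₀ ≠ 1 ∧
    ∃ L : Finset (Finset GolayPt), L.card = 8 ∧ (∀ t ∈ L, t ∈ reps ∧ IsLow w₀ t) ∧ ∀ t ∈ reps, IsLow w₀ t → t ∈ L := by
  classical
  obtain ⟨w, u, hw, hu, hgen, hsym, hdiag, hspan, hbasis⟩ := hC.coords
  -- the images of the generators are nontrivial
  have hwne : w 0 ≠ 1 := by
    intro h0
    let f : (Fin 3 → Bool) → Equiv.Perm GolayPt := fun e =>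
      (if e 0 then w 1 else 1) * (if e 1 then w 2 else 1) * (if e 2 then w 3 else 1)
    have hs : (Wgrp : Set (Equiv.Perm GolayPt)) ⊆ Set.range f := fun x hx => by
      obtain ⟨e, rfl⟩ := hgen x hx
      refine ⟨![e 1, e 2, e 3], ?_⟩
      show (if e 1 then w 1 else 1) * (if e 2 then w 2 else 1) * (if e 3 then w 3 else 1) = _
      simp only [h0, ite_self, one_mul]
    have := Set.ncard_le_ncard hs (Set.finite_range f)
    rw [← Nat.card_coe_set_eq] at this
    have h8 : (Set.range f).ncard ≤ 8 := by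
      rw [← Set.image_univ]
      refine (Set.ncard_image_le Set.finite_univ).trans ?_
      simp [Set.ncard_univ]
    simp only [SetLike.coe_sort_coe, W_card] at this
    omega
  -- the six commutators
  let six : (Fin 6 → Bool) → Finset GolayPt := fun e =>
    (if e 0 then co (w 0) (u 1) else ∅) ∆ (if e 1 then co (w 0) (u 2) else ∅) ∆
      (if e 2 then co (w 0) (u 3) else ∅) ∆ (if e 3 then co (w 1) (u 2) else ∅) ∆
      (if e 4 then co (w 1) (u 3) else ∅) ∆ (if e 5 then co (w 2) (u 3) else ∅)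
  have hsix : ∀ i, ∀ j, InP (co (w i) (u j)) := fun i j => (hC.evenly _ (hu j).1).2 (hu j).2 _ (hw i)
  have hinP6 : ∀ e, InP (six e) := fun e => by
    refine InP.add (InP.add (InP.add (InP.add (InP.add ?_ ?_) ?_) ?_) ?_) ?_ <;> split_ifs <;>
      first
        | exact hsix _ _
        | exact inP_empty
  have hr6 : ∀ e, ∃ r ∈ reps, Eqv (six e) r := fun e => by
    obtain ⟨t, ht, ht2, he⟩ := hinP6 e
    obtain ⟨r, hr, he'⟩ := reps_eqv ht ht2
    exact ⟨r, hr, he.trans he'⟩
  choose r6 hr6mem hr6 using hr6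
  have hinj6 : Function.Injective r6 := by
    have hsurj : Function.Surjective fun e => (⟨r6 e, hr6mem e⟩ : {t // t ∈ reps}) := by
      rintro ⟨t, ht⟩
      obtain ⟨h1, -, h2⟩ := mem_reps.1 ht
      obtain ⟨e, he⟩ := hbasis t h1 h2
      exact ⟨e, Subtype.ext (reps_inj (hr6mem e) ht ((hr6 e).symm.trans he.symm))⟩
    have hbij := (Fintype.bijective_iff_surjective_and_card _).2
      ⟨hsurj, by simp [reps_card]⟩
    exact fun a b e => hbij.1 (Subtype.ext e)
  let ext : (Fin 3 → Bool) → (Fin 6 → Bool) := fun e => ![e 0, e 1, e 2, false, false, false]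
  have key : ∀ a b c : Bool, co (w 0) (if a then u 1 else ∅) ∆ co (w 0) (if b then u 2 else ∅) ∆
      co (w 0) (if c then u 3 else ∅) = six ![a, b, c, false, false, false] := by
    intro a b c
    cases a <;> cases b <;> cases c <;> simp [six, co_empty, sd_empty_right, sd_empty_left]
  refine ⟨w 0, hw 0, hwne, (Finset.univ : Finset (Fin 3 → Bool)).image fun e => r6 (ext e), ?_, ?_, ?_⟩
  · rw [Finset.card_image_of_injective]
    · simp
    · intro a b e
      have h := hinj6 e
      funext i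
      fin_cases i
      exacts [congrFun h 0, congrFun h 1, congrFun h 2]
  · intro t ht
    obtain ⟨e, -, rfl⟩ := Finset.mem_image.1 ht
    refine ⟨hr6mem _, ?_⟩
    let v : Finset GolayPt := (if e 0 then u 1 else ∅) ∆ (if e 1 then u 2 else ∅) ∆ (if e 2 then u 3 else ∅)
    refine ⟨v, ?_, Eqv.trans (Eqv.of_eq ?_) (hr6 _)⟩
    · refine evenly_sd (evenly_sd ?_ ?_) ?_ <;> split_ifs <;>
        first
          | exact hu _
          | exact evenly_empty
    · show co (w 0) v = six (ext e)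
      simp only [v, co_add]
      exact key _ _ _
  · rintro t ht ⟨v, hv, hvt⟩
    obtain ⟨e, he⟩ := hspan v hv
    refine Finset.mem_image.2 ⟨![e 1, e 2, e 3], Finset.mem_univ _, reps_inj (hr6mem _) ht ?_⟩
    refine (hr6 _).symm.trans (Eqv.trans ?_ hvt)
    have h0 := co_inP (hw 0) he
    simp only [co_add] at h0
    have h1 : Eqv (co (w 0) (if e 0 then u 0 else ∅)) ∅ := by
      split_ifs
      · exact hdiag 0
      · rw [co_empty]; exact Eqv.refl _
    have h2 := (h0.add h1).symm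
    rw [sd_empty_left] at h2
    have h3 := (Eqv.refl (co (w 0) v)).add h2
    rw [sd_empty_right, sd_five] at h3
    refine Eqv.trans (Eqv.of_eq ?_) h3.symm
    exact (key _ _ _).symm

end CfsgLib.JankoFour.TwoTen
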