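import Cfsg.Agent.Lib.JankoFour.TwoTen.Group

/-!
# The self-centralising elementary groups of order `2^10`, from a setup
-/

set_option autoImplicit false
set_option linter.unusedSectionVars false

namespace CfsgLib.JankoFour.TwoTen

open Cfsg CfsgLib.Golay
open scoped symmDiff Pointwise

variable {G : Type*} [Group G] [Finite G] {z : G} {V : Subgroup G} {P : Finset GolayPt → G}
  {κ : Equiv.Perm GolayPt → G}

namespace Setup

variable (S : Setup z V P κ)
include S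

theorem exists_two_ten (hC : Certs) :
    ∃ A : Subgroup G, IsElementaryAbelian 2 A ∧ Nat.card ↥A = 2 ^ 10 ∧ Subgroup.centralizer (A : Set G) = A :=
  ⟨S.A, S.A_elem, S.A_card, S.A_cent hC⟩

theorem two_ten_conj (hC : Certs) {A A' : Subgroup G} (hA : IsElementaryAbelian 2 A) (hA2 : Nat.card ↥A = 2 ^ 10)
    (hA3 : Subgroup.centralizer (A : Set G) = A) (hA' : IsElementaryAbelian 2 A') (hA2' : Nat.card ↥A' = 2 ^ 10)
    (hA3' : Subgroup.centralizer (A' : Set G) = A') : ∃ g : G, A' = A.map (MulAut.conj g).toMonoidHom := by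
  obtain ⟨g, hg⟩ := S.one_class hC hA hA2 hA3
  obtain ⟨g', hg'⟩ := S.one_class hC hA' hA2' hA3'
  exact ⟨g' * g⁻¹, show A' = cnj (g' * g⁻¹) A by rw [hg, cnj_mul, inv_mul_cancel_right, ← hg']⟩

theorem two_ten_structure (hC : Certs) {A : Subgroup G} (hA : IsElementaryAbelian 2 A)
    (hA2 : Nat.card ↥A = 2 ^ 10) (hA3 : Subgroup.centralizer (A : Set G) = A) :
    (∃ B : Subgroup G, B ≤ Subgroup.normalizer (A : Set G) ∧ B ⊓ A = ⊥ ∧ B ⊔ A = Subgroup.normalizer (A : Set G) ∧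
        Nonempty (↥B ≃* Matrix.SpecialLinearGroup (Fin 5) (ZMod 2))) ∧
      ∀ W : Subgroup G, W ≤ A → Subgroup.normalizer (A : Set G) ≤ Subgroup.normalizer (W : Set G) → W = ⊥ ∨ W = A := by
  obtain ⟨g, rfl⟩ := S.one_class hC hA hA2 hA3
  obtain ⟨B, hle, hinf, hsup, ⟨e⟩⟩ := S.split_L5 hC
  have hinj : Function.Injective (MulAut.conj g).toMonoidHom := (MulAut.conj g).injective
  refine ⟨⟨cnj g B, ?_, ?_, ?_, ⟨(Subgroup.equivMapOfInjective B _ hinj).symm.trans e⟩⟩, fun W hW hn => ?_⟩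
  · rw [← cnj_normalizer]
    exact cnj_mono hle
  · rw [cnj, ← Subgroup.map_inf B S.A _ hinj, hinf, Subgroup.map_bot]
  · rw [← cnj_normalizer, cnj, ← Subgroup.map_sup, hsup]
  · have h1 : cnj g⁻¹ W ≤ S.A := by
      have := cnj_mono (k := g⁻¹) hW
      rwa [cnj_mul, inv_mul_cancel, cnj_one] at this
    have h2 := cnj_mono (k := g⁻¹) hn
    rw [cnj_normalizer, cnj_normalizer, cnj_mul, inv_mul_cancel, cnj_one] at h2
    rcases S.irreducible hC _ h1 h2 with h | h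
    · left
      have := congrArg (cnj g) h
      rwa [cnj_mul, mul_inv_cancel, cnj_one, cnj, Subgroup.map_bot] at this
    · right
      have := congrArg (cnj g) h
      rwa [cnj_mul, mul_inv_cancel, cnj_one] at this

theorem two_ten_orbits (hC : Certs) {A : Subgroup G} (hA : IsElementaryAbelian 2 A)
    (hA2 : Nat.card ↥A = 2 ^ 10) (hA3 : Subgroup.centralizer (A : Set G) = A) :
    ∃ a b : G, a ∈ A ∧ b ∈ A ∧
      Set.ncard {v : G | ∃ n ∈ Subgroup.normalizer (A : Set G), n * a * n⁻¹ = v} = 155 ∧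
      Set.ncard {v : G | ∃ n ∈ Subgroup.normalizer (A : Set G), n * b * n⁻¹ = v} = 868 := by
  obtain ⟨g, rfl⟩ := S.one_class hC hA hA2 hA3
  obtain ⟨p, hp, q, hq, hpq, Q, hQ, hQ4⟩ := exists_pair_quad
  obtain ⟨-, hb, ha, -, -⟩ := S.orbits hC hp hq hpq hQ hQ4
  have key : ∀ x : G, {v : G | ∃ n ∈ Subgroup.normalizer (cnj g S.A : Set G),
      n * (g * x * g⁻¹) * n⁻¹ = v}.ncard = (orbN S.A x).ncard := by
    intro x
    rw [← Set.ncard_image_of_injective (orbN S.A x) (MulAut.conj g).injective, ← cnj_normalizer]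
    congr 1
    ext v
    constructor
    · rintro ⟨n, hn, rfl⟩
      exact ⟨(g⁻¹ * n * g) * x * (g⁻¹ * n * g)⁻¹, ⟨_, mem_cnj.1 hn, rfl⟩, by simp [mul_assoc]⟩
    · rintro ⟨_, ⟨n, hn, rfl⟩, rfl⟩
      exact ⟨g * n * g⁻¹, mem_cnj.2 (by simpa [mul_assoc] using hn), by simp [mul_assoc]⟩
  have hP : P Q ∈ S.A := S.P_mem_A hQ (by omega)
  have hP' : P {p, q} ∈ S.A :=
    S.P_mem_A (Finset.insert_subset_iff.2 ⟨hp, Finset.singleton_subset_iff.2 hq⟩) (by rw [Finset.card_pair hpq])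
  exact ⟨g * P Q * g⁻¹, g * P {p, q} * g⁻¹, mem_cnj.2 (by simpa [mul_assoc] using hP),
    mem_cnj.2 (by simpa [mul_assoc] using hP'), (key _).trans ha, (key _).trans hb⟩

end Setup

end CfsgLib.JankoFour.TwoTen
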