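import Cfsg.Agent.Lib.JankoFour.TwoTen.Defs
import Cfsg.Agent.Lib.M24Cert.Enum

/-!
# Data on the complement of the stabiliser of an octad and an outside point

The group of order `2^10` is coordinatised by a number below 64 (an even subset of the octad up to the
code) and a number below 16 (an element of the pointwise stabiliser of the octad).
-/

set_option autoImplicit false

namespace CfsgLib.JankoFour.TwoTen.Match

open Cfsg CfsgLib.Golay CfsgLib.M24Cert

/-- The element of order fifteen of the stabiliser of the octad and an outside point. -/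
def XL : List ℕ :=
  [1, 2, 0, 4, 7, 5, 17, 10, 13, 11, 12, 21, 3, 14, 9, 23, 22, 19, 20, 16, 8, 6, 15, 18]

/-- The second generator of that stabiliser. -/
def YL : List ℕ :=
  [1, 0, 3, 2, 4, 5, 9, 7, 15, 6, 10, 22, 12, 20, 14, 8, 19, 17, 21, 16, 13, 18, 11, 23]

/-- Masks of representatives of the even subsets of the octad. -/
def MK : List ℕ :=
  [0, 4097, 4098, 3, 4100, 5, 6, 4103, 4104, 9, 10, 4107, 12, 4109, 4110, 15, 4112, 17, 18, 4115,
    20, 4117, 4118, 23, 24, 4121, 4122, 27, 4124, 29, 30, 4127, 4224, 129, 130, 4227, 132, 4229,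
    4230, 135, 136, 4233, 4234, 139, 4236, 141, 142, 4239, 144, 4241, 4242, 147, 4244, 149, 150,
    4247, 4248, 153, 154, 4251, 156, 4253, 4254, 159]

/-- The pointwise stabiliser of the octad. -/
def WL : List (List ℕ) :=
  [[0, 1, 2, 3, 4, 5, 6, 7, 8, 9, 10, 11, 12, 13, 14, 15, 16, 17, 18, 19, 20, 21, 22, 23]
   ,[0, 1, 2, 3, 4, 6, 5, 7, 18, 14, 10, 23, 12, 15, 9, 13, 21, 22, 8, 20, 19, 16, 17, 11]
   ,[0, 1, 2, 3, 4, 8, 18, 7, 5, 20, 10, 13, 12, 11, 19, 23, 17, 16, 6, 14, 9, 22, 21, 15]
   ,[0, 1, 2, 3, 4, 18, 8, 7, 6, 19, 10, 15, 12, 23, 20, 11, 22, 21, 5, 9, 14, 17, 16, 13]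
   ,[0, 1, 2, 3, 4, 9, 14, 7, 20, 5, 10, 17, 12, 16, 6, 21, 13, 11, 19, 18, 8, 15, 23, 22]
   ,[0, 1, 2, 3, 4, 14, 9, 7, 19, 6, 10, 22, 12, 21, 5, 16, 15, 23, 20, 8, 18, 13, 11, 17]
   ,[0, 1, 2, 3, 4, 20, 19, 7, 9, 8, 10, 16, 12, 17, 18, 22, 11, 13, 14, 6, 5, 23, 15, 21]
   ,[0, 1, 2, 3, 4, 19, 20, 7, 14, 18, 10, 21, 12, 22, 8, 17, 23, 15, 9, 5, 6, 11, 13, 16]
   ,[0, 1, 2, 3, 4, 11, 23, 7, 13, 17, 10, 5, 12, 8, 22, 18, 20, 9, 15, 21, 16, 19, 14, 6]
   ,[0, 1, 2, 3, 4, 23, 11, 7, 15, 22, 10, 6, 12, 18, 17, 8, 19, 14, 13, 16, 21, 20, 9, 5]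
   ,[0, 1, 2, 3, 4, 13, 15, 7, 11, 16, 10, 8, 12, 5, 21, 6, 9, 20, 23, 22, 17, 14, 19, 18]
   ,[0, 1, 2, 3, 4, 15, 13, 7, 23, 21, 10, 18, 12, 6, 16, 5, 14, 19, 11, 17, 22, 9, 20, 8]
   ,[0, 1, 2, 3, 4, 17, 22, 7, 16, 11, 10, 9, 12, 20, 23, 19, 8, 5, 21, 15, 13, 18, 6, 14]
   ,[0, 1, 2, 3, 4, 22, 17, 7, 21, 23, 10, 14, 12, 19, 11, 20, 18, 6, 16, 13, 15, 8, 5, 9]
   ,[0, 1, 2, 3, 4, 16, 21, 7, 17, 13, 10, 20, 12, 9, 15, 14, 5, 8, 22, 23, 11, 6, 18, 19]
   ,[0, 1, 2, 3, 4, 21, 16, 7, 22, 15, 10, 19, 12, 14, 13, 9, 6, 18, 17, 11, 23, 5, 8, 20]]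

/-- The actions on the two parts. -/
def TX6 : List ℕ :=
  [0, 10, 12, 6, 9, 3, 5, 15, 24, 18, 20, 30, 17, 27, 29, 23, 40, 34, 36, 46, 33, 43, 45, 39, 48,
    58, 60, 54, 57, 51, 53, 63, 55, 61, 59, 49, 62, 52, 50, 56, 47, 37, 35, 41, 38, 44, 42, 32, 31,
    21, 19, 25, 22, 28, 26, 16, 7, 13, 11, 1, 14, 4, 2, 8]

/-- The action of the second generator on the masks. -/
def TY6 : List ℕ :=
  [0, 2, 1, 3, 8, 10, 9, 11, 4, 6, 5, 7, 12, 14, 13, 15, 16, 18, 17, 19, 24, 26, 25, 27, 20, 22, 21,
    23, 28, 30, 29, 31, 32, 34, 33, 35, 40, 42, 41, 43, 36, 38, 37, 39, 44, 46, 45, 47, 48, 50, 49,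
    51, 56, 58, 57, 59, 52, 54, 53, 55, 60, 62, 61, 63]

/-- The action of the first generator on the stabiliser. -/
def TX4 : List ℕ :=
  [0, 12, 10, 6, 8, 4, 2, 14, 15, 3, 5, 9, 7, 11, 13, 1]

/-- The action of the second generator on the stabiliser. -/
def TY4 : List ℕ :=
  [0, 4, 11, 15, 1, 5, 10, 14, 13, 9, 6, 2, 12, 8, 7, 3]

/-- Relations of the generators. -/
def RELS : List (List Bool) :=
  [[true, true], 
   [false, true, false, true, false, true, false, true, false, true, false, true, false, true], 
   [false, true, false, false, false, false, true, false, true, false, false, false, false, true], 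
   [false, false, false, false, false, true, false, false, false, false, false, true, false, false,
     false, false, false, true]]

/-- Words moving the points of the octad one after the other. -/
def LEV : List (ℕ × List (List Bool)) :=
  [(0, [[], [false], [false, false], [true, false, false], [false, true, false, false], [false,
    false, true, false, false], [false, false, false, true, false, false], [false, false, false,
    false, true, false, false]]),
   (1, [[], [false, false, true], [true, false], [true, false, true, false], [false, false, true,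
     false, false, true], [false, false, false, true, false], [false, false, false, true, false,
     true, false]]),
   (2, [[], [false, false, false, false, false, true, false, false, true, false, false, false, true,
     false], [false, false, false, true, false, false, false, true], [false, false, true, false,
     false, true, false, false, false, true, false], [true, false, false, false, true], [false,
     false, false, false, false, false, true, false, false, false, true]]),
   (3, [[], [false, false, false, false, false, false], [false, true, false, true, false, false,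
     false, false, true, false, true], [false, false, false], [false, false, false, false, false,
     false, false, false, false]]),
   (4, [[], [false, false, true, false, false, false, true, false, false, false, false, true, false,
     false, false, true, false, false, true], [false, true, false, true, false, false, false, false,
     false, false, false, true, false, true, false, true, false, true], [false, false, false, true,
     false, true, false, false, true, false, false, false, false, false, true, false, false, true,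
     false, true, false]]),
   (7, [[], [false, false, false, true, false, false, true, false, true, false, false, false, true,
     false, true, false, true, false, false, true], [false, true, false, true, false, true, false,
     false, false, false, false, false, false, true, false, true, false, true]])]

/-- The list of a word. -/
def wordL : List Bool → List ℕ
  | [] => List.range 24
  | b :: w => compL (if b then YL else XL) (wordL w)

/-- The value of the cocycle on a word, for a value `c` on the second generator. -/
noncomputable def evalW (TX TY : List ℕ) (c : ℕ) : List Bool → ℕ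
  | [] => 0
  | b :: w => if b then c ^^^ getR TY (evalW TX TY c w) else getR TX (evalW TX TY c w)

theorem mk_ok : allLt (fun m => Nat.beq (getR MK m &&& 5279) (getR MK m) && Nat.beq (bc (getR MK m) % 2) 0 &&
    (Nat.beq m 0 || !(Nat.beq (bc (getR MK m)) 0) && Nat.ble (bc (getR MK m)) 7) &&
    allLt (fun n => Nat.beq (getR MK (m ^^^ n)) (getR MK m ^^^ getR MK n)) 64) 64 = true := by
  decide +kernel

theorem wl_ok : allLt (fun a => m24Test (WL.getD a []) &&
    allLt (fun i => !(Nat.testBit 5279 i) || Nat.beq ((WL.getD a []).getD i 0) i) 24 &&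
    allLt (fun b => (Nat.beq a b || !(Nat.beq ((WL.getD a []).getD 5 0) ((WL.getD b []).getD 5 0))) &&
      eqB (compL (WL.getD a []) (WL.getD b [])) (WL.getD (a ^^^ b) [])) 16) 16 = true := by
  decide +kernel

theorem gen_ok : (m24Test XL && m24Test YL && Nat.beq (imgF XL 5279) 5279 && Nat.beq (imgF YL 5279) 5279 &&
    Nat.beq (XL.getD 5 0) 5 && Nat.beq (YL.getD 5 0) 5) = true := by
  decide +kernel

theorem act6_ok : allLt (fun m => Nat.blt (getR TX6 m) 64 && Nat.blt (getR TY6 m) 64 &&
    inCodeT (imgF XL (getR MK m) ^^^ getR MK (getR TX6 m)) &&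
    inCodeT (imgF YL (getR MK m) ^^^ getR MK (getR TY6 m))) 64 = true := by
  decide +kernel

theorem act4_ok : allLt (fun a => Nat.blt (getR TX4 a) 16 && Nat.blt (getR TY4 a) 16 &&
    eqB (compL XL (WL.getD a [])) (compL (WL.getD (getR TX4 a) []) XL) &&
    eqB (compL YL (WL.getD a [])) (compL (WL.getD (getR TY4 a) []) YL)) 16 = true := by
  decide +kernel

theorem solve_ok : (allLt (fun a => !allLt (fun m => !Nat.beq (m ^^^ getR TX6 m) a) 64) 64 &&
    allLt (fun a => !allLt (fun m => !Nat.beq (m ^^^ getR TX4 m) a) 16) 16) = true := by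
  decide +kernel

theorem rels_id : allB (fun w => eqB (wordL w) (List.range 24)) RELS = true := by
  decide +kernel

theorem rels_ok : (allLt (fun c => !allB (fun w => Nat.beq (evalW TX6 TY6 c w) 0) RELS ||
      (Nat.beq c 0 || Nat.beq c 12)) 64 &&
    allLt (fun c => !allB (fun w => Nat.beq (evalW TX4 TY4 c w) 0) RELS || Nat.beq c 0) 16) = true := by
  decide +kernel

theorem twist_ok : (inCodeT (getR MK 12 ^^^ (39 ^^^ imgF YL 39)) && Nat.beq (imgF XL 39) 39 &&
    Nat.beq (bc 39) 4) = true := by
  decide +kernel

/-- The check of the levels: the representatives fix the earlier points and move the point apart. -/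
def levOk : List ℕ → List (ℕ × List (List Bool)) → Bool
  | _, [] => true
  | fixed, (b, ws) :: ls =>
    decide (b < 24) && decide ((ws.map fun w => (wordL w).getD b 0).Nodup) &&
      ws.all (fun w => fixed.all fun f => (wordL w).getD f 0 == f) && levOk (b :: fixed) ls

theorem lev_ok : (levOk [] LEV && decide ((LEV.map fun l => l.2.length).prod = 20160)) = true := by
  decide +kernel

end CfsgLib.JankoFour.TwoTen.Match
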