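import Cfsg.Agent.Lib.JankoFour.TwoTen.Defs

/-!
# Elementary facts on the vocabulary
-/

set_option autoImplicit false

namespace CfsgLib.JankoFour.TwoTen

open Cfsg CfsgLib.Golay
open scoped symmDiff Pointwise

theorem sd4 {α : Type*} [DecidableEq α] (a b c d : Finset α) : a ∆ b ∆ (c ∆ d) = a ∆ c ∆ (b ∆ d) := by
  ext x
  simp only [Finset.mem_symmDiff]
  tauto

theorem sd_mid {α : Type*} [DecidableEq α] (a b c : Finset α) : a ∆ b ∆ (b ∆ c) = a ∆ c := by
  ext x
  simp only [Finset.mem_symmDiff]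
  tauto

theorem empty_supports : (∅ : Finset GolayPt) ∈ supports (golayCode : Set (GolayPt → ZMod 2)) :=
  mem_supports.2 ⟨0, zero_mem_spanList _, by ext p; simp [mem_toSet]⟩

theorem Eqv.refl (s : Finset GolayPt) : Eqv s s := by
  simpa [Eqv, symmDiff_self] using empty_supports

theorem Eqv.of_eq {s t : Finset GolayPt} (h : s = t) : Eqv s t := h ▸ Eqv.refl s

theorem Eqv.symm {s t : Finset GolayPt} (h : Eqv s t) : Eqv t s := by
  rwa [Eqv, symmDiff_comm] at h

theorem Eqv.trans {s t u : Finset GolayPt} (h : Eqv s t) (h' : Eqv t u) : Eqv s u := by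
  rw [Eqv, ← sd_mid s t u]
  exact symmDiff_mem_supports h h'

theorem Eqv.add {a b c d : Finset GolayPt} (h : Eqv a b) (h' : Eqv c d) : Eqv (a ∆ c) (b ∆ d) := by
  rw [Eqv, sd4]
  exact symmDiff_mem_supports h h'

theorem Eqv.smul {g : Equiv.Perm GolayPt} (hg : g ∈ M24) {s t : Finset GolayPt} (h : Eqv s t) :
    Eqv (g • s) (g • t) := by
  rw [Eqv, ← Finset.smul_finset_symmDiff]
  exact supports_smul hg h

theorem eqv_empty_iff {s : Finset GolayPt} : Eqv s ∅ ↔ s ∈ supports (golayCode : Set (GolayPt → ZMod 2)) := by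
  rw [Eqv, ← Finset.bot_eq_empty, symmDiff_bot]

theorem eqv_iff_sd {s t : Finset GolayPt} : Eqv s t ↔ Eqv (s ∆ t) ∅ := eqv_empty_iff.symm

theorem two_dvd_sd {α : Type*} [DecidableEq α] {s t : Finset α} (hs : 2 ∣ s.card) (ht : 2 ∣ t.card) :
    2 ∣ (s ∆ t).card := by
  have h1 := Finset.card_sdiff_add_card_inter s t
  have h2 := Finset.card_sdiff_add_card_inter t s
  rw [Finset.inter_comm t s] at h2
  rw [show s ∆ t = (s \ t) ∪ (t \ s) from rfl, Finset.card_union_of_disjoint disjoint_sdiff_sdiff]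
  omega

theorem two_dvd_smul {g : Equiv.Perm GolayPt} {s : Finset GolayPt} (hs : 2 ∣ s.card) : 2 ∣ (g • s).card := by
  rwa [Finset.card_smul_finset]

theorem two_dvd_co {g : Equiv.Perm GolayPt} {s : Finset GolayPt} (hs : 2 ∣ s.card) : 2 ∣ (co g s).card :=
  two_dvd_sd hs (two_dvd_smul hs)

theorem Eqv.small {s t : Finset GolayPt} (h : Eqv s t) (hlt : s.card + t.card < 8) : s = t := by
  have hle : (s ∆ t).card ≤ s.card + t.card := by
    refine (Finset.card_le_card (show s ∆ t ⊆ s ∪ t from fun x hx => ?_)).trans (Finset.card_union_le _ _)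
    rw [Finset.mem_symmDiff] at hx
    rw [Finset.mem_union]
    tauto
  have h0 : (s ∆ t).card = 0 := by
    have := supports_weight h
    omega
  exact symmDiff_eq_bot.1 (Finset.card_eq_zero.1 h0)

theorem oct_mem : oct ∈ octads := baseOctad_mem

theorem oct_card : oct.card = 8 := oct_mem.2

theorem oct_eqv : Eqv oct ∅ := eqv_empty_iff.2 oct_mem.1

theorem InP.congr {s t : Finset GolayPt} (h : Eqv s t) (hs : InP t) : InP s := by
  obtain ⟨u, hu, hu2, e⟩ := hs
  exact ⟨u, hu, hu2, h.trans e⟩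

theorem InP.add {s t : Finset GolayPt} (hs : InP s) (ht : InP t) : InP (s ∆ t) := by
  obtain ⟨u, hu, hu2, e⟩ := hs
  obtain ⟨u', hu', hu2', e'⟩ := ht
  refine ⟨u ∆ u', fun x hx => ?_, two_dvd_sd hu2 hu2', e.add e'⟩
  rw [Finset.mem_symmDiff] at hx
  rcases hx with ⟨h, -⟩ | ⟨h, -⟩
  exacts [hu h, hu' h]

theorem inP_of_subset {t : Finset GolayPt} (h : t ⊆ oct) (h2 : 2 ∣ t.card) : InP t := ⟨t, h, h2, Eqv.refl t⟩

theorem inP_empty : InP ∅ := inP_of_subset (Finset.empty_subset _) (by simp)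

theorem mem_W {g : Equiv.Perm GolayPt} : g ∈ Wgrp ↔ g ∈ M24 ∧ ∀ x ∈ oct, g x = x := by
  simp [Wgrp, mem_fixingSubgroup_iff, Equiv.Perm.smul_def]

theorem W_smul {g : Equiv.Perm GolayPt} (hg : g ∈ Wgrp) {t : Finset GolayPt} (ht : t ⊆ oct) : g • t = t := by
  refine Finset.eq_of_subset_of_card_le (fun y hy => ?_) (by rw [Finset.card_smul_finset])
  obtain ⟨x, hx, rfl⟩ := Finset.mem_smul_finset.1 hy
  rwa [Equiv.Perm.smul_def, (mem_W.1 hg).2 x (ht hx)]

theorem W_card : Nat.card ↥Wgrp = 16 := (octad_pointwise oct_mem).1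

theorem W_sq {g : Equiv.Perm GolayPt} (hg : g ∈ Wgrp) : g * g = 1 := (octad_pointwise oct_mem).2 g hg

theorem W_comm {g h : Equiv.Perm GolayPt} (hg : g ∈ Wgrp) (hh : h ∈ Wgrp) : g * h = h * g := by
  have e := W_sq (mul_mem hg hh)
  calc g * h = g * (g * h * (g * h)) * h := by rw [e, mul_one]
    _ = (g * g) * (h * g) * (h * h) := by group
    _ = h * g := by rw [W_sq hg, W_sq hh, one_mul, mul_one]

/-- A point of the octad. -/
theorem exists_pt : ∃ p, p ∈ oct := Finset.card_pos.1 (by rw [oct_card]; norm_num)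

/-- A point of the octad, fixed once and for all. -/
noncomputable def p₀ : GolayPt := exists_pt.choose

theorem p₀_mem : p₀ ∈ oct := exists_pt.choose_spec

/-- Representatives of the vectors of the group of order 64. -/
noncomputable def reps : Finset (Finset GolayPt) := (oct.erase p₀).powerset.filter fun t => 2 ∣ t.card

theorem mem_reps {t : Finset GolayPt} : t ∈ reps ↔ t ⊆ oct ∧ p₀ ∉ t ∧ 2 ∣ t.card := by
  simp [reps, Finset.subset_erase]
  tauto

theorem even_subsets_seven {α : Type*} [DecidableEq α] {S : Finset α} (h : S.card = 7) :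
    (S.powerset.filter fun t => 2 ∣ t.card).card = 64 := by
  have key : (S.powerset.filter fun t => 2 ∣ t.card) =
      (Finset.range 4).biUnion fun k => S.powersetCard (2 * k) := by
    ext t
    simp only [Finset.mem_filter, Finset.mem_powerset, Finset.mem_biUnion, Finset.mem_range,
      Finset.mem_powersetCard]
    constructor
    · rintro ⟨ht, j, hj⟩
      exact ⟨j, by have := Finset.card_le_card ht; omega, ht, hj⟩
    · rintro ⟨j, -, ht, hj⟩
      exact ⟨ht, j, hj⟩
  rw [key, Finset.card_biUnion]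
  · simp only [Finset.card_powersetCard, h]
    decide +kernel
  · intro i _ j _ hij
    exact Finset.disjoint_left.2 fun t ht ht' =>
      hij (by rw [Finset.mem_powersetCard] at ht ht'; omega)

theorem reps_card : reps.card = 64 := by
  refine even_subsets_seven ?_
  rw [Finset.card_erase_of_mem p₀_mem, oct_card]

theorem reps_eqv {t : Finset GolayPt} (h : t ⊆ oct) (h2 : 2 ∣ t.card) : ∃ r ∈ reps, Eqv t r := by
  by_cases hp : p₀ ∈ t
  · refine ⟨oct \ t, mem_reps.2 ⟨Finset.sdiff_subset, fun h' => (Finset.mem_sdiff.1 h').2 hp, ?_⟩, ?_⟩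
    · rw [Finset.card_sdiff_of_subset h, oct_card]
      have := Finset.card_le_card h
      rw [oct_card] at this
      omega
    · have e : t ∆ (oct \ t) = oct := by
        ext x
        simp only [Finset.mem_symmDiff, Finset.mem_sdiff]
        constructor
        · rintro (⟨hx, -⟩ | ⟨⟨hx, -⟩, -⟩)
          exacts [h hx, hx]
        · intro hx
          by_cases hxt : x ∈ t
          · exact Or.inl ⟨hxt, fun h' => h'.2 hxt⟩
          · exact Or.inr ⟨⟨hx, hxt⟩, hxt⟩
      rw [Eqv, e]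
      exact oct_mem.1
  · exact ⟨t, mem_reps.2 ⟨h, hp, h2⟩, Eqv.refl t⟩

theorem reps_inj {r r' : Finset GolayPt} (hr : r ∈ reps) (hr' : r' ∈ reps) (h : Eqv r r') : r = r' := by
  obtain ⟨h1, h2, -⟩ := mem_reps.1 hr
  obtain ⟨h1', h2', -⟩ := mem_reps.1 hr'
  have hsub : r ∆ r' ⊆ oct.erase p₀ := fun x hx => by
    rw [Finset.mem_symmDiff] at hx
    rw [Finset.mem_erase]
    rcases hx with ⟨hx, -⟩ | ⟨hx, -⟩
    · exact ⟨fun e => h2 (e ▸ hx), h1 hx⟩
    · exact ⟨fun e => h2' (e ▸ hx), h1' hx⟩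
  have hle := Finset.card_le_card hsub
  rw [Finset.card_erase_of_mem p₀_mem, oct_card] at hle
  have h0 : (r ∆ r').card = 0 := by
    have := supports_weight h
    omega
  exact symmDiff_eq_bot.1 (Finset.card_eq_zero.1 h0)

end CfsgLib.JankoFour.TwoTen
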