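import Cfsg.Agent.Lib.JankoFour.TwoTen.MatchData
import Cfsg.Agent.Lib.JankoFour.TwoTen.Word
import Cfsg.Agent.Lib.M24Cert.OctadAction

/-!
# Two generators of the stabiliser of an octad and an outside point
-/

set_option autoImplicit false

namespace CfsgLib.JankoFour.TwoTen.Match

open Cfsg CfsgLib.Golay CfsgLib.M24Cert
open scoped symmDiff Pointwise

/-- The generator of order fifteen. -/
noncomputable def X : Equiv.Perm GolayPt := pL XL

/-- The second generator. -/
noncomputable def Y : Equiv.Perm GolayPt := pL YL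

theorem gen_facts : m24Test XL = true ∧ m24Test YL = true ∧ imgF XL 5279 = 5279 ∧ imgF YL 5279 = 5279 ∧
    XL.getD 5 0 = 5 ∧ YL.getD 5 0 = 5 := by
  simpa [Bool.and_eq_true, Nat.beq_eq, and_assoc] using gen_ok

theorem pt5_notMem : pt 5 ∉ oct := by
  rw [oct, pt_mem_toSet (by omega)]
  decide +kernel

theorem mem_pointStab {L : List ℕ} (h : m24Test L = true) (ho : imgF L 5279 = 5279) (h5 : L.getD 5 0 = 5) :
    pL L ∈ octPointStab oct (pt 5) := by
  refine ⟨⟨mem_M24_of_test h, ?_⟩, ?_⟩
  · show pL L • oct = oct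
    rw [oct, show baseOctad = 5279 from rfl, smul_toSet_imgF (valid_of_m24Test h), ho]
  · show pL L (pt 5) = pt 5
    rw [pL_pt (valid_of_m24Test h) (by omega), h5]

theorem X_mem : X ∈ octPointStab oct (pt 5) :=
  mem_pointStab gen_facts.1 gen_facts.2.2.1 gen_facts.2.2.2.2.1

theorem Y_mem : Y ∈ octPointStab oct (pt 5) :=
  mem_pointStab gen_facts.2.1 gen_facts.2.2.2.1 gen_facts.2.2.2.2.2

/-- The permutation of a word. -/
noncomputable def wordP : List Bool → Equiv.Perm GolayPt
  | [] => 1
  | b :: w => (if b then Y else X) * wordP w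

theorem wordL_spec : ∀ w, validL 24 (wordL w) = true ∧ pL (wordL w) = wordP w
  | [] => ⟨by rw [wordL]; decide, pL_range⟩
  | b :: w => by
    obtain ⟨h1, h2⟩ := wordL_spec w
    cases b
    · simp only [wordL, Bool.false_eq_true, if_false, wordP]
      exact ⟨validL_compL (valid_of_m24Test gen_facts.1) h1,
        by rw [pL_compL (valid_of_m24Test gen_facts.1) h1, h2]; rfl⟩
    · simp only [wordL, if_true, wordP]
      exact ⟨validL_compL (valid_of_m24Test gen_facts.2.1) h1,
        by rw [pL_compL (valid_of_m24Test gen_facts.2.1) h1, h2]; rfl⟩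

theorem wordP_mem (H : Subgroup (Equiv.Perm GolayPt)) (hX : X ∈ H) (hY : Y ∈ H) : ∀ w, wordP w ∈ H
  | [] => one_mem _
  | b :: w => by
    cases b
    · exact mul_mem hX (wordP_mem H hX hY w)
    · exact mul_mem hY (wordP_mem H hX hY w)

theorem card_ge_of_points {α : Type*} [Finite α] (H : Subgroup (Equiv.Perm α)) (p : α)
    (T : List (Equiv.Perm α)) (hT : ∀ t ∈ T, t ∈ H) (hnd : (T.map (· p)).Nodup) :
    T.length * Nat.card ↥(H ⊓ MulAction.stabilizer (Equiv.Perm α) p) ≤ Nat.card ↥H := by
  let f : Fin T.length × ↥(H ⊓ MulAction.stabilizer (Equiv.Perm α) p) → ↥H := fun x =>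
    ⟨T[x.1.val] * x.2.val, H.mul_mem (hT _ (List.getElem_mem _)) (Subgroup.mem_inf.1 x.2.2).1⟩
  have hf : Function.Injective f := by
    rintro ⟨i, a⟩ ⟨j, b⟩ h
    have h' : T[i.val] * a.val = T[j.val] * b.val := congrArg Subtype.val h
    have ha : a.val p = p := (Subgroup.mem_inf.1 a.2).2
    have hb : b.val p = p := (Subgroup.mem_inf.1 b.2).2
    have hp : (T.map (· p))[i.val]'(by simp) = (T.map (· p))[j.val]'(by simp) := by
      have := congrArg (fun g : Equiv.Perm α => g p) h'
      simpa [Equiv.Perm.mul_apply, ha, hb] using this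
    obtain rfl := Fin.ext ((hnd.getElem_inj_iff).1 hp)
    exact Prod.ext rfl (Subtype.ext (mul_left_cancel h'))
  have := Nat.card_le_card_of_injective f hf
  rwa [Nat.card_prod, Nat.card_fin] at this

theorem chain_card : ∀ (ls : List (ℕ × List (List Bool))) (fixed : List ℕ) (H : Subgroup (Equiv.Perm GolayPt)),
    levOk fixed ls = true →
    (∀ w, (∀ f ∈ fixed, (wordL w).getD f 0 = f) → wordP w ∈ H) →
    (ls.map fun l => l.2.length).prod ≤ Nat.card ↥H
  | [], _, H, _, _ => by
    show 1 ≤ Nat.card ↥H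
    exact Nat.card_pos
  | (b, ws) :: ls, fixed, H, hok, hH => by
    simp only [levOk, Bool.and_eq_true, decide_eq_true_eq, List.all_eq_true, beq_iff_eq] at hok
    obtain ⟨⟨⟨hb, hnd⟩, hfix⟩, hrec⟩ := hok
    have hpt : ∀ w, wordP w (pt b) = pt ((wordL w).getD b 0) := fun w => by
      rw [← (wordL_spec w).2, pL_pt (wordL_spec w).1 hb]
    have hrest := chain_card ls (b :: fixed) (H ⊓ MulAction.stabilizer (Equiv.Perm GolayPt) (pt b)) hrec
      fun w hw => Subgroup.mem_inf.2 ⟨hH w fun f hf => hw f (List.mem_cons_of_mem _ hf),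
        show wordP w (pt b) = pt b by rw [hpt, hw b (List.mem_cons_self ..)]⟩
    have h1 := card_ge_of_points H (pt b) (ws.map wordP) (fun t ht => by
      obtain ⟨w, hw, rfl⟩ := List.mem_map.1 ht
      exact hH w fun f hf => hfix w hw f hf) (by
      rw [List.map_map]
      refine List.Nodup.map_on (fun w hw w' hw' e => ?_) (List.Nodup.of_map _ hnd)
      simp only [Function.comp_apply, hpt] at e
      exact List.inj_on_of_nodup_map hnd hw hw' (pt_inj (validL_getD_lt (wordL_spec w).1 hb)
        (validL_getD_lt (wordL_spec w').1 hb) e))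
    rw [List.map_cons, List.prod_cons]
    rw [List.length_map] at h1
    exact le_trans (Nat.mul_le_mul_left _ hrest) h1

/-- The stabiliser of the octad and the point is generated by the two elements. -/
theorem closure_gens : Subgroup.closure {X, Y} = octPointStab oct (pt 5) := by
  refine Subgroup.eq_of_le_of_card_ge ((Subgroup.closure_le _).2 ?_) ?_
  · rintro _ (rfl | rfl)
    exacts [X_mem, Y_mem]
  · have h := lev_ok
    simp only [Bool.and_eq_true, decide_eq_true_eq] at h
    rw [card_octPointStab oct_mem pt5_notMem, ← h.2]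
    exact chain_card LEV [] _ h.1 fun w _ => wordP_mem _ (Subgroup.subset_closure (Set.mem_insert X {Y}))
      (Subgroup.subset_closure (Set.mem_insert_of_mem X (Set.mem_singleton Y))) w

theorem stab_induction (H : Subgroup (Equiv.Perm GolayPt)) (hX : X ∈ H) (hY : Y ∈ H)
    {g : Equiv.Perm GolayPt} (hg : g ∈ M24) (ho : g • oct = oct) (hp : g (pt 5) = pt 5) : g ∈ H := by
  have h : g ∈ octPointStab oct (pt 5) := ⟨⟨hg, ho⟩, hp⟩
  rw [← closure_gens] at h
  exact (Subgroup.closure_le _).2 (by rintro _ (rfl | rfl) <;> assumption) h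

end CfsgLib.JankoFour.TwoTen.Match
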