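import Cfsg.Agent.Lib.JankoFour.TwoTen.Octad

/-!
# The subgroup of the pairs inside an octad, its translates and the commutators with the octad group
-/

set_option autoImplicit false
set_option linter.unusedSectionVars false

namespace CfsgLib.JankoFour.TwoTen

open Cfsg CfsgLib.Golay CfsgLib.M24Cert
open scoped Pointwise symmDiff

variable {B : Type*} [CommGroup B] [Finite B] {f : GolayPt → B} {o : Finset GolayPt}

theorem zmod_two_cases : ∀ x : ZMod 2, x = 0 ∨ x = 1 := by decide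

theorem indW_symmDiff (s t : Finset GolayPt) : indW (s ∆ t) = indW s + indW t := by
  ext p
  by_cases hs : p ∈ s <;> by_cases ht : p ∈ t <;>
    simp [indW, Finset.mem_symmDiff, hs, ht, show ((1 : ZMod 2) + 1) = 0 from by decide]

theorem sum_filter_indW (s t : Finset GolayPt) : ∑ p ∈ t, indW s p = ((s ∩ t).card : ZMod 2) := by
  simp only [indW, Finset.sum_boole, Finset.filter_mem_eq_inter, Finset.inter_comm t s]

theorem indW_octad {o : Finset GolayPt} (ho : o ∈ octads) : indW o ∈ golayCode := by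
  obtain ⟨n, hn, -, rfl⟩ := mem_wordsOfWeight.1 ho
  exact mem_golayCode.2 ⟨n, hn, toWord_eq_indW n⟩

/-- Code words with small support. -/
theorem code_small {w : Word} (hw : w ∈ golayCode) {S : Finset GolayPt} (hS : S.card ≤ 11)
    (hsub : ∀ p, w p ≠ 0 → p ∈ S) : w = 0 ∨ ∃ o ∈ octads, w = indW o ∧ o ⊆ S := by
  have hsub' : support₂ w ⊆ S := fun p hp => hsub p (Finset.mem_filter.1 hp).2
  have h11 := (Finset.card_le_card hsub').trans hS
  rcases word_cases hw with h | rfl | ⟨o, ho, rfl⟩ | ⟨o, ho, rfl⟩ | ⟨o, ho, rfl⟩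
  · exact .inl h
  · rw [show support₂ (fun _ : GolayPt => (1 : ZMod 2)) = Finset.univ by simp [support₂], Finset.card_univ,
      Fintype.card_congr ptEquiv, Fintype.card_fin] at h11
    omega
  · rw [support_indW] at hsub'
    exact .inr ⟨o, ho, rfl, hsub'⟩
  · rw [show support₂ ((fun _ : GolayPt => (1 : ZMod 2)) + indW o) = oᶜ by
      ext p
      refine Finset.mem_filter.trans ?_
      rw [and_iff_right (Finset.mem_univ p), Finset.mem_compl]
      by_cases hp : p ∈ o <;> simp [indW, hp, show ((1 : ZMod 2) + 1) = 0 from by decide],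
      card_compl ho] at h11
    omega
  · rw [support_indW, ho.2] at h11
    omega

/-- The pair joining a point to its image. -/
def dd (f : GolayPt → B) (x : GolayPt) (u : ↥M24) : B := pr f x ((u : Equiv.Perm GolayPt) x)

variable (L : Lab f)
include L

/-- The group generated by the pairs inside the octad. -/
def P6 (o : Finset GolayPt) : Subgroup B where
  carrier := {x | ∃ t ⊆ o, 2 ∣ t.card ∧ ev f (indW t) = x}
  one_mem' := ⟨∅, Finset.empty_subset _, by simp, by rw [ev_indW, Finset.prod_empty]⟩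
  mul_mem' := by
    rintro _ _ ⟨s, hs, hs2, rfl⟩ ⟨t, ht, ht2, rfl⟩
    refine ⟨s ∆ t, fun p hp => ?_, ?_, by rw [indW_symmDiff, L.ev_add]⟩
    · rcases Finset.mem_symmDiff.1 hp with h | h
      exacts [hs h.1, ht h.1]
    · rw [← even_iff_card] at hs2 ht2 ⊢
      rw [indW_symmDiff]
      simp [Finset.sum_add_distrib, hs2, ht2]
  inv_mem' := fun h => by rwa [L.inv_eq]

/-- The elements meeting the octad evenly. -/
def V0 (o : Finset GolayPt) : Subgroup B where
  carrier := {x | ∃ w : Word, ∑ p, w p = 0 ∧ ∑ p ∈ o, w p = 0 ∧ ev f w = x}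
  one_mem' := ⟨0, by simp, by simp, by simp [ev]⟩
  mul_mem' := by
    rintro _ _ ⟨v, hv, hv', rfl⟩ ⟨w, hw, hw', rfl⟩
    exact ⟨v + w, by simp [Finset.sum_add_distrib, hv, hw], by simp [Finset.sum_add_distrib, hv', hw'], L.ev_add v w⟩
  inv_mem' := fun h => by rwa [L.inv_eq]

theorem mem_P6 {x : B} : x ∈ P6 L o ↔ ∃ t ⊆ o, 2 ∣ t.card ∧ ev f (indW t) = x := Iff.rfl

theorem ev_pair_indW {a b : GolayPt} (hab : a ≠ b) : ev f (indW {a, b}) = pr f a b := by
  rw [indW_pair hab, L.ev_pair]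

omit L in
theorem pr_comm (a b : GolayPt) : pr f a b = pr f b a := mul_comm _ _

theorem pr_self (a : GolayPt) : pr f a a = 1 := L.sq _

theorem pr_trans (a b c : GolayPt) : pr f a b * pr f b c = pr f a c := by
  rw [pr, pr, mul_assoc, ← mul_assoc (f b), L.sq, one_mul, pr]

theorem pr_mem_P6 {a b : GolayPt} (ha : a ∈ o) (hb : b ∈ o) : pr f a b ∈ P6 L o := by
  by_cases hab : a = b
  · rw [hab, pr_self L]
    exact one_mem _
  · refine ⟨{a, b}, by simp [Finset.insert_subset_iff, ha, hb], ?_, ev_pair_indW L hab⟩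
    rw [Finset.card_pair hab]

theorem mul_mem_P6_iff {x y : B} (hx : x ∈ P6 L o) : x * y ∈ P6 L o ↔ y ∈ P6 L o :=
  ⟨fun h => by simpa [← mul_assoc, L.sq] using mul_mem hx h, fun h => mul_mem hx h⟩

/-- A subgroup containing the pairs from a base point to a set contains the even sets inside it. -/
theorem ev_mem_of_supp (H : Subgroup B) {S : Finset GolayPt} {q : GolayPt} (hpr : ∀ a ∈ S, pr f a q ∈ H)
    {w : Word} (hw : ∑ p, w p = 0) (hsupp : ∀ p, w p ≠ 0 → p ∈ S) : ev f w ∈ H := by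
  classical
  have key : w = ∑ p, w p • ((Pi.single p 1 : Word) + Pi.single q 1) := by
    simp only [smul_add, Finset.sum_add_distrib, ← Finset.sum_smul, hw, zero_smul, add_zero]
    ext r; simp [Finset.sum_apply, Pi.single_apply]
  rw [key]
  suffices ∀ s : Finset GolayPt, ev f (∑ p ∈ s, w p • ((Pi.single p 1 : Word) + Pi.single q 1)) ∈ H from this _
  intro s
  induction s using Finset.induction with
  | empty => simpa [ev] using one_mem H
  | insert p s hp ih =>
    rw [Finset.sum_insert hp, L.ev_add]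
    refine mul_mem ?_ ih
    rcases zmod_two_cases (w p) with h | h
    · simpa [h, ev] using one_mem H
    · rw [h, one_smul, L.ev_pair]
      exact hpr p (hsupp p (by rw [h]; exact one_ne_zero))

theorem card_P6_le (ho : o ∈ octads) : Nat.card ↥(P6 L o) ≤ 64 := by
  classical
  obtain ⟨a, ha⟩ := Finset.card_pos.1 (show 0 < o.card by rw [ho.2]; norm_num)
  set T := ((o.erase a).powerset.filter fun t => 2 ∣ t.card) with hT
  have hTc : T.card ≤ 64 := by
    obtain ⟨a', ha'⟩ := Finset.card_pos.1 (show 0 < (o.erase a).card by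
      rw [Finset.card_erase_of_mem ha, ho.2]; norm_num)
    refine (Finset.card_le_card_of_injOn (fun t => t.erase a') (t := ((o.erase a).erase a').powerset) ?_ ?_).trans ?_
    · intro t ht
      rw [Finset.mem_coe, Finset.mem_powerset]
      exact Finset.erase_subset_erase _ (Finset.mem_powerset.1 (Finset.mem_filter.1 ht).1)
    · intro s hs t ht e
      simp only [hT, Finset.coe_filter, Set.mem_setOf_eq] at hs ht
      have e' : s.erase a' = t.erase a' := e
      by_cases h1 : a' ∈ s <;> by_cases h2 : a' ∈ t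
      · rw [← Finset.insert_erase h1, e', Finset.insert_erase h2]
      · have := congrArg Finset.card e'
        rw [Finset.card_erase_of_mem h1, Finset.erase_eq_of_notMem h2] at this
        have := Finset.card_pos.2 ⟨a', h1⟩
        omega
      · have := congrArg Finset.card e'
        rw [Finset.card_erase_of_mem h2, Finset.erase_eq_of_notMem h1] at this
        have := Finset.card_pos.2 ⟨a', h2⟩
        omega
      · rwa [Finset.erase_eq_of_notMem h1, Finset.erase_eq_of_notMem h2] at e'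
    · rw [Finset.card_powerset, Finset.card_erase_of_mem ha', Finset.card_erase_of_mem ha, ho.2]
      norm_num
  have hsub : (P6 L o : Set B) ⊆ ((fun t => ev f (indW t)) '' (T : Set (Finset GolayPt))) := by
    rintro _ ⟨t, ht, ht2, rfl⟩
    by_cases hat : a ∈ t
    · refine ⟨o \ t, ?_, ?_⟩
      · rw [Finset.mem_coe, hT, Finset.mem_filter, Finset.mem_powerset, Finset.card_sdiff_of_subset ht, ho.2]
        refine ⟨fun p hp => Finset.mem_erase.2 ⟨fun e => (Finset.mem_sdiff.1 hp).2 (e ▸ hat),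
          (Finset.mem_sdiff.1 hp).1⟩, ?_⟩
        have := Finset.card_le_card ht
        rw [ho.2] at this
        omega
      · show ev f (indW (o \ t)) = ev f (indW t)
        rw [show o \ t = o ∆ t from (symmDiff_of_ge ht).symm, indW_symmDiff, L.ev_add,
          L.code _ (indW_octad ho), one_mul]
    · exact ⟨t, by
        rw [Finset.mem_coe, hT, Finset.mem_filter, Finset.mem_powerset]
        exact ⟨Finset.subset_erase.2 ⟨ht, hat⟩, ht2⟩, rfl⟩
  rw [← SetLike.coe_sort_coe, Nat.card_coe_set_eq]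
  refine ((Set.ncard_le_ncard hsub (Set.toFinite _)).trans (Set.ncard_image_le (Set.toFinite _))).trans ?_
  rw [Set.ncard_coe_finset]
  exact hTc

/-- The element of a pair of points outside is not in the group of the octad. -/
theorem pr_out_notMem (ho : o ∈ octads) {b c : GolayPt} (hb : b ∉ o) (hbc : b ≠ c) : pr f b c ∉ P6 L o := by
  rintro ⟨t, ht, ht2, e⟩
  rw [← ev_pair_indW L hbc, L.ev_eq_iff (even_iff_card.2 ht2) (by rw [indW_pair hbc]; exact sum_single_pair b c)] at e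
  rcases code_small e (S := o ∪ {b, c}) ((Finset.card_union_le _ _).trans (by rw [ho.2, Finset.card_pair hbc]; norm_num))
    (fun p hp => by
      by_contra hn
      rw [Finset.mem_union, not_or] at hn
      exact hp (by simp only [Pi.add_apply, indW, if_neg fun h => hn.1 (ht h), if_neg hn.2, add_zero]))
    with h | ⟨o', ho', h, hsub⟩
  · have := congrFun h b
    simp [indW, if_neg (show b ∉ t from fun h => hb (ht h))] at this
  · have heq : o' = o := by
      refine octad_unique ho' ho ?_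
      have h1 := Finset.card_sdiff_add_card_inter o' o
      have h2 : (o' \ o).card ≤ 2 := by
        refine le_trans (Finset.card_le_card fun p hp => ?_) (Finset.card_pair hbc).le
        obtain ⟨hp, hp'⟩ := Finset.mem_sdiff.1 hp
        exact (Finset.mem_union.1 (hsub hp)).resolve_left hp'
      rw [ho'.2] at h1
      omega
    have := congrFun h b
    simp [indW, if_neg (show b ∉ t from fun h => hb (ht h)), heq, if_neg hb] at this

theorem pr_mem_P6_iff (ho : o ∈ octads) {a b : GolayPt} (hab : a ≠ b) :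
    pr f a b ∈ P6 L o ↔ a ∈ o ∧ b ∈ o := by
  refine ⟨fun h => ⟨by_contra fun ha => pr_out_notMem L ho ha hab h, by_contra fun hb => ?_⟩,
    fun h => pr_mem_P6 L h.1 h.2⟩
  exact pr_out_notMem L ho hb hab.symm (by rwa [pr_comm])

theorem mem_V0_iff (ho : o ∈ octads) {w : Word} (hw : ∑ p, w p = 0) : ev f w ∈ V0 L o ↔ ∑ p ∈ o, w p = 0 := by
  refine ⟨fun ⟨v, hv, hv', e⟩ => ?_, fun h => ⟨w, hw, h, rfl⟩⟩
  have hc := (L.ev_eq_iff hv hw).1 e
  have h := code_self_orth hc (indW_octad ho)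
  simp only [dotW, indW, mul_ite, mul_one, mul_zero, Pi.add_apply] at h
  rw [Finset.sum_ite_mem, Finset.univ_inter, Finset.sum_add_distrib, hv', zero_add] at h
  exact h

theorem pr_mem_V0_iff (ho : o ∈ octads) {a b : GolayPt} : pr f a b ∈ V0 L o ↔ (a ∈ o ↔ b ∈ o) := by
  rw [← L.ev_pair, mem_V0_iff L ho (sum_single_pair a b)]
  simp only [Pi.add_apply, Finset.sum_add_distrib, Finset.sum_pi_single']
  by_cases ha : a ∈ o <;> by_cases hb : b ∈ o <;> simp [ha, hb, show ((1 : ZMod 2) + 1) = 0 from by decide]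

theorem P6_le_V0 : P6 L o ≤ V0 L o := by
  rintro _ ⟨t, ht, ht2, rfl⟩
  refine ⟨indW t, even_iff_card.2 ht2, ?_, rfl⟩
  rw [sum_filter_indW, Finset.inter_eq_left.2 ht]
  exact (ZMod.natCast_eq_zero_iff_even.trans even_iff_two_dvd).2 ht2

theorem mul_mem_V0_of_notMem (ho : o ∈ octads) {x y : B} (hx : x ∉ V0 L o) (hy : y ∉ V0 L o) :
    x * y ∈ V0 L o := by
  obtain ⟨v, hv, rfl⟩ := L.cover x
  obtain ⟨w, hw, rfl⟩ := L.cover y
  rw [mem_V0_iff L ho hv] at hx
  rw [mem_V0_iff L ho hw] at hy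
  rw [← L.ev_add, mem_V0_iff L ho (by simp [Finset.sum_add_distrib, hv, hw])]
  simp only [Pi.add_apply, Finset.sum_add_distrib, (zmod_two_cases _).resolve_left hx,
    (zmod_two_cases _).resolve_left hy]
  decide

theorem act_P6 {g : ↥M24} (hg : g ∈ St o) {x : B} (hx : x ∈ P6 L o) : L.act g x ∈ P6 L o := by
  obtain ⟨t, ht, ht2, rfl⟩ := hx
  refine ⟨(g : Equiv.Perm GolayPt) • t, fun p hp => ?_, by rwa [Finset.card_smul_finset], ?_⟩
  · obtain ⟨q, hq, rfl⟩ := Finset.mem_smul_finset.1 hp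
    exact (St_apply hg q).2 (ht hq)
  · rw [L.act_ev g (even_iff_card.2 ht2), actW_indW]

theorem act_V0 {g : ↥M24} (hg : g ∈ St o) {x : B} (hx : x ∈ V0 L o) : L.act g x ∈ V0 L o := by
  obtain ⟨w, hw, hw', rfl⟩ := hx
  refine ⟨actW (g : Equiv.Perm GolayPt) w, (sum_actW _ _).trans hw, ?_, (L.act_ev g hw).symm⟩
  rw [← hw']
  refine (Finset.sum_equiv (g : Equiv.Perm GolayPt) (fun p => (St_apply hg p).symm) fun p _ => ?_).symm
  simp [actW]

theorem Wo_act_P6 {u : ↥M24} (hu : u ∈ Wo o) {x : B} (hx : x ∈ P6 L o) : L.act u x = x := by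
  obtain ⟨t, ht, ht2, rfl⟩ := hx
  rw [L.act_ev u (even_iff_card.2 ht2), actW_indW]
  congr 2
  refine Finset.eq_of_subset_of_card_le (fun p hp => ?_) (by rw [Finset.card_smul_finset])
  obtain ⟨q, hq, rfl⟩ := Finset.mem_smul_finset.1 hp
  rwa [Equiv.Perm.smul_def, mem_Wo.1 hu q (ht hq)]

/-- The commutator with an element. -/
noncomputable def cm (u : ↥M24) (x : B) : B := L.act u x * x

theorem cm_mul (u : ↥M24) (x y : B) : cm L u (x * y) = cm L u x * cm L u y := by
  rw [cm, cm, cm, map_mul, mul_mul_mul_comm]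

theorem cm_of_mem {u : ↥M24} (hu : u ∈ Wo o) {x : B} (hx : x ∈ P6 L o) : cm L u x = 1 := by
  rw [cm, Wo_act_P6 L hu hx, L.sq]

theorem cm_eq_one_iff (u : ↥M24) (x : B) : cm L u x = 1 ↔ L.act u x = x := by
  rw [cm]
  exact ⟨fun h => by rw [mul_eq_one_iff_eq_inv.1 h, L.inv_eq], fun h => by rw [h, L.sq]⟩

theorem cm_pr (u : ↥M24) (a b : GolayPt) :
    cm L u (pr f a b) = pr f a ((u : Equiv.Perm GolayPt) a) * pr f b ((u : Equiv.Perm GolayPt) b) := by
  rw [cm, L.act_pr]
  simp only [pr]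
  rw [mul_mul_mul_comm, mul_comm (f _) (f a), mul_comm (f ((u : Equiv.Perm GolayPt) b)) (f b)]

theorem dd_one (x : GolayPt) : dd f x 1 = 1 := pr_self L x

theorem dd_mul (x : GolayPt) (u v : ↥M24) : dd f x (u * v) = dd f x u * L.act u (dd f x v) := by
  rw [dd, dd, dd, L.act_pr, pr_trans L]
  rfl

variable (ho : o ∈ octads) {x₀ : GolayPt} (hx₀ : x₀ ∉ o)
include ho hx₀

theorem dd_mem_V0 {u : ↥M24} (hu : u ∈ Wo o) : dd f x₀ u ∈ V0 L o :=
  (pr_mem_V0_iff L ho).2 (iff_of_false hx₀ fun h => hx₀ ((Wo_out ho hu).1 h))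

theorem dd_notMem {u : ↥M24} (hu : u ∈ Wo o) (h1 : u ≠ 1) : dd f x₀ u ∉ P6 L o :=
  pr_out_notMem L ho hx₀ fun e => hx₀ ((Wo_fix_iff ho hu h1 x₀).1 e.symm)

theorem cm_dd_self {u : ↥M24} (hu : u ∈ Wo o) : cm L u (dd f x₀ u) = 1 := by
  rw [cm_eq_one_iff, dd, L.act_pr]
  have e : (u : Equiv.Perm GolayPt) ((u : Equiv.Perm GolayPt) x₀) = x₀ :=
    congrArg (fun g : ↥M24 => (g : Equiv.Perm GolayPt) x₀) (Wo_sq ho hu)
  rw [e, pr_comm]

/-- The commutator of two distinct members is the value of a tetrad, which is congruent to a tetrad of the octad. -/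
theorem cm_dd_tetrad {u v : ↥M24} (hu : u ∈ Wo o) (hv : v ∈ Wo o) (hu1 : u ≠ 1) (hv1 : v ≠ 1) (huv : u ≠ v) :
    cm L u (dd f x₀ v) ≠ 1 ∧ ∃ t ⊆ o, t.card = 4 ∧ ev f (indW t) = cm L u (dd f x₀ v) := by
  classical
  set a := (u : Equiv.Perm GolayPt) x₀ with ha
  set b := (v : Equiv.Perm GolayPt) x₀ with hb
  set c := (u : Equiv.Perm GolayPt) b with hc
  have huu : ∀ {w : ↥M24}, w ∈ Wo o → ∀ p, (w : Equiv.Perm GolayPt) ((w : Equiv.Perm GolayPt) p) = p := fun hw p =>
    congrArg (fun g : ↥M24 => (g : Equiv.Perm GolayPt) p) (Wo_sq ho hw)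
  have hmove : ∀ {w : ↥M24}, w ∈ Wo o → w ≠ 1 → ∀ {p}, p ∉ o → (w : Equiv.Perm GolayPt) p ≠ p :=
    fun hw h1 => @fun p hp e => hp ((Wo_fix_iff ho hw h1 p).1 e)
  have hao : a ∉ o := fun h => hx₀ ((Wo_out ho hu).1 h)
  have hbo : b ∉ o := fun h => hx₀ ((Wo_out ho hv).1 h)
  have hco : c ∉ o := fun h => hbo ((Wo_out ho hu).1 h)
  have h01 : x₀ ≠ a := (hmove hu hu1 hx₀).symm
  have h02 : x₀ ≠ b := (hmove hv hv1 hx₀).symm
  have h12 : a ≠ b := fun e => huv (Wo_inj ho hx₀ hu hv e)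
  have h23 : b ≠ c := (hmove hu hu1 hbo).symm
  have h03 : x₀ ≠ c := fun e => h12 (by rw [ha, e, hc, huu hu])
  have h13 : a ≠ c := fun e => h02 ((u : Equiv.Perm GolayPt).injective e)
  set T : Finset GolayPt := {x₀, a, b, c} with hTdef
  have hT4 : T.card = 4 := by simp [hTdef, h01, h02, h03, h12, h13, h23]
  have hval : ev f (indW T) = cm L u (dd f x₀ v) := by
    rw [dd, cm_pr, ev_indW, hTdef, Finset.prod_insert (by simp [h01, h02, h03]),
      Finset.prod_insert (by simp [h12, h13]), Finset.prod_pair h23, pr, pr, mul_assoc]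
  have hTu : ∀ {p}, p ∈ T → (u : Equiv.Perm GolayPt) p ∈ T := by
    intro p hp
    simp only [hTdef, Finset.mem_insert, Finset.mem_singleton] at hp
    rcases hp with e | e | e | e <;> rw [e] <;>
      simp [hTdef, ← ha, ← hc, show (u : Equiv.Perm GolayPt) a = x₀ from huu hu x₀,
        show (u : Equiv.Perm GolayPt) c = b from huu hu b]
  have hva : (v : Equiv.Perm GolayPt) a = c := by
    rw [ha, hc, hb]
    exact congrArg (fun g : ↥M24 => (g : Equiv.Perm GolayPt) x₀) (Wo_comm ho hv hu)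
  have hTv : ∀ {p}, p ∈ T → (v : Equiv.Perm GolayPt) p ∈ T := by
    intro p hp
    simp only [hTdef, Finset.mem_insert, Finset.mem_singleton] at hp
    rcases hp with e | e | e | e <;> rw [e]
    · simp [hTdef, ← hb]
    · simp [hTdef, hva]
    · simp [hTdef, show (v : Equiv.Perm GolayPt) b = x₀ from huu hv x₀]
    · simp [hTdef, show (v : Equiv.Perm GolayPt) c = a from by rw [← hva, huu hv]]
  have hTo : ∀ p ∈ T, p ∉ o := by
    intro p hp
    simp only [hTdef, Finset.mem_insert, Finset.mem_singleton] at hp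
    rcases hp with e | e | e | e <;> rw [e]
    exacts [hx₀, hao, hbo, hco]
  refine ⟨fun e => ?_, ?_⟩
  · rw [← hval, L.ev_eq_one_iff (even_iff_card.2 (by rw [hT4]; norm_num))] at e
    rcases code_small e (S := T) (by omega) (fun p hp => by simpa [indW] using hp) with h | ⟨o', ho', -, hsub⟩
    · have := congrFun h x₀
      simp [indW, hTdef] at this
    · have := Finset.card_le_card hsub
      rw [ho'.2] at this
      omega
  obtain ⟨q, hq⟩ := Finset.card_pos.1 (show 0 < o.card by rw [ho.2]; norm_num)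
  obtain ⟨g, hg, hgs⟩ := exists_octad_map (insert q T) (by
    rw [Finset.card_insert_of_notMem fun h => hTo q h hq, hT4])
  set O' := g • toSet baseOctad with hO'
  have hO : O' ∈ octads := octads_smul hg baseOctad_mem
  have hTO : T ⊆ O' := (Finset.subset_insert q T).trans hgs
  have hqO : q ∈ O' := hgs (Finset.mem_insert_self q T)
  have hinv : ∀ {w : ↥M24}, w ∈ Wo o → (∀ {p}, p ∈ T → (w : Equiv.Perm GolayPt) p ∈ T) →
      (w : Equiv.Perm GolayPt) • O' = O' := by
    intro w hw hwT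
    refine octad_unique (octads_smul w.2 hO) hO ?_
    refine le_trans ?_ (Finset.card_le_card (fun p hp => ?_ : insert q T ⊆ _))
    · rw [Finset.card_insert_of_notMem fun h => hTo q h hq, hT4]
    rw [Finset.mem_inter]
    refine ⟨?_, hgs hp⟩
    rw [Finset.mem_insert] at hp
    rw [Finset.mem_smul_finset]
    rcases hp with rfl | hp
    · exact ⟨p, hqO, mem_Wo.1 hw p hq⟩
    · exact ⟨_, hTO (hwT hp), huu hw p⟩
  set T' := O' \ T with hT'def
  have hT'4 : T'.card = 4 := by rw [hT'def, Finset.card_sdiff_of_subset hTO, hO.2, hT4]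
  have hval' : ev f (indW T') = ev f (indW T) := by
    rw [hT'def, show O' \ T = O' ∆ T from (symmDiff_of_ge hTO).symm, indW_symmDiff, L.ev_add,
      L.code _ (indW_octad hO), one_mul]
  refine ⟨T', ?_, hT'4, hval'.trans hval⟩
  intro p hp
  by_contra hpo
  -- the members of `T'` outside the octad are moved inside themselves and their number is two
  have hrest : ∀ {w : ↥M24}, w ∈ Wo o → (∀ {p}, p ∈ T → (w : Equiv.Perm GolayPt) p ∈ T) →
      ∀ {r}, r ∈ T' → r ∉ o → (w : Equiv.Perm GolayPt) r ∈ T' ∧ (w : Equiv.Perm GolayPt) r ∉ o := by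
    intro w hw hwT r hr hro
    obtain ⟨h1, h2⟩ := Finset.mem_sdiff.1 hr
    refine ⟨Finset.mem_sdiff.2 ⟨?_, fun h => h2 ?_⟩, fun h => hro ((Wo_out ho hw).1 h)⟩
    · rw [← hinv hw hwT]
      exact Finset.smul_mem_smul_finset h1
    · rw [← huu hw r]
      exact hwT h
  have hcap : 2 ≤ (T' ∩ o).card := by
    have hsplit : O' ∩ o = T' ∩ o := by
      ext r
      simp only [hT'def, Finset.mem_inter, Finset.mem_sdiff]
      exact ⟨fun h => ⟨⟨h.1, fun h' => hTo r h' h.2⟩, h.2⟩, fun h => ⟨h.1.1, h.2⟩⟩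
    have hdot := code_self_orth (indW_octad hO) (indW_octad ho)
    simp only [dotW, indW, mul_ite, mul_one, mul_zero] at hdot
    rw [Finset.sum_ite_mem, Finset.univ_inter] at hdot
    rw [show (∑ r ∈ o, if r ∈ O' then (1 : ZMod 2) else 0) = ((O' ∩ o).card : ZMod 2) from sum_filter_indW O' o,
      hsplit, ZMod.natCast_eq_zero_iff_even] at hdot
    have hpos : 0 < (T' ∩ o).card := Finset.card_pos.2 ⟨q, Finset.mem_inter.2
      ⟨Finset.mem_sdiff.2 ⟨hqO, fun h => hTo q h hq⟩, hq⟩⟩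
    obtain ⟨k, hk⟩ := hdot
    omega
  have hout : (T' \ o).card ≤ 2 := by
    have := Finset.card_sdiff_add_card_inter T' o
    omega
  obtain ⟨hu', -⟩ := hrest hu hTu hp hpo
  obtain ⟨hv', -⟩ := hrest hv hTv hp hpo
  refine huv (Wo_inj ho hpo hu hv (by_contra fun hne => ?_))
  have hsub : ({p, (u : Equiv.Perm GolayPt) p, (v : Equiv.Perm GolayPt) p} : Finset GolayPt) ⊆ T' \ o := by
    intro r hr
    simp only [Finset.mem_insert, Finset.mem_singleton] at hr
    rcases hr with rfl | rfl | rfl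
    · exact Finset.mem_sdiff.2 ⟨hp, hpo⟩
    · exact Finset.mem_sdiff.2 ⟨hu', fun h => hpo ((Wo_out ho hu).1 h)⟩
    · exact Finset.mem_sdiff.2 ⟨hv', fun h => hpo ((Wo_out ho hv).1 h)⟩
  have h3 : ({p, (u : Equiv.Perm GolayPt) p, (v : Equiv.Perm GolayPt) p} : Finset GolayPt).card = 3 := by
    simp [(hmove hu hu1 hpo).symm, (hmove hv hv1 hpo).symm, hne]
  have := Finset.card_le_card hsub
  omega

theorem cm_dd_mem {u v : ↥M24} (hu : u ∈ Wo o) (hv : v ∈ Wo o) : cm L u (dd f x₀ v) ∈ P6 L o := by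
  by_cases hu1 : u = 1
  · rw [hu1, cm, map_one, MulAut.one_apply, L.sq]
    exact one_mem _
  by_cases hv1 : v = 1
  · rw [hv1, dd_one L, cm, map_one, mul_one]
    exact one_mem _
  by_cases huv : u = v
  · rw [← huv, cm_dd_self L ho hx₀ hu]
    exact one_mem _
  obtain ⟨-, t, ht, h4, e⟩ := cm_dd_tetrad L ho hx₀ hu hv hu1 hv1 huv
  exact e ▸ ⟨t, ht, by rw [h4]; norm_num, rfl⟩

theorem dd_mul_mod {u v : ↥M24} (hu : u ∈ Wo o) (hv : v ∈ Wo o) :
    dd f x₀ (u * v) = dd f x₀ u * dd f x₀ v * cm L u (dd f x₀ v) := by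
  rw [dd_mul L, cm]
  calc dd f x₀ u * L.act u (dd f x₀ v) = dd f x₀ u * L.act u (dd f x₀ v) * (dd f x₀ v * dd f x₀ v) := by
        rw [L.sq, mul_one]
    _ = _ := mul_mul_mul_comm _ _ _ _

theorem cm_dd_comm {u v : ↥M24} (hu : u ∈ Wo o) (hv : v ∈ Wo o) : cm L u (dd f x₀ v) = cm L v (dd f x₀ u) := by
  have h1 := dd_mul_mod L ho hx₀ hu hv
  rw [Wo_comm ho hu hv, dd_mul_mod L ho hx₀ hv hu, mul_comm (dd f x₀ v)] at h1
  exact (mul_left_cancel h1).symm

/-- Every element meeting the octad evenly is a translate of a pair. -/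
theorem V0_eq {x : B} (hx : x ∈ V0 L o) : ∃ u ∈ Wo o, x * dd f x₀ u ∈ P6 L o := by
  classical
  let H : Subgroup B :=
    { carrier := {y | ∃ u ∈ Wo o, y * dd f x₀ u ∈ P6 L o}
      one_mem' := ⟨1, one_mem _, by rw [dd_one L, mul_one]; exact one_mem _⟩
      mul_mem' := by
        rintro y y' ⟨u, hu, hy⟩ ⟨v, hv, hy'⟩
        refine ⟨u * v, mul_mem hu hv, ?_⟩
        rw [dd_mul_mod L ho hx₀ hu hv, ← mul_assoc, mul_mul_mul_comm]
        exact mul_mem (mul_mem hy hy') (cm_dd_mem L ho hx₀ hu hv)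
      inv_mem' := fun h => by rwa [L.inv_eq] }
  obtain ⟨w, hw, hw', rfl⟩ := hx
  obtain ⟨q, hq⟩ := Finset.card_pos.1 (show 0 < o.card by rw [ho.2]; norm_num)
  set win : Word := fun p => if p ∈ o then w p else 0
  set wout : Word := fun p => if p ∈ o then 0 else w p
  have hsplit : w = win + wout := by ext p; by_cases hp : p ∈ o <;> simp [win, wout, hp]
  have hin : ∑ p, win p = 0 := by simp only [win]; rw [Finset.sum_ite_mem, Finset.univ_inter, hw']
  have hout : ∑ p, wout p = 0 := by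
    have : ∑ p, w p = ∑ p, win p + ∑ p, wout p := by
      rw [← Finset.sum_add_distrib]; exact Finset.sum_congr rfl fun p _ => congrFun hsplit p
    rwa [hw, hin, zero_add, eq_comm] at this
  rw [hsplit, L.ev_add]
  refine H.mul_mem ?_ ?_
  · refine ⟨1, one_mem _, ?_⟩
    rw [dd_one L, mul_one]
    exact ev_mem_of_supp L (P6 L o) (S := o) (q := q) (fun a ha => pr_mem_P6 L ha hq) hin
      fun p hp => by_contra fun h => hp (if_neg h)
  · refine ev_mem_of_supp L H (S := oᶜ) (q := x₀) (fun a ha => ?_) hout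
      fun p hp => Finset.mem_compl.2 fun h => hp (if_pos h)
    obtain ⟨u, hu, hua⟩ := Wo_trans ho hx₀ (Finset.mem_compl.1 ha)
    refine ⟨u, hu, ?_⟩
    rw [dd, hua, pr_comm, L.sq]
    exact one_mem _

theorem cm_V0 {u : ↥M24} (hu : u ∈ Wo o) {x : B} (hx : x ∈ V0 L o) : cm L u x ∈ P6 L o := by
  obtain ⟨v, hv, hy⟩ := V0_eq L ho hx₀ hx
  have e : cm L u x = cm L u (dd f x₀ v) := by
    rw [← one_mul (cm L u (dd f x₀ v)), ← cm_of_mem L hu hy, cm_mul, mul_assoc, L.sq, mul_one]
  rw [e]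
  exact cm_dd_mem L ho hx₀ hu hv

theorem cm_notMem {u : ↥M24} (hu : u ∈ Wo o) (h1 : u ≠ 1) {x : B} (hx : x ∉ V0 L o) : cm L u x ∉ P6 L o := by
  obtain ⟨q, hq⟩ := Finset.card_pos.1 (show 0 < o.card by rw [ho.2]; norm_num)
  have hz : pr f q x₀ ∉ V0 L o := fun h => hx₀ (((pr_mem_V0_iff L ho).1 h).1 hq)
  have hxz := mul_mem_V0_of_notMem L ho hx hz
  intro h
  have h2 : cm L u (pr f q x₀) ∈ P6 L o := by
    have := cm_V0 L ho hx₀ hu hxz
    rwa [cm_mul, mul_mem_P6_iff L h] at this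
  rw [cm_pr, mem_Wo.1 hu q hq, pr_self L, one_mul] at h2
  exact dd_notMem L ho hx₀ hu h1 h2

theorem fixed_iff {u : ↥M24} (hu : u ∈ Wo o) (h1 : u ≠ 1) (x : B) :
    L.act u x = x ↔ x ∈ P6 L o ∨ x * dd f x₀ u ∈ P6 L o := by
  rw [← cm_eq_one_iff]
  constructor
  · intro h
    have hxV : x ∈ V0 L o := by_contra fun hn => cm_notMem L ho hx₀ hu h1 hn (h ▸ one_mem _)
    obtain ⟨v, hv, hy⟩ := V0_eq L ho hx₀ hxV
    by_cases hv1 : v = 1
    · exact .inl (by rwa [hv1, dd_one L, mul_one] at hy)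
    by_cases huv : u = v
    · exact .inr (huv ▸ hy)
    refine absurd ?_ (cm_dd_tetrad L ho hx₀ hu hv h1 hv1 huv).1
    have := cm_of_mem L hu hy
    rwa [cm_mul, h, one_mul] at this
  · rintro (h | h)
    · exact cm_of_mem L hu h
    · have := cm_of_mem L hu h
      rwa [cm_mul, cm_dd_self L ho hx₀ hu, mul_one] at this

theorem fixed_two {u v : ↥M24} (hu : u ∈ Wo o) (hv : v ∈ Wo o) (hu1 : u ≠ 1) (hv1 : v ≠ 1) (huv : u ≠ v) {x : B}
    (hxu : L.act u x = x) (hxv : L.act v x = x) : x ∈ P6 L o := by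
  rcases (fixed_iff L ho hx₀ hu hu1 x).1 hxu with h | h
  · exact h
  · rcases (fixed_iff L ho hx₀ hv hv1 x).1 hxv with h' | h'
    · exact h'
    · exfalso
      have h3 := mul_mem h h'
      rw [mul_mul_mul_comm, L.sq, one_mul] at h3
      have huv' : u * v ≠ 1 := fun e => huv (by rw [mul_eq_one_iff_eq_inv.1 e, Wo_inv ho hv])
      refine dd_notMem L ho hx₀ (mul_mem hu hv) huv' ?_
      rw [dd_mul_mod L ho hx₀ hu hv]
      exact mul_mem h3 (cm_dd_mem L ho hx₀ hu hv)

theorem cm_mul_left {u v : ↥M24} (hu : u ∈ Wo o) (hv : v ∈ Wo o) {x : B} (hx : x ∈ V0 L o) :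
    cm L (u * v) x = cm L u x * cm L v x := by
  have h := cm_of_mem L hu (cm_V0 L ho hx₀ hv hx)
  rw [cm_eq_one_iff] at h
  calc cm L (u * v) x = L.act u (L.act v x * x) * (L.act u x * x) := by
        rw [cm, map_mul, MulAut.mul_apply, map_mul, mul_assoc, ← mul_assoc (L.act u x), L.sq, one_mul]
    _ = _ := by rw [show L.act v x * x = cm L v x from rfl, h, mul_comm]; rfl

end CfsgLib.JankoFour.TwoTen
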