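import Cfsg.Agent.Lib.JankoFour.TwoTen.Lab
import Cfsg.Agent.Lib.M24Cert.OctadAction
import Cfsg.Agent.Lib.M24Cert.ClassFacts
import Mathlib.GroupTheory.Perm.Cycle.Type

/-!
# The pointwise and setwise stabilisers of an octad inside the Mathieu group
-/

set_option autoImplicit false
set_option linter.unusedSectionVars false

namespace CfsgLib.JankoFour.TwoTen

open Cfsg CfsgLib.Golay CfsgLib.M24Cert
open scoped Pointwise

/-- The pointwise stabiliser of an octad. -/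
def Wo (o : Finset GolayPt) : Subgroup ↥M24 :=
  (fixingSubgroup (Equiv.Perm GolayPt) (o : Set GolayPt)).subgroupOf M24

/-- The stabiliser of an octad. -/
def St (o : Finset GolayPt) : Subgroup ↥M24 := (MulAction.stabilizer (Equiv.Perm GolayPt) o).subgroupOf M24

/-- The stabiliser of an octad and a point. -/
def Sp (o : Finset GolayPt) (x : GolayPt) : Subgroup ↥M24 :=
  St o ⊓ (MulAction.stabilizer (Equiv.Perm GolayPt) x).subgroupOf M24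

theorem mem_Wo {o : Finset GolayPt} {u : ↥M24} : u ∈ Wo o ↔ ∀ p ∈ o, (u : Equiv.Perm GolayPt) p = p := by
  simp [Wo, Subgroup.mem_subgroupOf, mem_fixingSubgroup_iff, Equiv.Perm.smul_def]

theorem mem_St {o : Finset GolayPt} {g : ↥M24} : g ∈ St o ↔ (g : Equiv.Perm GolayPt) ∈ octStab o :=
  ⟨fun h => mem_octStab.2 ⟨g.2, h⟩, fun h => (mem_octStab.1 h).2⟩

theorem St_apply {o : Finset GolayPt} {g : ↥M24} (hg : g ∈ St o) (p : GolayPt) :
    (g : Equiv.Perm GolayPt) p ∈ o ↔ p ∈ o := octStab_apply (mem_St.1 hg) p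

theorem mem_Sp {o : Finset GolayPt} {x : GolayPt} {g : ↥M24} :
    g ∈ Sp o x ↔ g ∈ St o ∧ (g : Equiv.Perm GolayPt) x = x := Iff.rfl

variable {o : Finset GolayPt}

theorem Wo_le_St : Wo o ≤ St o := fun u hu => by
  show (u : Equiv.Perm GolayPt) • o = o
  refine Finset.eq_of_subset_of_card_le (fun y hy => ?_) (by rw [Finset.card_smul_finset])
  obtain ⟨x, hx, rfl⟩ := Finset.mem_smul_finset.1 hy
  rwa [Equiv.Perm.smul_def, mem_Wo.1 hu x hx]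

theorem Wo_conj {g u : ↥M24} (hg : g ∈ St o) (hu : u ∈ Wo o) : g * u * g⁻¹ ∈ Wo o := mem_Wo.2 fun p hp => by
  have h1 : (g : Equiv.Perm GolayPt).symm p ∈ o := by
    rwa [← St_apply hg, Equiv.apply_symm_apply]
  show (g : Equiv.Perm GolayPt) ((u : Equiv.Perm GolayPt) ((g : Equiv.Perm GolayPt).symm p)) = p
  rw [mem_Wo.1 hu _ h1, Equiv.apply_symm_apply]

variable (ho : o ∈ octads)
include ho

theorem card_Wo : Nat.card ↥(Wo o) = 16 := by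
  rw [← (octad_pointwise ho).1]
  exact Nat.card_congr ⟨fun u => ⟨u.1.1, u.1.2, u.2⟩, fun g => ⟨⟨g.1, g.2.1⟩, g.2.2⟩, fun _ => rfl, fun _ => rfl⟩

theorem Wo_sq {u : ↥M24} (hu : u ∈ Wo o) : u * u = 1 :=
  Subtype.ext ((octad_pointwise ho).2 _ ⟨u.2, hu⟩)

theorem Wo_inv {u : ↥M24} (hu : u ∈ Wo o) : u⁻¹ = u := inv_eq_of_mul_eq_one_right (Wo_sq ho hu)

theorem Wo_comm {u v : ↥M24} (hu : u ∈ Wo o) (hv : v ∈ Wo o) : u * v = v * u := by
  have h := Wo_inv ho (mul_mem hu hv)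
  rw [mul_inv_rev, Wo_inv ho hu, Wo_inv ho hv] at h
  exact h.symm

theorem Wo_inj {x : GolayPt} (hx : x ∉ o) {u v : ↥M24} (hu : u ∈ Wo o) (hv : v ∈ Wo o)
    (e : (u : Equiv.Perm GolayPt) x = (v : Equiv.Perm GolayPt) x) : u = v := by
  have h : v⁻¹ * u = 1 := Subtype.ext (octPointStab_fix ho hx (v⁻¹ * u).2
    (mem_Wo.1 (mul_mem (inv_mem hv) hu)) (by
      show ((v : Equiv.Perm GolayPt)⁻¹ * (u : Equiv.Perm GolayPt)) x = x
      rw [Equiv.Perm.mul_apply, e]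
      exact (v : Equiv.Perm GolayPt).symm_apply_apply x))
  exact (inv_mul_eq_one.1 h).symm

theorem Wo_fix_iff {u : ↥M24} (hu : u ∈ Wo o) (h1 : u ≠ 1) (p : GolayPt) :
    (u : Equiv.Perm GolayPt) p = p ↔ p ∈ o :=
  ⟨fun h => by_contra fun hp => h1 (Wo_inj ho hp hu (one_mem _) h), mem_Wo.1 hu p⟩

theorem Wo_out {u : ↥M24} (hu : u ∈ Wo o) {p : GolayPt} : (u : Equiv.Perm GolayPt) p ∈ o ↔ p ∈ o :=
  St_apply (Wo_le_St hu) p

theorem card_compl : (oᶜ : Finset GolayPt).card = 16 := by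
  rw [Finset.card_compl, ho.2, Fintype.card_congr ptEquiv, Fintype.card_fin]

theorem Wo_trans {x y : GolayPt} (hx : x ∉ o) (hy : y ∉ o) : ∃ u ∈ Wo o, (u : Equiv.Perm GolayPt) x = y := by
  classical
  let φ : ↥(Wo o) → ↥(oᶜ : Finset GolayPt) := fun u =>
    ⟨(u.1 : Equiv.Perm GolayPt) x, Finset.mem_compl.2 fun h => hx ((Wo_out ho u.2).1 h)⟩
  have hb : Function.Bijective φ := (Nat.bijective_iff_injective_and_card φ).2
    ⟨fun u v e => Subtype.ext (Wo_inj ho hx u.2 v.2 (congrArg Subtype.val e)), by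
      rw [card_Wo ho, Nat.card_eq_finsetCard, card_compl ho]⟩
  obtain ⟨u, hu⟩ := hb.2 ⟨y, Finset.mem_compl.2 hy⟩
  exact ⟨u, u.2, congrArg Subtype.val hu⟩

theorem card_St : Nat.card ↥(St o) = 322560 := by
  rw [← card_octStab ho]
  exact Nat.card_congr ⟨fun g => ⟨g.1.1, mem_St.1 g.2⟩, fun g => ⟨⟨g.1, (mem_octStab.1 g.2).1⟩, mem_St.2 g.2⟩,
    fun _ => rfl, fun _ => rfl⟩

variable {x₀ : GolayPt} (hx₀ : x₀ ∉ o)
include hx₀

theorem card_Sp : Nat.card ↥(Sp o x₀) = 20160 := by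
  rw [← card_octPointStab ho hx₀]
  exact Nat.card_congr ⟨fun g => ⟨g.1.1, ⟨g.1.2, g.2.1⟩, g.2.2⟩, fun g => ⟨⟨g.1, g.2.1.1⟩, g.2.1.2, g.2.2⟩,
    fun _ => rfl, fun _ => rfl⟩

theorem Sp_inf : Sp o x₀ ⊓ Wo o = ⊥ := by
  rw [eq_bot_iff]
  rintro u ⟨hu, hu'⟩
  exact Wo_inj ho hx₀ hu' (one_mem _) hu.2

theorem Sp_split {g : ↥M24} (hg : g ∈ St o) : ∃ k ∈ Sp o x₀, ∃ u ∈ Wo o, g = u * k := by
  obtain ⟨u, hu, he⟩ := Wo_trans ho hx₀ (fun h => hx₀ ((St_apply hg x₀).1 h))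
  refine ⟨u⁻¹ * g, ⟨(St o).mul_mem ((St o).inv_mem (Wo_le_St hu)) hg, ?_⟩, u, hu, (mul_inv_cancel_left u g).symm⟩
  show ((u : Equiv.Perm GolayPt)⁻¹ * (g : Equiv.Perm GolayPt)) x₀ = x₀
  rw [Equiv.Perm.mul_apply, ← he]
  exact (u : Equiv.Perm GolayPt).symm_apply_apply x₀

theorem Sp_sup : Sp o x₀ ⊔ Wo o = St o := le_antisymm (sup_le inf_le_left Wo_le_St) fun g hg => by
  obtain ⟨k, hk, u, hu, rfl⟩ := Sp_split ho hx₀ hg
  exact mul_mem (Subgroup.mem_sup_right hu) (Subgroup.mem_sup_left hk)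

/-- Every even permutation of the octad comes from the stabiliser of the outside point. -/
theorem Sp_realise {σ : Equiv.Perm ↥o} (hσ : σ ∈ alternatingGroup ↥o) :
    ∃ k ∈ Sp o x₀, ∀ p : ↥o, (k : Equiv.Perm GolayPt) p = (σ p : GolayPt) := by
  rw [← (octPointStab_restrict ho hx₀).2] at hσ
  obtain ⟨g, rfl⟩ := hσ
  exact ⟨⟨g.1, g.2.1.1⟩, ⟨g.2.1.2, g.2.2⟩, fun p => rfl⟩

theorem Sp_trans {u v : ↥M24} (hu : u ∈ Wo o) (hv : v ∈ Wo o) (hu1 : u ≠ 1) (hv1 : v ≠ 1) :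
    ∃ k ∈ Sp o x₀, k * u * k⁻¹ = v := by
  classical
  have hfix : ∀ w : ↥M24, w ∈ Wo o → w ≠ 1 →
      (Finset.univ.filter fun p => (w : Equiv.Perm GolayPt) p = p) = o := fun w hw h1 => by
    ext p
    simp [Wo_fix_iff ho hw h1]
  have hcls : ∀ w : ↥M24, w ∈ Wo o → w ≠ 1 → ∃ a ∈ M24, (w : Equiv.Perm GolayPt) = a * pL elU.L * a⁻¹ := by
    intro w hw h1
    have hw2 : orderOf (w : Equiv.Perm GolayPt) = 2 := orderOf_eq_prime
      (by rw [pow_two, ← Subgroup.coe_mul, Wo_sq ho hw, Subgroup.coe_one]) (fun e => h1 (Subtype.ext e))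
    obtain ⟨a, ha, ⟨-, hc⟩ | ⟨e, -⟩⟩ := inv_cases w.2 hw2
    · rw [hfix w hw h1, ho.2] at hc
      omega
    · exact ⟨a, ha, e⟩
  obtain ⟨a, ha, hea⟩ := hcls u hu hu1
  obtain ⟨b, hb, heb⟩ := hcls v hv hv1
  set g : ↥M24 := ⟨b * a⁻¹, mul_mem hb (inv_mem ha)⟩
  have hgu : g * u * g⁻¹ = v := Subtype.ext (by
    show b * a⁻¹ * (u : Equiv.Perm GolayPt) * (b * a⁻¹)⁻¹ = _
    rw [hea, heb]
    group)
  have hg : g ∈ St o := by
    have h := conj_fixed_set (g : Equiv.Perm GolayPt) (u : Equiv.Perm GolayPt)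
    rw [show (g : Equiv.Perm GolayPt) * (u : Equiv.Perm GolayPt) * (g : Equiv.Perm GolayPt)⁻¹ = v from
      congrArg Subtype.val hgu, hfix v hv hv1, hfix u hu hu1] at h
    exact h.symm
  obtain ⟨k, hk, w, hw, hgk⟩ := Sp_split ho hx₀ hg
  refine ⟨k, hk, ?_⟩
  have h1 : k * u * k⁻¹ = w⁻¹ * v * w := by rw [← hgu, hgk]; group
  rw [h1, Wo_inv ho hw, Wo_comm ho hw hv, mul_assoc, Wo_sq ho hw, mul_one]

theorem exists_seven {u : ↥M24} (hu : u ∈ Wo o) : ∃ k ∈ Sp o x₀, orderOf k = 7 ∧ k * u = u * k := by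
  classical
  haveI : Fact (Nat.Prime 7) := ⟨by norm_num⟩
  by_cases h1 : u = 1
  · obtain ⟨k, hk⟩ := exists_prime_orderOf_dvd_card' (G := ↥(Sp o x₀)) 7 (by rw [card_Sp ho hx₀]; norm_num)
    exact ⟨k, k.2, by rw [Subgroup.orderOf_coe, hk], by rw [h1, mul_one, one_mul]⟩
  set S := Sp o x₀
  let T : Set ↥M24 := {v | v ∈ Wo o ∧ v ≠ 1}
  letI : MulAction ↥S ↥T :=
    { smul := fun k v => ⟨k.1 * v.1 * k.1⁻¹, Wo_conj k.2.1 v.2.1, fun e => v.2.2 (conj_eq_one_iff.1 e)⟩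
      one_smul := fun v => Subtype.ext (show (1 : ↥M24) * v.1 * 1⁻¹ = v.1 by group)
      mul_smul := fun k l v => Subtype.ext (show (k.1 * l.1) * v.1 * (k.1 * l.1)⁻¹ =
        k.1 * (l.1 * v.1 * l.1⁻¹) * k.1⁻¹ by group) }
  haveI : MulAction.IsPretransitive ↥S ↥T := ⟨fun v w => by
    obtain ⟨k, hk, e⟩ := Sp_trans ho hx₀ v.2.1 w.2.1 v.2.2 w.2.2
    exact ⟨⟨k, hk⟩, Subtype.ext e⟩⟩
  have hT : Nat.card ↥T = 15 := by
    rw [Nat.card_coe_set_eq, show T = (Wo o : Set ↥M24) \ {1} from Set.ext fun v => Iff.rfl,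
      Set.ncard_diff_singleton_of_mem (one_mem (Wo o)), ← Nat.card_coe_set_eq]
    show Nat.card ↥(Wo o) - 1 = 15
    rw [card_Wo ho]
  have h := Subgroup.card_mul_index (MulAction.stabilizer ↥S (⟨u, hu, h1⟩ : ↥T))
  rw [MulAction.index_stabilizer_of_transitive, hT, card_Sp ho hx₀] at h
  obtain ⟨k, hk⟩ := exists_prime_orderOf_dvd_card'
    (G := ↥(MulAction.stabilizer ↥S (⟨u, hu, h1⟩ : ↥T))) 7 (by omega)
  refine ⟨k.1.1, k.1.2, by rw [Subgroup.orderOf_coe, Subgroup.orderOf_coe, hk], ?_⟩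
  have e : k.1.1 * u * k.1.1⁻¹ = u := congrArg Subtype.val k.2
  exact mul_inv_eq_iff_eq_mul.1 e

end CfsgLib.JankoFour.TwoTen
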