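import Cfsg.Agent.Lib.JankoFour.TwoTen.Count

/-!
# The orbit lengths 155 and 868
-/

set_option autoImplicit false
set_option linter.unusedSectionVars false

namespace CfsgLib.JankoFour.TwoTen

open Cfsg CfsgLib.Golay
open scoped symmDiff Pointwise

theorem co_conj (g w : Equiv.Perm GolayPt) (v : Finset GolayPt) : co (g * w * g⁻¹) (g • v) = g • co w v := by
  rw [co, co, Finset.smul_finset_symmDiff, mul_smul, mul_smul, inv_smul_smul]

theorem low_conj {g w : Equiv.Perm GolayPt} (hg : g ∈ M24) (ho : g • oct = oct) {t : Finset GolayPt}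
    (h : IsLow w t) : IsLow (g * w * g⁻¹) (g • t) := by
  obtain ⟨v, hv, e⟩ := h
  refine ⟨g • v, ⟨two_dvd_smul hv.1, ?_⟩, ?_⟩
  · rw [show (g • v) ∩ oct = g • (v ∩ oct) by rw [Finset.smul_finset_inter, ho]]
    exact two_dvd_smul hv.2
  · rw [co_conj]
    exact e.smul hg

/-- Every involution of the stabiliser has exactly eight commutator classes. -/
theorem low_card (hC : Certs) {w : Equiv.Perm GolayPt} (hw : w ∈ Wgrp) (hw1 : w ≠ 1) :
    ({t | t ∈ reps ∧ IsLow w t} : Set (Finset GolayPt)).ncard = 8 := by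
  classical
  obtain ⟨w₀, hw₀, hw₀1, L, hL, hL1, hL2⟩ := low_eight hC
  have hL' : ({t | t ∈ reps ∧ IsLow w₀ t} : Set (Finset GolayPt)) = ↑L := by
    ext t
    exact ⟨fun h => hL2 t h.1 h.2, fun h => hL1 t h⟩
  have key : ∀ a ∈ Wgrp, a ≠ 1 → ∀ b ∈ Wgrp, b ≠ 1 →
      ({t | t ∈ reps ∧ IsLow a t} : Set (Finset GolayPt)).ncard ≤
        ({t | t ∈ reps ∧ IsLow b t} : Set (Finset GolayPt)).ncard := by
    intro a ha ha1 b hb hb1
    have hl : ∀ x, IsLow x ∅ := fun x => ⟨∅, evenly_empty, Eqv.of_eq (co_empty x)⟩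
    obtain ⟨v, -, g, hg, hgo, hgb, -⟩ :=
      hC.trans a ha ha1 b hb hb1 ∅ (Finset.empty_subset _) (by simp) ∅ (Finset.empty_subset _) (by simp)
        (iff_of_true (hl a) (hl b))
    have hex : ∀ t, t ∈ reps → ∃ r ∈ reps, Eqv (g • t) r := fun t ht => by
      refine reps_eqv ?_ (two_dvd_smul (mem_reps.1 ht).2.2)
      rw [← hgo]
      exact Finset.smul_finset_subset_smul_finset (mem_reps.1 ht).1
    choose! r hr hre using hex
    refine Set.ncard_le_ncard_of_injOn r (fun t ht => ⟨hr t ht.1, ?_⟩) (fun t ht t' ht' e => ?_) (Set.toFinite _)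
    · have := (low_conj hg hgo ht.2).congr (hre t ht.1)
      rwa [hgb] at this
    · refine reps_inj ht.1 ht'.1 ?_
      have := ((hre t ht.1).trans ((Eqv.of_eq e).trans (hre t' ht'.1).symm)).smul (inv_mem hg)
      rwa [inv_smul_smul, inv_smul_smul] at this
  have h1 := key w hw hw1 w₀ hw₀ hw₀1
  have h2 := key w₀ hw₀ hw₀1 w hw hw1
  rw [hL', Set.ncard_coe_finset, hL] at h1 h2
  omega

theorem seven_pairs {α : Type*} [DecidableEq α] {S : Finset α} (h : S.card = 7) :
    (S.powerset.filter fun t => t.card = 2 ∨ t.card = 6).card = 28 := by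
  have key : (S.powerset.filter fun t => t.card = 2 ∨ t.card = 6) = S.powersetCard 2 ∪ S.powersetCard 6 := by
    ext t
    simp only [Finset.mem_filter, Finset.mem_powerset, Finset.mem_union, Finset.mem_powersetCard]
    tauto
  rw [key, Finset.card_union_of_disjoint, Finset.card_powersetCard, Finset.card_powersetCard, h]
  · decide +kernel
  · exact Finset.disjoint_left.2 fun t ht ht' => by rw [Finset.mem_powersetCard] at ht ht'; omega

variable {G : Type*} [Group G] [Finite G] {z : G} {V : Subgroup G} {P : Finset GolayPt → G}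
  {κ : Equiv.Perm GolayPt → G}

namespace Setup

variable (S : Setup z V P κ)
include S

theorem conj_A_mem {h x : G} (hh : h ∈ Subgroup.normalizer (S.A : Set G)) (hx : x ∈ S.A) : h * x * h⁻¹ ∈ S.A :=
  (Subgroup.mem_normalizer_iff.1 hh x).1 hx

theorem stab_le {p q : GolayPt} (hpq : p ≠ q) :
    Subgroup.normalizer (S.A : Set G) ⊓ Subgroup.centralizer ({P {p, q}} : Set G) =
      (Subgroup.normalizer (S.A : Set G) ⊓ Subgroup.normalizer (V : Set G)) ⊓
        Subgroup.centralizer ({P {p, q}} : Set G) := by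
  refine le_antisymm (fun x hx => ⟨⟨hx.1, S.cent p q hpq hx.2⟩, hx.2⟩) fun x hx => ⟨hx.1.1, hx.2⟩

/-- The elements of `A ⊓ V` in the class of a pair. -/
theorem pair_reps {p q : GolayPt} (hpq : p ≠ q) {r : Finset GolayPt} (hr : r ∈ reps) :
    IsConj (P {p, q}) (P r) ↔ r.card = 2 ∨ r.card = 6 := by
  obtain ⟨hr1, hp, hr2⟩ := mem_reps.1 hr
  have h7 : r.card ≤ 7 := by
    have := Finset.card_le_card (Finset.subset_erase.2 ⟨hr1, hp⟩)
    rwa [Finset.card_erase_of_mem p₀_mem, oct_card] at this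
  constructor
  · intro h
    rcases (show r.card = 0 ∨ r.card = 2 ∨ r.card = 4 ∨ r.card = 6 by omega) with h' | h' | h' | h'
    · exfalso
      rw [Finset.card_eq_zero.1 h', S.P_empty, isConj_one_left] at h
      have := ((S.eq_one _ (by rw [Finset.card_pair hpq])).1 h).small (by rw [Finset.card_pair hpq]; norm_num)
      simp at this
    · exact .inl h'
    · exact absurd ((S.quadZ r h').trans h.symm) (S.pairN p q hpq)
    · exact .inr h'
  · rintro (h' | h')
    · obtain ⟨a, b, hab, rfl⟩ := Finset.card_eq_two.1 h'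
      exact S.isConj_pairs hpq hab
    · obtain ⟨a, b, hab, e⟩ := Finset.card_eq_two.1 (show (oct \ r).card = 2 by
        rw [Finset.card_sdiff_of_subset hr1, oct_card, h'])
      have : P r = P {a, b} := (S.P_eq_iff hr2 (by rw [Finset.card_pair hab])).2 (by
        rw [← e, Eqv, show r ∆ (oct \ r) = oct by
          rw [← symmDiff_of_ge hr1, symmDiff_comm oct r, ← symmDiff_assoc, symmDiff_self]; exact bot_symmDiff _]
        exact oct_mem.1)
      rw [this]
      exact S.isConj_pairs hpq hab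

/-- The orbit of a pair under the part normalising `V`. -/
theorem inner_orbit (hC : Certs) {p q : GolayPt} (hp : p ∈ oct) (hq : q ∈ oct) (hpq : p ≠ q) :
    (orbS (Subgroup.normalizer (S.A : Set G) ⊓ Subgroup.normalizer (V : Set G)) (P {p, q})).ncard = 28 := by
  classical
  have h2 : 2 ∣ ({p, q} : Finset GolayPt).card := by rw [Finset.card_pair hpq]
  have hsub : ({p, q} : Finset GolayPt) ⊆ oct := Finset.insert_subset_iff.2 ⟨hp, Finset.singleton_subset_iff.2 hq⟩
  have hset : orbS (Subgroup.normalizer (S.A : Set G) ⊓ Subgroup.normalizer (V : Set G)) (P {p, q}) =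
      P '' ↑(oct.powersetCard 2) := by
    ext x
    constructor
    · rintro ⟨n, ⟨hnA, hnV⟩, rfl⟩
      obtain ⟨v, hv, g, hg, rfl⟩ := S.split n hnV
      obtain ⟨ho, -⟩ := (S.mem_stab hC hv hg).1 hnA
      refine ⟨g • {p, q}, ?_, ?_⟩
      · rw [Finset.mem_coe, Finset.mem_powersetCard, Finset.card_smul_finset, Finset.card_pair hpq]
        exact ⟨ho ▸ Finset.smul_finset_subset_smul_finset hsub, rfl⟩
      · rw [← mul_one (P {p, q}), ← S.κ_one, S.conj_el hv h2 hg (one_mem _), mul_one, mul_inv_cancel, S.κ_one,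
          mul_one, show co 1 v = ∅ by rw [co, one_smul]; exact symmDiff_self _, sd_empty_right]
    · rintro ⟨t, ht, rfl⟩
      rw [Finset.mem_coe, Finset.mem_powersetCard] at ht
      obtain ⟨g, hg, ho, e⟩ := oct_move hsub ht.1 (by rw [Finset.card_pair hpq, ht.2]) (by omega)
      refine ⟨κ g, ⟨?_, S.kmem g hg⟩, by rw [S.act g hg _ h2, e]⟩
      rw [← one_mul (κ g), ← S.P_empty]
      exact (S.mem_stab hC (by simp) hg).2 ⟨ho, evenly_empty⟩
  rw [hset, Set.InjOn.ncard_image, Set.ncard_coe_finset, Finset.card_powersetCard, oct_card]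
  · decide +kernel
  · intro a ha b hb e
    rw [Finset.mem_coe, Finset.mem_powersetCard] at ha hb
    exact ((S.P_eq_iff (by rw [ha.2]) (by rw [hb.2])).1 e).small (by omega)

theorem outer_same (hC : Certs) {w w' : Equiv.Perm GolayPt} (hw : w ∈ Wgrp) (hw1 : w ≠ 1)
    (hw' : w' ∈ Wgrp) (hw'1 : w' ≠ 1) {t t' : Finset GolayPt} (ht : t ∈ reps) (ht' : t' ∈ reps)
    (h : IsLow w t ↔ IsLow w' t') {a : G}
    (ha : P t * κ w ∈ orbN S.A a) : P t' * κ w' ∈ orbN S.A a := by
  obtain ⟨h1, -, h2⟩ := mem_reps.1 ht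
  obtain ⟨h1', -, h2'⟩ := mem_reps.1 ht'
  obtain ⟨v, hv, g, hg, ho, e, e'⟩ := hC.trans w hw hw1 w' hw' hw'1 t h1 h2 t' h1' h2' h
  obtain ⟨n, hn, hn'⟩ := ha
  refine ⟨P v * κ g * n, mul_mem ((S.mem_stab hC hv.1 hg).2 ⟨ho, hv⟩) hn, ?_⟩
  calc P v * κ g * n * a * (P v * κ g * n)⁻¹ = P v * κ g * (n * a * n⁻¹) * (P v * κ g)⁻¹ := by group
    _ = P t' * κ w' := by
      rw [hn', S.conj_el hv.1 h2 hg (mem_W.1 hw).1, e,
        (S.P_eq_iff (two_dvd_sd (two_dvd_smul h2) (two_dvd_co hv.1)) h2').2 e']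

/-- The two orbits. -/
theorem orbits (hC : Certs) {p q : GolayPt} (hp : p ∈ oct) (hq : q ∈ oct) (hpq : p ≠ q)
    {Q₄ : Finset GolayPt} (hQ : Q₄ ⊆ oct) (hQ4 : Q₄.card = 4) :
    Nat.card ↥(Subgroup.normalizer (S.A : Set G)) = 31 * (2 ^ 14 * 20160) ∧
    (orbN S.A (P {p, q})).ncard = 868 ∧ (orbN S.A (P Q₄)).ncard = 155 ∧
    orbN S.A (P {p, q}) ∪ orbN S.A (P Q₄) = {x | x ∈ S.A ∧ x ≠ 1} ∧
    ∀ t ∈ reps, ∀ w ∈ Wgrp, w ≠ 1 → (P t * κ w ∈ orbN S.A (P Q₄) ↔ IsLow w t) := by
  classical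
  have h2 : 2 ∣ ({p, q} : Finset GolayPt).card := by rw [Finset.card_pair hpq]
  have hdA : P {p, q} ∈ S.A :=
    S.P_mem_A (Finset.insert_subset_iff.2 ⟨hp, Finset.singleton_subset_iff.2 hq⟩) h2
  set N := Subgroup.normalizer (S.A : Set G) with hN
  set N' := N ⊓ Subgroup.normalizer (V : Set G) with hN'
  set Ob := orbN S.A (P {p, q}) with hOb
  have hObA : Ob ⊆ S.A := by
    rintro _ ⟨n, hn, rfl⟩
    exact S.conj_A_mem hn hdA
  have hObC : ∀ x ∈ Ob, IsConj (P {p, q}) x := by
    rintro _ ⟨n, -, rfl⟩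
    exact isConj_iff.2 ⟨n, rfl⟩
  -- counting by stabilisers
  obtain ⟨m, hm⟩ : Nat.card ↥N' ∣ Nat.card ↥N := Subgroup.card_dvd_of_le inf_le_left
  have hN'card : Nat.card ↥N' = 2 ^ 14 * 20160 := S.stab_card hC
  have hOb28 : Ob.ncard = 28 * m := by
    have h1 := orbS_card N (P {p, q})
    have h3 := orbS_card N' (P {p, q})
    rw [S.inner_orbit hC hp hq hpq] at h3
    rw [show N ⊓ Subgroup.centralizer ({P {p, q}} : Set G) = N' ⊓ Subgroup.centralizer ({P {p, q}} : Set G) from
      S.stab_le hpq, hm, h3] at h1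
    refine mul_right_cancel₀ (Nat.card_pos (α := ↥(N' ⊓ Subgroup.centralizer ({P {p, q}} : Set G)))).ne' ?_
    exact h1.symm.trans (by ring)
  obtain ⟨h₀, hh₀, hh₀V⟩ := S.exists_moving hC
  have hm1 : m ≠ 1 := fun e => by
    rw [e, mul_one] at hm
    have := Subgroup.eq_of_le_of_card_ge (inf_le_left : N' ≤ N) hm.le
    exact hh₀V (show h₀ ∈ N ⊓ Subgroup.normalizer (V : Set G) by rw [this]; exact hh₀).2
  -- the coordinates of the group
  let Wf : Finset (Equiv.Perm GolayPt) := (Wgrp : Set (Equiv.Perm GolayPt)).toFinite.toFinset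
  have hWf : ∀ w, w ∈ Wf ↔ w ∈ Wgrp := fun w => by simp [Wf]
  have hW15 : (Wf.erase 1).card = 15 := by
    rw [Finset.card_erase_of_mem ((hWf 1).2 (one_mem _))]
    rw [show Wf.card = Nat.card ↥Wgrp by
      rw [← Set.ncard_eq_toFinset_card, ← Nat.card_coe_set_eq]; rfl, W_card]
  let F : Finset GolayPt × Equiv.Perm GolayPt → G := fun x => P x.1 * κ x.2
  have hinj : ∀ x ∈ reps ×ˢ Wf, ∀ y ∈ reps ×ˢ Wf, F x = F y → x = y := by
    rintro ⟨r, w⟩ hx ⟨r', w'⟩ hy e
    rw [Finset.mem_product, hWf] at hx hy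
    obtain ⟨e1, e2⟩ := S.el_inj (mem_reps.1 hx.1).2.2 (mem_reps.1 hy.1).2.2 (mem_W.1 hx.2).1 (mem_W.1 hy.2).1 e
    rw [show r = r' from reps_inj hx.1 hy.1 e2, show w = w' from e1]
  have hcover : ∀ x ∈ S.A, ∃ y ∈ reps ×ˢ Wf, F y = x := by
    rintro _ ⟨t, ht, ht2, w, hw, rfl⟩
    obtain ⟨r, hr, e⟩ := reps_eqv ht ht2
    exact ⟨(r, w), Finset.mem_product.2 ⟨hr, (hWf w).2 hw⟩, by
      show P r * κ w = _
      rw [(S.P_eq_iff ht2 (mem_reps.1 hr).2.2).2 e]⟩
  set inner := reps.filter fun t => F (t, 1) ∈ Ob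
  set outer := (reps ×ˢ (Wf.erase 1)).filter fun x => F x ∈ Ob
  have hdecomp : Ob.ncard = inner.card + outer.card := by
    have e : Ob = F '' ↑((inner.image fun t => (t, (1 : Equiv.Perm GolayPt))) ∪ outer) := by
      ext x
      constructor
      · intro hx
        obtain ⟨⟨t, w⟩, hy, rfl⟩ := hcover x (hObA hx)
        rw [Finset.mem_product] at hy
        refine ⟨(t, w), Finset.mem_coe.2 (Finset.mem_union.2 ?_), rfl⟩
        by_cases h1 : w = 1
        · subst h1
          exact .inl (Finset.mem_image.2 ⟨t, Finset.mem_filter.2 ⟨hy.1, hx⟩, rfl⟩)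
        · exact .inr (Finset.mem_filter.2 ⟨Finset.mem_product.2 ⟨hy.1, Finset.mem_erase.2 ⟨h1, hy.2⟩⟩, hx⟩)
      · rintro ⟨y, hy, rfl⟩
        rcases Finset.mem_union.1 hy with hy | hy
        · obtain ⟨t, ht, rfl⟩ := Finset.mem_image.1 hy
          exact (Finset.mem_filter.1 ht).2
        · exact (Finset.mem_filter.1 hy).2
    have hsubU : (inner.image fun t => (t, (1 : Equiv.Perm GolayPt))) ∪ outer ⊆ reps ×ˢ Wf := by
      intro y hy
      rcases Finset.mem_union.1 hy with hy | hy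
      · obtain ⟨t, ht, rfl⟩ := Finset.mem_image.1 hy
        exact Finset.mem_product.2 ⟨(Finset.mem_filter.1 ht).1, (hWf 1).2 (one_mem _)⟩
      · obtain ⟨h1, h2'⟩ := Finset.mem_product.1 (Finset.mem_filter.1 hy).1
        exact Finset.mem_product.2 ⟨h1, Finset.mem_of_mem_erase h2'⟩
    rw [e, Set.InjOn.ncard_image fun x hx y hy => hinj x (hsubU hx) y (hsubU hy), Set.ncard_coe_finset,
      Finset.card_union_of_disjoint, Finset.card_image_of_injective _ fun a b e => congrArg Prod.fst e]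
    refine Finset.disjoint_left.2 fun y hy hy' => ?_
    obtain ⟨t, -, rfl⟩ := Finset.mem_image.1 hy
    exact (Finset.mem_erase.1 (Finset.mem_product.1 (Finset.mem_filter.1 hy').1).2).1 rfl
  have hinner : inner.card = 28 := by
    rw [show inner = (oct.erase p₀).powerset.filter fun t => t.card = 2 ∨ t.card = 6 from ?_]
    · exact seven_pairs (by rw [Finset.card_erase_of_mem p₀_mem, oct_card])
    ext t
    simp only [inner, Finset.mem_filter, Finset.mem_powerset]
    constructor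
    · rintro ⟨ht, hx⟩
      refine ⟨Finset.subset_erase.2 ⟨(mem_reps.1 ht).1, (mem_reps.1 ht).2.1⟩, (S.pair_reps hpq ht).1 ?_⟩
      have := hObC _ hx
      simpa [F, S.κ_one] using this
    · rintro ⟨ht, hc⟩
      obtain ⟨h1, h3⟩ := Finset.subset_erase.1 ht
      have htr : t ∈ reps := mem_reps.2 ⟨h1, h3, by omega⟩
      refine ⟨htr, ?_⟩
      show P t * κ 1 ∈ Ob
      rw [S.κ_one, mul_one]
      exact S.class_eq_orbit hC hp hq hpq (S.P_mem_A h1 (by omega)) ((S.pair_reps hpq htr).2 hc)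
  -- the outer part is a union of the two kinds
  set low := (reps ×ˢ (Wf.erase 1)).filter fun x => IsLow x.2 x.1
  set high := (reps ×ˢ (Wf.erase 1)).filter fun x => ¬ IsLow x.2 x.1
  have hlow : low.card = 120 := by
    rw [show low = (Wf.erase 1).biUnion fun w => (reps.filter fun t => IsLow w t).image fun t => (t, w) by
      ext ⟨t, w⟩
      simp only [low, Finset.mem_filter, Finset.mem_product, Finset.mem_biUnion, Finset.mem_image, Prod.mk.injEq]
      exact ⟨fun h => ⟨w, h.1.2, t, ⟨h.1.1, h.2⟩, rfl, rfl⟩,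
        fun ⟨w', hw', t', ht', e1, e2⟩ => by subst e1 e2; exact ⟨⟨ht'.1, hw'⟩, ht'.2⟩⟩]
    rw [Finset.card_biUnion, Finset.sum_const_nat (m := 8), hW15]
    · intro w hw
      rw [Finset.mem_erase, hWf] at hw
      rw [Finset.card_image_of_injective _ fun a b e => congrArg Prod.fst e, ← Set.ncard_coe_finset,
        Finset.coe_filter]
      exact low_card hC hw.2 hw.1
    · intro a _ b _ hab
      refine Finset.disjoint_left.2 fun x hx hx' => hab ?_
      obtain ⟨t, -, rfl⟩ := Finset.mem_image.1 hx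
      obtain ⟨t', -, e⟩ := Finset.mem_image.1 hx'
      exact (congrArg Prod.snd e).symm
  have hhigh : high.card = 840 := by
    have := Finset.card_filter_add_card_filter_not (s := reps ×ˢ (Wf.erase 1)) fun x => IsLow x.2 x.1
    rw [Finset.card_product, reps_card, hW15] at this
    change low.card + high.card = 64 * 15 at this
    omega
  have hsame : ∀ x ∈ reps ×ˢ (Wf.erase 1), ∀ y ∈ reps ×ˢ (Wf.erase 1), (IsLow x.2 x.1 ↔ IsLow y.2 y.1) →
      ∀ a : G, F x ∈ orbN S.A a → F y ∈ orbN S.A a := by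
    intro x hx y hy h a ha
    rw [Finset.mem_product, Finset.mem_erase, hWf] at hx hy
    exact S.outer_same hC hx.2.2 hx.2.1 hy.2.2 hy.2.1 hx.1 hy.1 h ha
  have houter : outer.card = (if ∃ x ∈ low, F x ∈ Ob then 120 else 0) + (if ∃ x ∈ high, F x ∈ Ob then 840 else 0) := by
    have e1 : ∀ K : Finset (Finset GolayPt × Equiv.Perm GolayPt), (∀ x ∈ K, ∀ y ∈ K, F x ∈ Ob → F y ∈ Ob) →
        (K.filter fun x => F x ∈ Ob).card = if ∃ x ∈ K, F x ∈ Ob then K.card else 0 := by
      intro K hK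
      split_ifs with h
      · obtain ⟨x, hx, hxO⟩ := h
        rw [Finset.filter_true_of_mem fun y hy => hK x hx y hy hxO]
      · rw [Finset.filter_false_of_mem fun y hy hyO => h ⟨y, hy, hyO⟩, Finset.card_empty]
    have e2 : outer.card = (low.filter fun x => F x ∈ Ob).card + (high.filter fun x => F x ∈ Ob).card := by
      have hd : Disjoint (low.filter fun x => F x ∈ Ob) (high.filter fun x => F x ∈ Ob) :=
        Finset.disjoint_left.2 fun x hx hx' =>
          (Finset.mem_filter.1 (Finset.mem_filter.1 hx').1).2 (Finset.mem_filter.1 (Finset.mem_filter.1 hx).1).2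
      rw [← Finset.card_union_of_disjoint hd]
      congr 1
      ext x
      simp only [outer, low, high, Finset.mem_filter, Finset.mem_union]
      tauto
    rw [e2, e1 low ?_, e1 high ?_, hlow, hhigh]
    · intro x hx y hy
      rw [Finset.mem_filter] at hx hy
      exact hsame x hx.1 y hy.1 (iff_of_false hx.2 hy.2) _
    · intro x hx y hy
      rw [Finset.mem_filter] at hx hy
      exact hsame x hx.1 y hy.1 (iff_of_true hx.2 hy.2) _
  obtain ⟨hnolow, hm31⟩ : (¬ ∃ x ∈ low, F x ∈ Ob) ∧ m = 31 := by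
    by_cases h1 : ∃ x ∈ low, F x ∈ Ob
    · exfalso
      rw [if_pos h1] at houter
      split_ifs at houter <;> omega
    · refine ⟨h1, ?_⟩
      rw [if_neg h1] at houter
      split_ifs at houter <;> omega
  have hNcard : Nat.card ↥N = 31 * (2 ^ 14 * 20160) := by rw [hm, hN'card, hm31, mul_comm]
  have hOb868 : Ob.ncard = 868 := by rw [hOb28, hm31]
  -- the other orbit
  have hQ2 : 2 ∣ Q₄.card := by rw [hQ4]; norm_num
  set Oa := orbN S.A (P Q₄) with hOa
  have hOaA : Oa ⊆ S.A := by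
    rintro _ ⟨n, hn, rfl⟩
    exact S.conj_A_mem hn (S.P_mem_A hQ hQ2)
  have hOaz : ∀ x ∈ Oa, IsConj z x := by
    rintro _ ⟨n, -, rfl⟩
    exact (S.quadZ Q₄ hQ4).trans (isConj_iff.2 ⟨n, rfl⟩)
  have hdis : ∀ x ∈ Oa, x ∉ Ob := fun x hx hx' => S.pairN p q hpq ((hOaz x hx).trans (hObC x hx').symm)
  have hz1 : ∀ x, IsConj z x → x ≠ 1 := fun x hx e => by
    rw [e, isConj_one_left] at hx
    have := S.ordz
    rw [hx, orderOf_one] at this
    omega
  have hquads : ∀ t, t ⊆ oct → t.card = 4 → P t ∈ Oa := by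
    intro t ht ht4
    obtain ⟨g, hg, ho, e⟩ := oct_move hQ ht (by omega) (by omega)
    refine ⟨κ g, ?_, by rw [S.act g hg _ hQ2, e]⟩
    rw [← one_mul (κ g), ← S.P_empty]
    exact (S.mem_stab hC (by simp) hg).2 ⟨ho, evenly_empty⟩
  obtain ⟨x₁, hx₁, hx₁O⟩ : ∃ x ∈ low, F x ∈ Oa := by
    by_contra hno
    have hkey : ∀ t, t ⊆ oct → t.card = 4 → h₀ * P t * h₀⁻¹ ∈ V := by
      intro t ht ht4
      obtain ⟨n, hn, e⟩ := hquads t ht ht4
      have hy : h₀ * P t * h₀⁻¹ ∈ Oa := ⟨h₀ * n, mul_mem hh₀ hn, by rw [← e]; group⟩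
      obtain ⟨⟨r, w⟩, hy', e'⟩ := hcover _ (hOaA hy)
      rw [← e']
      rw [Finset.mem_product, hWf] at hy'
      by_cases h1 : w = 1
      · show P r * κ w ∈ V
        rw [h1, S.κ_one, mul_one]
        exact S.mem r (mem_reps.1 hy'.1).2.2
      · exfalso
        have hmem : (r, w) ∈ reps ×ˢ Wf.erase 1 := Finset.mem_product.2 ⟨hy'.1, Finset.mem_erase.2 ⟨h1, (hWf w).2 hy'.2⟩⟩
        by_cases hl : IsLow w r
        · exact hno ⟨(r, w), Finset.mem_filter.2 ⟨hmem, hl⟩, e' ▸ hy⟩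
        · have hhi : (r, w) ∈ high := Finset.mem_filter.2 ⟨hmem, hl⟩
          have : ∃ x ∈ high, F x ∈ Ob := by
            by_contra hno'
            rw [if_neg hnolow, if_neg hno'] at houter
            omega
          obtain ⟨x, hx, hxO⟩ := this
          rw [Finset.mem_filter] at hx
          exact hdis _ (e' ▸ hy) (hsame x hx.1 _ hmem (iff_of_false hx.2 hl) _ hxO)
    obtain ⟨T, hT, hT3⟩ := Finset.exists_subset_card_eq (show 3 ≤ ((oct.erase p).erase q).card by
      rw [Finset.card_erase_of_mem (Finset.mem_erase.2 ⟨hpq.symm, hq⟩), Finset.card_erase_of_mem hp, oct_card]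
      norm_num)
    have hpT : p ∉ T := fun h => (Finset.mem_erase.1 (Finset.mem_of_mem_erase (hT h))).1 rfl
    have hqT : q ∉ T := fun h => (Finset.mem_erase.1 (hT h)).1 rfl
    have hTo : T ⊆ oct := fun x hx => Finset.mem_of_mem_erase (Finset.mem_of_mem_erase (hT hx))
    have e : ({p, q} : Finset GolayPt) = insert p T ∆ insert q T := by
      ext x
      simp only [Finset.mem_symmDiff, Finset.mem_insert, Finset.mem_singleton]
      constructor
      · rintro (rfl | rfl)
        · exact .inl ⟨.inl rfl, fun h => h.elim hpq hpT⟩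
        · exact .inr ⟨.inl rfl, fun h => h.elim hpq.symm hqT⟩
      · tauto
    have hV : h₀ * P {p, q} * h₀⁻¹ ∈ V := by
      rw [e, S.mul _ _ (by rw [Finset.card_insert_of_notMem hpT, hT3]; norm_num)
        (by rw [Finset.card_insert_of_notMem hqT, hT3]; norm_num)]
      have := mul_mem (hkey (insert p T) (Finset.insert_subset hp hTo) (by rw [Finset.card_insert_of_notMem hpT, hT3]))
        (hkey (insert q T) (Finset.insert_subset hq hTo) (by rw [Finset.card_insert_of_notMem hqT, hT3]))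
      simpa [mul_assoc] using this
    have hy : h₀ * P {p, q} * h₀⁻¹ ∈ Ob := ⟨h₀, hh₀, rfl⟩
    obtain ⟨⟨r, w⟩, hy', e'⟩ := hcover _ (hObA hy)
    rw [Finset.mem_product, hWf] at hy'
    dsimp only at hy'
    have hw1 : w = 1 := by
      rw [← e', S.el_mem_V (mem_reps.1 hy'.1).2.2 (mem_W.1 hy'.2).1] at hV
      exact hV
    have hc := (S.pair_reps hpq hy'.1).1 (by
      have := hObC _ hy
      rw [← e'] at this
      simpa [F, hw1, S.κ_one] using this)
    have hr1 := (mem_reps.1 hy'.1).1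
    obtain ⟨s, hs, hs2, hrs⟩ : ∃ s ⊆ oct, s.card = 2 ∧ P r = P s := by
      rcases hc with hc | hc
      · exact ⟨r, hr1, hc, rfl⟩
      · refine ⟨oct \ r, Finset.sdiff_subset, by rw [Finset.card_sdiff_of_subset hr1, oct_card, hc], ?_⟩
        refine (S.P_eq_iff (by omega) (by rw [Finset.card_sdiff_of_subset hr1, oct_card, hc])).2 ?_
        rw [Eqv, show r ∆ (oct \ r) = oct by
          rw [← symmDiff_of_ge hr1, symmDiff_comm oct r, ← symmDiff_assoc, symmDiff_self]; exact bot_symmDiff _]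
        exact oct_mem.1
    obtain ⟨g, hg, ho, hgs⟩ := oct_move (Finset.insert_subset_iff.2 ⟨hp, Finset.singleton_subset_iff.2 hq⟩) hs
      (by rw [hs2, Finset.card_pair hpq]) (by omega)
    have hcen : (κ g)⁻¹ * h₀ ∈ Subgroup.normalizer (V : Set G) := by
      refine S.cent p q hpq (Subgroup.mem_centralizer_singleton_iff.2 ?_)
      have e2 : h₀ * P {p, q} * h₀⁻¹ = κ g * P {p, q} * (κ g)⁻¹ := by
        rw [S.act g hg _ h2, hgs, ← hrs, ← e', hw1]
        show P r * κ 1 = P r
        rw [S.κ_one, mul_one]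
      calc (κ g)⁻¹ * h₀ * P {p, q} = (κ g)⁻¹ * (h₀ * P {p, q} * h₀⁻¹) * h₀ := by group
        _ = P {p, q} * ((κ g)⁻¹ * h₀) := by rw [e2]; group
    exact hh₀V (by simpa using mul_mem (S.kmem g hg) hcen)
  have hx₁' := Finset.mem_filter.1 hx₁
  have hunion : Ob ∪ Oa = {x | x ∈ S.A ∧ x ≠ 1} := by
    refine Set.Subset.antisymm ?_ ?_
    · rintro x (hx | hx)
      · refine ⟨hObA hx, fun e => ?_⟩
        have := hObC x hx
        rw [e, isConj_one_left] at this
        have h' := ((S.eq_one _ h2).1 this).small (by rw [Finset.card_pair hpq]; norm_num)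
        simp at h'
      · exact ⟨hOaA hx, hz1 x (hOaz x hx)⟩
    · rintro x ⟨hxA, hx1⟩
      obtain ⟨⟨r, w⟩, hy, rfl⟩ := hcover x hxA
      rw [Finset.mem_product, hWf] at hy
      dsimp only at hy
      by_cases hw1 : w = 1
      · subst hw1
        obtain ⟨hr1, hrp, hr2⟩ := mem_reps.1 hy.1
        have h7 := Finset.card_le_card (Finset.subset_erase.2 ⟨hr1, hrp⟩)
        rw [Finset.card_erase_of_mem p₀_mem, oct_card] at h7
        show P r * κ 1 ∈ Ob ∪ Oa
        have hx1' : P r ≠ 1 := by simpa [F, S.κ_one] using hx1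
        rw [S.κ_one, mul_one]
        rcases (show r.card = 0 ∨ r.card = 4 ∨ r.card = 2 ∨ r.card = 6 by omega) with h | h | h
        · exact absurd (by rw [Finset.card_eq_zero.1 h, S.P_empty]) hx1'
        · exact .inr (hquads r hr1 h)
        · exact .inl (S.class_eq_orbit hC hp hq hpq (S.P_mem_A hr1 hr2) ((S.pair_reps hpq hy.1).2 h))
      · have hmem : (r, w) ∈ reps ×ˢ Wf.erase 1 :=
          Finset.mem_product.2 ⟨hy.1, Finset.mem_erase.2 ⟨hw1, (hWf w).2 hy.2⟩⟩
        by_cases hl : IsLow w r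
        · exact .inr (hsame x₁ hx₁'.1 _ hmem (iff_of_true hx₁'.2 hl) _ hx₁O)
        · have : ∃ x ∈ high, F x ∈ Ob := by
            by_contra hno'
            rw [if_neg hnolow, if_neg hno'] at houter
            omega
          obtain ⟨x, hx, hxO⟩ := this
          rw [Finset.mem_filter] at hx
          exact .inl (hsame x hx.1 _ hmem (iff_of_false hx.2 hl) _ hxO)
  refine ⟨hNcard, hOb868, ?_, hunion, fun t ht w hw hw1 => ?_⟩
  · have h1 : ({x | x ∈ S.A ∧ x ≠ 1} : Set G).ncard = 1023 := by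
      rw [show ({x | x ∈ S.A ∧ x ≠ 1} : Set G) = (S.A : Set G) \ {1} from rfl,
        Set.ncard_sdiff_singleton_of_mem (one_mem S.A)]
      rw [← Nat.card_coe_set_eq]
      simp only [SetLike.coe_sort_coe, S.A_card]
      norm_num
    rw [← hunion, Set.ncard_union_eq (Set.disjoint_left.2 fun x hx hx' => hdis x hx' hx) (Set.toFinite _)
      (Set.toFinite _)] at h1
    omega
  · have hmem : (t, w) ∈ reps ×ˢ Wf.erase 1 := Finset.mem_product.2 ⟨ht, Finset.mem_erase.2 ⟨hw1, (hWf w).2 hw⟩⟩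
    constructor
    · intro hx
      by_contra hl
      have : ∃ x ∈ high, F x ∈ Ob := by
        by_contra hno'
        rw [if_neg hnolow, if_neg hno'] at houter
        omega
      obtain ⟨x, hx', hxO⟩ := this
      rw [Finset.mem_filter] at hx'
      exact hdis _ hx (hsame x hx'.1 _ hmem (iff_of_false hx'.2 hl) _ hxO)
    · exact fun hl => hsame x₁ hx₁'.1 _ hmem (iff_of_true hx₁'.2 hl) _ hx₁O

end Setup

end CfsgLib.JankoFour.TwoTen
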