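import Cfsg.Agent.Lib.JankoFour.TwoTen.Conj
import Cfsg.Agent.Lib.JankoFour.TwoTen.Low

/-!
# The part of the normaliser of the group of order `2^10` normalising `V`
-/

set_option autoImplicit false
set_option linter.unusedSectionVars false

namespace CfsgLib.JankoFour.TwoTen

open Cfsg CfsgLib.Golay
open scoped symmDiff Pointwise

variable {G : Type*} [Group G] [Finite G] {z : G} {V : Subgroup G} {P : Finset GolayPt → G}
  {κ : Equiv.Perm GolayPt → G}

theorem normalizer_of_conj {H : Subgroup G} {g : G} (h : ∀ a ∈ H, g * a * g⁻¹ ∈ H) :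
    g ∈ Subgroup.normalizer (H : Set G) := by
  exact Subgroup.mem_normalizer_fintype h

namespace Setup

variable (S : Setup z V P κ)
include S

theorem conj_el {v s : Finset GolayPt} {g w : Equiv.Perm GolayPt} (hv : 2 ∣ v.card) (hs : 2 ∣ s.card)
    (hg : g ∈ M24) (hw : w ∈ M24) :
    P v * κ g * (P s * κ w) * (P v * κ g)⁻¹ = P ((g • s) ∆ co (g * w * g⁻¹) v) * κ (g * w * g⁻¹) := by
  rw [← S.conj_P hv (two_dvd_smul hs) (mul_mem (mul_mem hg hw) (inv_mem hg)), ← S.conj_κ hs hg hw]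
  group

/-- The elements of the normaliser of `V` normalising the group of order `2^10`. -/
theorem mem_stab (hC : Certs) {v : Finset GolayPt} {g : Equiv.Perm GolayPt} (hv : 2 ∣ v.card) (hg : g ∈ M24) :
    P v * κ g ∈ Subgroup.normalizer (S.A : Set G) ↔ g • oct = oct ∧ Evenly v := by
  constructor
  · intro h
    have hW : ∀ w ∈ Wgrp, g * w * g⁻¹ ∈ Wgrp ∧ InP (co (g * w * g⁻¹) v) := fun w hw => by
      have e := (Subgroup.mem_normalizer_iff.1 h _).1 (S.κ_mem_A hw)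
      rw [← one_mul (κ w), ← S.P_empty, S.conj_el hv (by simp) hg (mem_W.1 hw).1,
        S.el_mem_A (two_dvd_sd (by simp) (two_dvd_co hv)) (mul_mem (mul_mem hg (mem_W.1 hw).1) (inv_mem hg)),
        Finset.smul_finset_empty, sd_empty_left] at e
      exact ⟨e.2, e.1⟩
    have hinv : ∀ w ∈ Wgrp, g⁻¹ * w * g ∈ Wgrp := fun w hw => by
      let f : ↥Wgrp → ↥Wgrp := fun x => ⟨g * x.1 * g⁻¹, (hW x.1 x.2).1⟩
      have hf : Function.Injective f := fun a b e => Subtype.ext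
        (mul_left_cancel (mul_right_cancel (congrArg Subtype.val e)))
      obtain ⟨x, hx⟩ := (Finite.injective_iff_surjective.1 hf) ⟨w, hw⟩
      rw [show w = g * x.1 * g⁻¹ from (congrArg Subtype.val hx).symm]
      simpa [mul_assoc] using x.2
    refine ⟨octStab_of_conj hC hinv, hv, (hC.evenly v hv).1 fun w hw => ?_⟩
    have := (hW _ (hinv w hw)).2
    simpa [mul_assoc] using this
  · rintro ⟨ho, hev⟩
    refine normalizer_of_conj ?_
    rintro _ ⟨t, ht, ht2, w, hw, rfl⟩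
    have hw' := W_conj hg ho hw
    rw [S.conj_el hv ht2 hg (mem_W.1 hw).1,
      S.el_mem_A (two_dvd_sd (two_dvd_smul ht2) (two_dvd_co hv)) (mem_W.1 hw').1]
    refine ⟨InP.add (inP_of_subset ?_ (two_dvd_smul ht2)) ((hC.evenly v hv).2 hev.2 _ hw'), hw'⟩
    rw [← ho]
    exact Finset.smul_finset_subset_smul_finset ht

/-- The vectors meeting the octad evenly. -/
def V₀ : Subgroup G where
  carrier := {x | ∃ v, Evenly v ∧ x = P v}
  one_mem' := ⟨∅, evenly_empty, S.P_empty.symm⟩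
  mul_mem' := by
    rintro _ _ ⟨a, ha, rfl⟩ ⟨b, hb, rfl⟩
    exact ⟨a ∆ b, evenly_sd ha hb, (S.mul a b ha.1 hb.1).symm⟩
  inv_mem' := by
    rintro _ ⟨a, ha, rfl⟩
    exact ⟨a, ha, S.P_inv ha.1⟩

theorem V₀_card (hC : Certs) : Nat.card ↥(S.V₀) = 2 ^ 10 := by
  classical
  obtain ⟨p, hp⟩ := exists_pt
  obtain ⟨x, hx⟩ := Finset.card_pos.1 (show 0 < octᶜ.card by
    rw [Finset.card_compl, oct_card]; decide +kernel)
  rw [Finset.mem_compl] at hx
  have hpx : p ≠ x := fun e => hx (e ▸ hp)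
  set e : Finset GolayPt := {p, x}
  have he : 2 ∣ e.card := by rw [Finset.card_pair hpx]
  have hei : (e ∩ oct).card = 1 := by
    rw [show e ∩ oct = {p} by
      ext y
      simp only [e, Finset.mem_inter, Finset.mem_insert, Finset.mem_singleton]
      exact ⟨fun h => h.1.resolve_right fun h' => hx (h' ▸ h.2), fun h => ⟨.inl h, h ▸ hp⟩⟩]
    rfl
  have hle : S.V₀ ≤ V := by
    rintro _ ⟨v, hv, rfl⟩
    exact S.mem v hv.1
  have hrel : (S.V₀.subgroupOf V).index = 2 := by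
    rw [Subgroup.index_eq_two_iff]
    refine ⟨⟨P e, S.mem e he⟩, fun b => ?_⟩
    obtain ⟨v, hv, hbv⟩ := S.surj _ b.2
    have key : ∀ a : Finset GolayPt, 2 ∣ a.card → (P a ∈ S.V₀ ↔ 2 ∣ (a ∩ oct).card) := fun a ha => by
      constructor
      · rintro ⟨v', hv', h⟩
        exact ((evenly_congr hC ha hv'.1 ((S.P_eq_iff ha hv'.1).1 h)).2 hv').2
      · exact fun h => ⟨a, ⟨ha, h⟩, rfl⟩
    have hpar : 2 ∣ ((v ∆ e) ∩ oct).card ↔ ¬ 2 ∣ (v ∩ oct).card := by
      have e1 : (v ∆ e) ∩ oct = (v ∩ oct) ∆ (e ∩ oct) := by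
        ext y
        simp only [Finset.mem_inter, Finset.mem_symmDiff]
        tauto
      have h1 := card_symmDiff_add (v ∩ oct) (e ∩ oct)
      rw [hei] at h1
      rw [e1]
      omega
    have e1 : ((b * ⟨P e, S.mem e he⟩ : ↥V) : G) = P (v ∆ e) := by
      rw [S.mul v e hv he, hbv]; rfl
    rw [xor_def, Subgroup.mem_subgroupOf, Subgroup.mem_subgroupOf, e1, ← hbv, key _ hv, key _ (two_dvd_sd hv he), hpar]
    tauto
  have h1 := (S.V₀.subgroupOf V).card_mul_index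
  rw [hrel, S.card, Nat.card_congr (Subgroup.subgroupOfEquivOfLe hle).toEquiv] at h1
  omega

theorem stab_card (hC : Certs) :
    Nat.card ↥(Subgroup.normalizer (S.A : Set G) ⊓ Subgroup.normalizer (V : Set G)) = 2 ^ 14 * 20160 := by
  classical
  let f : ↥(S.V₀) × ↥(M24Cert.octStab oct) →
      ↥(Subgroup.normalizer (S.A : Set G) ⊓ Subgroup.normalizer (V : Set G)) := fun x =>
    ⟨x.1.1 * κ x.2.1, by
      obtain ⟨v, hv, e⟩ := x.1.2
      obtain ⟨hg, ho⟩ := M24Cert.mem_octStab.1 x.2.2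
      rw [e]
      exact ⟨(S.mem_stab hC hv.1 hg).2 ⟨ho, hv⟩, S.el_mem hv.1 hg⟩⟩
  have hf : Function.Bijective f := by
    constructor
    · rintro ⟨⟨_, v, hv, rfl⟩, ⟨g, hg⟩⟩ ⟨⟨_, v', hv', rfl⟩, ⟨g', hg'⟩⟩ e
      obtain ⟨h1, h2⟩ := S.el_inj hv.1 hv'.1 (M24Cert.mem_octStab.1 hg).1 (M24Cert.mem_octStab.1 hg').1
        (congrArg Subtype.val e)
      subst h1
      simp only [(S.P_eq_iff hv.1 hv'.1).2 h2]
    · rintro ⟨x, hxA, hxV⟩
      obtain ⟨v, hv, g, hg, rfl⟩ := S.split x hxV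
      obtain ⟨ho, hev⟩ := (S.mem_stab hC hv hg).1 hxA
      exact ⟨⟨⟨_, v, hev, rfl⟩, ⟨g, M24Cert.mem_octStab.2 ⟨hg, ho⟩⟩⟩, rfl⟩
  rw [← Nat.card_congr (Equiv.ofBijective f hf), Nat.card_prod, S.V₀_card hC, M24Cert.card_octStab oct_mem]
  norm_num

end Setup

end CfsgLib.JankoFour.TwoTen
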