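import Cfsg.Agent.Lib.JankoFour.TwoTen.Orbits
import Cfsg.Agent.Lib.JankoFour.TwoTen.Klein

/-!
# Coordinates of the group of order `2^10` in the exterior square
-/

set_option autoImplicit false
set_option linter.unusedSectionVars false
set_option maxRecDepth 20000

namespace CfsgLib.JankoFour.TwoTen

open Cfsg CfsgLib.Golay
open scoped symmDiff Pointwise

/-- A combination of four permutations. -/
def wel (w : Fin 4 → Equiv.Perm GolayPt) (a : ℕ) : Equiv.Perm GolayPt :=
  (if a.testBit 0 then w 0 else 1) * (if a.testBit 1 then w 1 else 1) *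
    (if a.testBit 2 then w 2 else 1) * (if a.testBit 3 then w 3 else 1)

/-- A combination of four vectors. -/
def uel (u : Fin 4 → Finset GolayPt) (b : ℕ) : Finset GolayPt :=
  (if b.testBit 0 then u 0 else ∅) ∆ (if b.testBit 1 then u 1 else ∅) ∆
    (if b.testBit 2 then u 2 else ∅) ∆ (if b.testBit 3 then u 3 else ∅)

/-- A combination of the six commutators. -/
def cel (w : Fin 4 → Equiv.Perm GolayPt) (u : Fin 4 → Finset GolayPt) (c : ℕ) : Finset GolayPt :=
  (if c.testBit 0 then co (w 0) (u 1) else ∅) ∆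
    (if c.testBit 1 then co (w 0) (u 2) else ∅) ∆ (if c.testBit 2 then co (w 0) (u 3) else ∅) ∆
    (if c.testBit 3 then co (w 1) (u 2) else ∅) ∆ (if c.testBit 4 then co (w 1) (u 3) else ∅) ∆
    (if c.testBit 5 then co (w 2) (u 3) else ∅)

theorem ite_bne_sd {α : Type*} [DecidableEq α] (a b : Bool) (s : Finset α) :
    (if (a ^^ b) then s else ∅) = (if a then s else ∅) ∆ (if b then s else ∅) := by
  cases a <;> cases b <;> simp [← Finset.bot_eq_empty]

theorem uel_xor (u : Fin 4 → Finset GolayPt) (a b : ℕ) : uel u (a ^^^ b) = uel u a ∆ uel u b := by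
  simp only [uel, Nat.testBit_xor, ite_bne_sd]
  ac_rfl

theorem cel_xor (w : Fin 4 → Equiv.Perm GolayPt) (u : Fin 4 → Finset GolayPt) (a b : ℕ) :
    cel w u (a ^^^ b) = cel w u a ∆ cel w u b := by
  simp only [cel, Nat.testBit_xor, ite_bne_sd]
  ac_rfl

theorem cel_high (w : Fin 4 → Equiv.Perm GolayPt) (u : Fin 4 → Finset GolayPt) (c a : ℕ) :
    cel w u (c + 64 * a) = cel w u c := by
  have h : ∀ k < 6, (c + 64 * a).testBit k = c.testBit k := fun k hk => by
    have e : (c + 64 * a) % 2 ^ 6 = c % 2 ^ 6 := by omega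
    have := congrArg (fun n => Nat.testBit n k) e
    simp only [Nat.testBit_mod_two_pow, hk, decide_true, Bool.true_and] at this
    exact this
  simp only [cel, h 0 (by norm_num), h 1 (by norm_num), h 2 (by norm_num), h 3 (by norm_num), h 4 (by norm_num),
    h 5 (by norm_num)]

theorem bits4 : ∀ e : Fin 4 → Bool, ∃ a < 16, ∀ i : Fin 4, Nat.testBit a i = e i := by decide +kernel

theorem bits6 : ∀ e : Fin 6 → Bool, ∃ c < 64, ∀ i : Fin 6, Nat.testBit c i = e i := by decide +kernel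

theorem split_bits : ∀ a < 16, a = (if a.testBit 0 then 1 else 0) ^^^ (if a.testBit 1 then 2 else 0) ^^^
    (if a.testBit 2 then 4 else 0) ^^^ (if a.testBit 3 then 8 else 0) := by decide +kernel

theorem wd_bilinear : ∀ a < 16, ∀ a' < 16, ∀ b < 16,
    Klein.wd (a ^^^ a') b = Klein.wd a b ^^^ Klein.wd a' b ∧ Klein.wd b (a ^^^ a') = Klein.wd b a ^^^ Klein.wd b a' ∧
      Klein.wd a b < 64 := by decide +kernel

theorem bilinear_eq {M : Type*} [Group M] {F F' : ℕ → ℕ → M}
    (h1 : ∀ a < 16, ∀ a' < 16, ∀ b < 16, F (a ^^^ a') b = F a b * F a' b)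
    (h1' : ∀ a < 16, ∀ a' < 16, ∀ b < 16, F' (a ^^^ a') b = F' a b * F' a' b)
    (h2 : ∀ a < 16, ∀ b < 16, ∀ b' < 16, F a (b ^^^ b') = F a b * F a b')
    (h2' : ∀ a < 16, ∀ b < 16, ∀ b' < 16, F' a (b ^^^ b') = F' a b * F' a b')
    (hb : ∀ i < 4, ∀ j < 4, F (2 ^ i) (2 ^ j) = F' (2 ^ i) (2 ^ j)) {a b : ℕ} (ha : a < 16) (hb' : b < 16) :
    F a b = F' a b := by
  have z : ∀ G₀ : ℕ → ℕ → M, (∀ a < 16, ∀ a' < 16, ∀ b < 16, G₀ (a ^^^ a') b = G₀ a b * G₀ a' b) →
      ∀ b < 16, G₀ 0 b = 1 := fun G₀ h b hb => by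
    have := h 0 (by norm_num) 0 (by norm_num) b hb
    simpa using this
  have z' : ∀ G₀ : ℕ → ℕ → M, (∀ a < 16, ∀ b < 16, ∀ b' < 16, G₀ a (b ^^^ b') = G₀ a b * G₀ a b') →
      ∀ a < 16, G₀ a 0 = 1 := fun G₀ h a ha => by
    have := h a ha 0 (by norm_num) 0 (by norm_num)
    simpa using this
  have hx : ∀ x y, x < 16 → y < 16 → x ^^^ y < 16 := fun x y h h' => Nat.xor_lt_two_pow (n := 4) h h'
  have key : ∀ f f' : ℕ → M, (∀ x < 16, ∀ y < 16, f (x ^^^ y) = f x * f y) →
      (∀ x < 16, ∀ y < 16, f' (x ^^^ y) = f' x * f' y) → (∀ i < 4, f (2 ^ i) = f' (2 ^ i)) → ∀ x < 16, f x = f' x := by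
    intro f f' hf hf' hi x hx'
    have h0 : f 0 = f' 0 := by
      have e := hf 0 (by norm_num) 0 (by norm_num)
      have e' := hf' 0 (by norm_num) 0 (by norm_num)
      simp only [Nat.xor_self, left_eq_mul] at e e'
      rw [e, e']
    have hit : ∀ (c : Bool) (i : ℕ), i < 4 → f (if c then 2 ^ i else 0) = f' (if c then 2 ^ i else 0) ∧
        (if c then 2 ^ i else 0) < 16 := fun c i hi' => by
      cases c
      · exact ⟨h0, by norm_num⟩
      · exact ⟨hi i hi', lt_of_le_of_lt (Nat.pow_le_pow_right (by norm_num) (show i ≤ 3 by omega)) (by norm_num)⟩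
    obtain ⟨a0, b0⟩ := hit (x.testBit 0) 0 (by norm_num)
    obtain ⟨a1, b1⟩ := hit (x.testBit 1) 1 (by norm_num)
    obtain ⟨a2, b2⟩ := hit (x.testBit 2) 2 (by norm_num)
    obtain ⟨a3, b3⟩ := hit (x.testBit 3) 3 (by norm_num)
    simp only [pow_zero, pow_one, show (2 : ℕ) ^ 2 = 4 from rfl, show (2 : ℕ) ^ 3 = 8 from rfl] at *
    rw [split_bits x hx', hf _ (hx _ _ (hx _ _ b0 b1) b2) _ b3, hf _ (hx _ _ b0 b1) _ b2, hf _ b0 _ b1,
      hf' _ (hx _ _ (hx _ _ b0 b1) b2) _ b3, hf' _ (hx _ _ b0 b1) _ b2, hf' _ b0 _ b1, a0, a1, a2, a3]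
  refine key (fun x => F x b) (fun x => F' x b) (fun x hx y hy => h1 x hx y hy b hb')
    (fun x hx y hy => h1' x hx y hy b hb') (fun i hi => ?_) a ha
  have h16 : 2 ^ i < 16 := Nat.pow_lt_pow_right (show 1 < 2 by norm_num) hi
  exact key (F (2 ^ i)) (F' (2 ^ i)) (h2 _ h16) (h2' _ h16) (hb i hi) b hb'

variable {G : Type*} [Group G] [Finite G] {z : G} {V : Subgroup G} {P : Finset GolayPt → G}
  {κ : Equiv.Perm GolayPt → G}

namespace Setup

variable (S : Setup z V P κ)
include S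

theorem pair_or_quad {r : Finset GolayPt} (hr : r ∈ reps) (h1 : P r ≠ 1) :
    ∃ s ⊆ oct, (s.card = 2 ∨ s.card = 4) ∧ P r = P s := by
  obtain ⟨hr1, hp, hr2⟩ := mem_reps.1 hr
  have h7 := Finset.card_le_card (Finset.subset_erase.2 ⟨hr1, hp⟩)
  rw [Finset.card_erase_of_mem p₀_mem, oct_card] at h7
  rcases (show r.card = 0 ∨ r.card = 2 ∨ r.card = 4 ∨ r.card = 6 by omega) with h | h | h | h
  · rw [Finset.card_eq_zero.1 h, S.P_empty] at h1
    exact absurd rfl h1
  · exact ⟨r, hr1, .inl h, rfl⟩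
  · exact ⟨r, hr1, .inr h, rfl⟩
  · have hc : (oct \ r).card = 2 := by rw [Finset.card_sdiff_of_subset hr1, oct_card, h]
    refine ⟨oct \ r, Finset.sdiff_subset, .inl hc, (S.P_eq_iff hr2 (by rw [hc])).2 ?_⟩
    rw [Eqv, show r ∆ (oct \ r) = oct by
      rw [← symmDiff_of_ge hr1, symmDiff_comm oct r, ← symmDiff_assoc, symmDiff_self]; exact bot_symmDiff _]
    exact oct_mem.1

theorem P_smul_inP {k : Equiv.Perm GolayPt} (hk : k ∈ Wgrp) {t : Finset GolayPt} (ht : 2 ∣ t.card) (hin : InP t) :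
    P (k • t) = P t := by
  refine (S.P_eq_iff (two_dvd_smul ht) ht).2 (eqv_iff_sd.2 ?_)
  rw [symmDiff_comm]
  exact co_inP hk hin

theorem co_mul {k l : Equiv.Perm GolayPt} (hk : k ∈ Wgrp) (hl : l ∈ Wgrp) (hC : Certs) {v : Finset GolayPt}
    (hv : Evenly v) : P (co (k * l) v) = P (co k v) * P (co l v) := by
  have e : co (k * l) v = co k v ∆ (k • co l v) := by
    rw [co, co, co, Finset.smul_finset_symmDiff, mul_smul, sd_mid]
  rw [e, S.mul _ _ (two_dvd_co hv.1) (two_dvd_smul (two_dvd_co hv.1)),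
    S.P_smul_inP hk (two_dvd_co hv.1) ((hC.evenly v hv.1).2 hv.2 l hl)]

/-- The coordinates. -/
theorem exists_psi (hC : Certs) {p q : GolayPt} (hp : p ∈ oct) (hq : q ∈ oct) (hpq : p ≠ q)
    {Q₄ : Finset GolayPt} (hQ : Q₄ ⊆ oct) (hQ4 : Q₄.card = 4) :
    ∃ ψ : ℕ → G, (∀ x y, ψ (x ^^^ y) = ψ x * ψ y) ∧ (∀ x, ψ x ∈ S.A) ∧ (∀ a ∈ S.A, ∃ x < 1024, ψ x = a) ∧
      (∀ x < 1024, ∀ y < 1024, ψ x = ψ y → x = y) ∧
      ∀ x < 1024, (ψ x ∈ orbN S.A (P Q₄) ↔ Klein.dec x = true) := by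
  classical
  obtain ⟨-, -, -, hunion, hlow⟩ := S.orbits hC hp hq hpq hQ hQ4
  obtain ⟨w, u, hw, hu, hgen, hsym, hdiag, hred, hspan⟩ := hC.coords
  have hwW : ∀ a, wel w a ∈ Wgrp := fun a => by
    refine mul_mem (mul_mem (mul_mem ?_ ?_) ?_) ?_ <;> split <;> first | exact hw _ | exact one_mem _
  have huE : ∀ b, Evenly (uel u b) := fun b => by
    refine evenly_sd (evenly_sd (evenly_sd ?_ ?_) ?_) ?_ <;> split <;> first | exact hu _ | exact evenly_empty
  have hwx : ∀ a b, wel w (a ^^^ b) = wel w a * wel w b := by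
    intro a b
    letI : CommGroup ↥Wgrp := { (inferInstance : Group ↥Wgrp) with
      mul_comm := fun x y => Subtype.ext (W_comm x.2 y.2) }
    let w' : Fin 4 → ↥Wgrp := fun i => ⟨w i, hw i⟩
    let f : ℕ → ↥Wgrp := fun c => (if c.testBit 0 then w' 0 else 1) * (if c.testBit 1 then w' 1 else 1) *
      (if c.testBit 2 then w' 2 else 1) * (if c.testBit 3 then w' 3 else 1)
    have hf : ∀ c, (f c : Equiv.Perm GolayPt) = wel w c := fun c => by
      simp only [f, wel, Subgroup.coe_mul, apply_ite Subtype.val, OneMemClass.coe_one]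
      rfl
    have hsq : ∀ (c d : Bool) (x : ↥Wgrp), (if (c ^^ d) then x else 1) = (if c then x else 1) * (if d then x else 1) := by
      intro c d x
      have : x * x = 1 := Subtype.ext (W_sq x.2)
      cases c <;> cases d <;> simp [this]
    rw [← hf, ← hf, ← hf, ← Subgroup.coe_mul]
    congr 1
    simp only [f, Nat.testBit_xor, hsq]
    ac_rfl
  have hcI : ∀ c, InP (cel w u c) ∧ 2 ∣ (cel w u c).card := fun c => by
    have h1 : ∀ (e : Bool) (i j : Fin 4), InP (if e then co (w i) (u j) else ∅) ∧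
        2 ∣ (if e then co (w i) (u j) else ∅).card := fun e i j => by
      cases e
      · exact ⟨inP_empty, by simp⟩
      · exact ⟨(hC.evenly _ (hu j).1).2 (hu j).2 _ (hw i), two_dvd_co (hu j).1⟩
    exact ⟨((((h1 _ 0 1).1.add (h1 _ 0 2).1).add (h1 _ 0 3).1).add (h1 _ 1 2).1).add (h1 _ 1 3).1 |>.add (h1 _ 2 3).1,
      two_dvd_sd (two_dvd_sd (two_dvd_sd (two_dvd_sd (two_dvd_sd (h1 _ 0 1).2 (h1 _ 0 2).2) (h1 _ 0 3).2)
        (h1 _ 1 2).2) (h1 _ 1 3).2) (h1 _ 2 3).2⟩
  let ψ : ℕ → G := fun x => P (cel w u x) * κ (wel w (x >>> 6))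
  have hxor : ∀ x y, ψ (x ^^^ y) = ψ x * ψ y := fun x y => by
    show P (cel w u (x ^^^ y)) * κ (wel w ((x ^^^ y) >>> 6)) = _
    rw [S.mul_el (hcI x).2 (hcI y).2 (mem_W.1 (hwW _)).1 (mem_W.1 (hwW _)).1,
      S.mul _ _ (hcI x).2 (two_dvd_smul (hcI y).2), S.P_smul_inP (hwW _) (hcI y).2 (hcI y).1,
      ← S.mul _ _ (hcI x).2 (hcI y).2, ← cel_xor, ← hwx, ← Nat.shiftRight_xor_distrib]
  have hmem : ∀ x, ψ x ∈ S.A := fun x => (S.el_mem_A (hcI x).2 (mem_W.1 (hwW _)).1).2 ⟨(hcI x).1, hwW _⟩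
  have hsurj : ∀ a ∈ S.A, ∃ x < 1024, ψ x = a := by
    rintro _ ⟨t, ht, ht2, k, hk, rfl⟩
    obtain ⟨e, he⟩ := hgen k hk
    obtain ⟨a, ha, hae⟩ := bits4 e
    obtain ⟨e', he'⟩ := hspan t ht ht2
    obtain ⟨c, hc, hce⟩ := bits6 e'
    refine ⟨c + 64 * a, by omega, ?_⟩
    have h6 : (c + 64 * a) >>> 6 = a := by rw [Nat.shiftRight_eq_div_pow]; omega
    show P (cel w u (c + 64 * a)) * κ (wel w ((c + 64 * a) >>> 6)) = _
    rw [h6, cel_high]
    congr 1
    · refine (S.P_eq_iff (hcI c).2 ht2).2 (Eqv.symm ?_)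
      simp only [cel]
      rw [show c.testBit 0 = e' 0 from hce 0, show c.testBit 1 = e' 1 from hce 1, show c.testBit 2 = e' 2 from hce 2,
        show c.testBit 3 = e' 3 from hce 3, show c.testBit 4 = e' 4 from hce 4, show c.testBit 5 = e' 5 from hce 5]
      exact he'
    · congr 1
      simp only [wel]
      rw [show a.testBit 0 = e 0 from hae 0, show a.testBit 1 = e 1 from hae 1, show a.testBit 2 = e 2 from hae 2,
        show a.testBit 3 = e 3 from hae 3]
      exact he.symm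
  have hinj : ∀ x < 1024, ∀ y < 1024, ψ x = ψ y → x = y := by
    have hi : Set.InjOn ψ ↑(Finset.range 1024) := by
      refine Finset.injOn_of_card_image_eq ?_
      rw [← Set.ncard_coe_finset, Finset.coe_image, show ψ '' ↑(Finset.range 1024) = (S.A : Set G) from
        Set.ext fun a => ⟨fun ⟨x, _, e⟩ => e ▸ hmem x, fun ha => by
          obtain ⟨x, hx, e⟩ := hsurj a ha
          exact ⟨x, Finset.mem_coe.2 (Finset.mem_range.2 hx), e⟩⟩, ← Nat.card_coe_set_eq]
      simp only [SetLike.coe_sort_coe, S.A_card, Finset.card_range]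
      norm_num
    exact fun x hx y hy e => hi (Finset.mem_coe.2 (Finset.mem_range.2 hx)) (Finset.mem_coe.2 (Finset.mem_range.2 hy)) e
  have hψc : ∀ c < 64, ψ c = P (cel w u c) := fun c hc => by
    have h6 : c >>> 6 = 0 := by rw [Nat.shiftRight_eq_div_pow]; omega
    show P (cel w u c) * κ (wel w (c >>> 6)) = _
    rw [h6, show wel w 0 = 1 by simp [wel], S.κ_one, mul_one]
  -- the commutators
  have hcom : ∀ a < 16, ∀ b < 16, P (co (wel w a) (uel u b)) = ψ (Klein.wd a b) := by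
    intro a ha b hb
    refine bilinear_eq (F := fun a b => P (co (wel w a) (uel u b))) (F' := fun a b => ψ (Klein.wd a b))
      ?_ ?_ ?_ ?_ ?_ ha hb
    · intro a _ a' _ b _
      show P (co (wel w (a ^^^ a')) (uel u b)) = _
      rw [hwx, S.co_mul (hwW _) (hwW _) hC (huE b)]
    · intro a ha a' ha' b hb
      show ψ (Klein.wd (a ^^^ a') b) = _
      rw [(wd_bilinear a ha a' ha' b hb).1, hxor]
    · intro a _ b _ b' _
      show P (co (wel w a) (uel u (b ^^^ b'))) = _
      rw [uel_xor, co_add, S.mul _ _ (two_dvd_co (huE b).1) (two_dvd_co (huE b').1)]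
    · intro a ha b hb b' hb'
      show ψ (Klein.wd a (b ^^^ b')) = _
      rw [(wd_bilinear b hb b' hb' a ha).2.1, hxor]
    · have wel1 : wel w 1 = w 0 := by simp [wel, Nat.testBit]
      have wel2 : wel w 2 = w 1 := by simp [wel, Nat.testBit]
      have wel4 : wel w 4 = w 2 := by simp [wel, Nat.testBit]
      have wel8 : wel w 8 = w 3 := by simp [wel, Nat.testBit]
      have uel1 : uel u 1 = u 0 := by simp [uel, Nat.testBit, sd_empty_right, sd_empty_left]
      have uel2 : uel u 2 = u 1 := by simp [uel, Nat.testBit, sd_empty_right, sd_empty_left]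
      have uel4 : uel u 4 = u 2 := by simp [uel, Nat.testBit, sd_empty_right, sd_empty_left]
      have uel8 : uel u 8 = u 3 := by simp [uel, Nat.testBit, sd_empty_right, sd_empty_left]
      have d0 : ∀ i : Fin 4, P (co (w i) (u i)) = ψ 0 := fun i => by
        rw [hψc 0 (by norm_num), S.P_eq_iff (two_dvd_co (hu i).1) (hcI 0).2]
        exact (hdiag i).trans (Eqv.of_eq (by simp [cel, sd_empty_right]))
      have sy : ∀ i j : Fin 4, ∀ x, P (co (w i) (u j)) = x → P (co (w j) (u i)) = x := fun i j x h => by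
        rw [← h, S.P_eq_iff (two_dvd_co (hu i).1) (two_dvd_co (hu j).1)]
        exact hsym j i
      have e01 : P (co (w 0) (u 1)) = ψ 1 := by
        rw [hψc 1 (by norm_num)]; simp [cel, Nat.testBit, sd_empty_right, sd_empty_left]
      have e02 : P (co (w 0) (u 2)) = ψ 2 := by
        rw [hψc 2 (by norm_num)]; simp [cel, Nat.testBit, sd_empty_right, sd_empty_left]
      have e03 : P (co (w 0) (u 3)) = ψ 4 := by
        rw [hψc 4 (by norm_num)]; simp [cel, Nat.testBit, sd_empty_right, sd_empty_left]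
      have e12 : P (co (w 1) (u 2)) = ψ 8 := by
        rw [hψc 8 (by norm_num)]; simp [cel, Nat.testBit, sd_empty_right, sd_empty_left]
      have e13 : P (co (w 1) (u 3)) = ψ 16 := by
        rw [hψc 16 (by norm_num)]; simp [cel, Nat.testBit, sd_empty_right, sd_empty_left]
      have e23 : P (co (w 2) (u 3)) = ψ 32 := by
        rw [hψc 32 (by norm_num)]; simp [cel, Nat.testBit, sd_empty_right, sd_empty_left]
      intro i hi j hj
      show P (co (wel w (2 ^ i)) (uel u (2 ^ j))) = ψ (Klein.wd (2 ^ i) (2 ^ j))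
      have hval : Klein.wd (2 ^ i) (2 ^ j) =
          ([[0, 1, 2, 4], [1, 0, 8, 16], [2, 8, 0, 32], [4, 16, 32, 0]].getD i []).getD j 0 := by
        have : ∀ i < 4, ∀ j < 4, Klein.wd (2 ^ i) (2 ^ j) =
          ([[0, 1, 2, 4], [1, 0, 8, 16], [2, 8, 0, 32], [4, 16, 32, 0]].getD i []).getD j 0 := by decide +kernel
        exact this i hi j hj
      rw [hval]
      rcases (show i = 0 ∨ i = 1 ∨ i = 2 ∨ i = 3 by omega) with rfl | rfl | rfl | rfl <;>
        rcases (show j = 0 ∨ j = 1 ∨ j = 2 ∨ j = 3 by omega) with rfl | rfl | rfl | rfl <;>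
        norm_num <;> simp only [wel1, wel2, wel4, wel8, uel1, uel2, uel4, uel8] <;>
        first | exact d0 _ | exact e01 | exact e02 | exact e03 | exact e12 | exact e13 | exact e23 | exact sy _ _ _ e01 | exact sy _ _ _ e02 | exact sy _ _ _ e03 | exact sy _ _ _ e12 | exact sy _ _ _ e13 | exact sy _ _ _ e23
  have hredP : ∀ k ∈ Wgrp, ∀ v, Evenly v → ∃ b < 16, P (co k v) = P (co k (uel u b)) := by
    intro k hk v hv
    obtain ⟨e, he⟩ := hred v hv
    obtain ⟨b, hb, hbe⟩ := bits4 e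
    refine ⟨b, hb, (S.P_eq_iff (two_dvd_co hv.1) (two_dvd_co (huE b).1)).2 (eqv_iff_sd.2 ?_)⟩
    rw [← co_add]
    refine co_inP hk ?_
    simp only [uel]
    rw [show b.testBit 0 = e 0 from hbe 0, show b.testBit 1 = e 1 from hbe 1, show b.testBit 2 = e 2 from hbe 2,
      show b.testBit 3 = e 3 from hbe 3, ← symmDiff_assoc, ← symmDiff_assoc, ← symmDiff_assoc]
    exact he
  -- the part inside `V`
  have hN' : ∀ g ∈ M24, g • oct = oct → κ g ∈ Subgroup.normalizer (S.A : Set G) := fun g hg ho => by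
    rw [← one_mul (κ g), ← S.P_empty]
    exact (S.mem_stab hC (by simp) hg).2 ⟨ho, evenly_empty⟩
  let DS : Finset ℕ := (Finset.range 64).filter fun c => Klein.dec c = true
  have hDS : DS.card = 35 := by decide +kernel
  have hfour : ∀ a < 16, ∀ c < 64,
      ((a = 0 → (Klein.dec c = true ↔ ∃ a' < 16, ∃ b' < 16, c = Klein.wd a' b' ∧ c ≠ 0)) ∧
      (a ≠ 0 → (Klein.dec (c + 64 * a) = true ↔ ∃ b' < 16, c = Klein.wd a b'))) := by
    intro a ha c hc
    have h := List.all_eq_true.1 (List.all_eq_true.1 Klein.wd_four a (List.mem_range.2 ha)) c (List.mem_range.2 hc)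
    constructor
    · intro h0
      simp only [h0, beq_self_eq_true, Bool.true_and, bne_self_eq_false, Bool.false_and, Bool.or_false,
        beq_iff_eq] at h
      rw [h]
      simp [List.any_eq_true, bne_iff_ne]
    · intro h0
      simp only [beq_eq_false_iff_ne.2 h0, Bool.false_and, Bool.false_or, bne_iff_ne, ne_eq, h0, not_false_eq_true,
        Bool.and_eq_true, true_and, beq_iff_eq] at h
      rw [h]
      simp [List.any_eq_true]
  let D : Set G := {x | x ≠ 1 ∧ ∃ k ∈ Wgrp, ∃ v, Evenly v ∧ x = P (co k v)}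
  have hψ0 : ψ 0 = 1 := by rw [hψc 0 (by norm_num)]; simp [cel, S.P_empty, sd_empty_right]
  have hDψ : ∀ c < 64, (ψ c ∈ D ↔ c ∈ DS) := by
    intro c hc
    simp only [DS, Finset.mem_filter, Finset.mem_range, hc, true_and]
    rw [(hfour 0 (by norm_num) c hc).1 rfl]
    constructor
    · rintro ⟨h1, k, hk, v, hv, e⟩
      obtain ⟨e4, he4⟩ := hgen k hk
      obtain ⟨a, ha, hae⟩ := bits4 e4
      have hka : k = wel w a := by
        rw [he4]
        simp only [wel]
        rw [show a.testBit 0 = e4 0 from hae 0, show a.testBit 1 = e4 1 from hae 1, show a.testBit 2 = e4 2 from hae 2,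
          show a.testBit 3 = e4 3 from hae 3]
      obtain ⟨b, hb, e'⟩ := hredP k hk v hv
      subst hka
      rw [e', hcom a ha b hb] at e
      exact ⟨a, ha, b, hb, hinj _ (by omega) _ (by have := (wd_bilinear a ha a ha b hb).2.2; omega) e,
        fun h => h1 (h ▸ hψ0)⟩
    · rintro ⟨a, ha, b, hb, e, h0⟩
      refine ⟨fun h => h0 (hinj c (by omega) 0 (by norm_num) (h.trans hψ0.symm)), wel w a, hwW a, uel u b, huE b, ?_⟩
      rw [e, hcom a ha b hb]
  have hclass : ∀ c < 64, c ≠ 0 → ∃ s ⊆ oct, (s.card = 2 ∨ s.card = 4) ∧ ψ c = P s := by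
    intro c hc h0
    obtain ⟨t, ht, ht2, e⟩ := (hcI c).1
    obtain ⟨r, hr, e'⟩ := reps_eqv ht ht2
    have hcr : ψ c = P r := by
      rw [hψc c hc, (S.P_eq_iff (hcI c).2 (mem_reps.1 hr).2.2).2 (e.trans e')]
    obtain ⟨s, hs, hs2, e''⟩ := S.pair_or_quad hr (hcr ▸ fun h => h0 (hinj c (by omega) 0 (by norm_num) (h.trans hψ0.symm)))
    exact ⟨s, hs, hs2, hcr.trans e''⟩
  have hmoveD : ∀ s ⊆ oct, ∀ s' ⊆ oct, s.card = s'.card → (s'.card = 2 ∨ s'.card = 4) → P s ∈ D → P s' ∈ D := by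
    rintro s hs s' hs' hcard hc ⟨h1, k, hk, v, hv, e⟩
    obtain ⟨g, hg, ho, eg⟩ := oct_move hs hs' hcard (by omega)
    have e1 : κ g * P s * (κ g)⁻¹ = P s' := by rw [S.act g hg s (by omega), eg]
    refine ⟨fun h => h1 ?_, g * k * g⁻¹, W_conj hg ho hk, g • v, ⟨two_dvd_smul hv.1, ?_⟩, ?_⟩
    · rw [h, mul_inv_eq_one] at e1
      exact mul_left_cancel (e1.trans (mul_one _).symm)
    · rw [show (g • v) ∩ oct = g • (v ∩ oct) by rw [Finset.smul_finset_inter, ho]]
      exact two_dvd_smul hv.2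
    · rw [← e1, e, co_conj, S.act g hg _ (two_dvd_co hv.1)]
  have hnopair : ∀ s ⊆ oct, s.card = 2 → P s ∉ D := by
    intro s hs hs2 hsD
    by_cases hq4 : ∃ s' ⊆ oct, s'.card = 4 ∧ P s' ∈ D
    · obtain ⟨s', hs', hs4, hs'D⟩ := hq4
      have : (Finset.range 64).erase 0 ⊆ DS := fun c hc => by
        obtain ⟨h0, hc⟩ := Finset.mem_erase.1 hc
        rw [Finset.mem_range] at hc
        obtain ⟨r, hr, hr2, e⟩ := hclass c hc h0
        refine (hDψ c hc).1 (e ▸ ?_)
        rcases hr2 with h | h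
        · exact hmoveD s hs r hr (hs2.trans h.symm) (.inl h) hsD
        · exact hmoveD s' hs' r hr (hs4.trans h.symm) (.inr h) hs'D
      have := Finset.card_le_card this
      rw [hDS, Finset.card_erase_of_mem (Finset.mem_range.2 (by norm_num)), Finset.card_range] at this
      omega
    · have : DS.image ψ ⊆ (oct.powersetCard 2).image P := fun x hx => by
        obtain ⟨c, hc, rfl⟩ := Finset.mem_image.1 hx
        obtain ⟨hc64, hcd⟩ := Finset.mem_filter.1 hc
        rw [Finset.mem_range] at hc64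
        obtain ⟨r, hr, hr2, e⟩ := hclass c hc64 (Klein.dec_ne_zero hcd)
        rcases hr2 with h | h
        · exact Finset.mem_image.2 ⟨r, Finset.mem_powersetCard.2 ⟨hr, h⟩, e.symm⟩
        · exact absurd ⟨r, hr, h, e ▸ (hDψ c hc64).2 hc⟩ hq4
      have := (Finset.card_le_card this).trans Finset.card_image_le
      rw [Finset.card_powersetCard, oct_card, Finset.card_image_of_injOn fun a ha b hb e =>
        hinj a (by have := Finset.mem_range.1 (Finset.mem_filter.1 ha).1; omega) b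
          (by have := Finset.mem_range.1 (Finset.mem_filter.1 hb).1; omega) e, hDS] at this
      exact absurd this (by decide +kernel)
  have hquad : ∀ s ⊆ oct, s.card = 4 → P s ∈ D := by
    intro s hs hs4
    obtain ⟨c, hc⟩ := Finset.card_pos.1 (show 0 < DS.card by rw [hDS]; norm_num)
    obtain ⟨hc64, hcd⟩ := Finset.mem_filter.1 hc
    rw [Finset.mem_range] at hc64
    obtain ⟨r, hr, hr2, e⟩ := hclass c hc64 (Klein.dec_ne_zero hcd)
    have hrD : P r ∈ D := e ▸ (hDψ c hc64).2 hc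
    rcases hr2 with h | h
    · exact absurd hrD (hnopair r hr h)
    · exact hmoveD r hr s hs (h.trans hs4.symm) (.inr hs4) hrD
  have hQ2 : 2 ∣ Q₄.card := by omega
  have hlow0 : ∀ c < 64, (ψ c ∈ orbN S.A (P Q₄) ↔ Klein.dec c = true) := by
    intro c hc
    by_cases h0 : c = 0
    · subst h0
      refine iff_of_false (fun h => ?_) fun h => Klein.dec_ne_zero h rfl
      obtain ⟨n, -, e⟩ := h
      rw [hψ0] at e
      have h1 : P Q₄ = 1 := by simpa using e
      have hzc := S.quadZ Q₄ hQ4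
      rw [h1, isConj_one_left] at hzc
      have := S.ordz
      rw [hzc, orderOf_one] at this
      omega
    have hDS' : Klein.dec c = true ↔ c ∈ DS := by
      simp [DS, hc]
    rw [hDS', ← hDψ c hc]
    obtain ⟨r, hr, hr2, e⟩ := hclass c hc h0
    rw [e]
    rcases hr2 with h | h
    · refine iff_of_false (fun hx => ?_) (hnopair r hr h)
      obtain ⟨a, b, hab, rfl⟩ := Finset.card_eq_two.1 h
      obtain ⟨n, -, en⟩ := hx
      exact S.pairN a b hab ((S.quadZ Q₄ hQ4).trans (isConj_iff.2 ⟨n, en⟩))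
    · refine iff_of_true ?_ (hquad r hr h)
      obtain ⟨g, hg, ho, eg⟩ := oct_move hQ hr (by omega) (by omega)
      exact ⟨κ g, hN' g hg ho, by rw [S.act g hg _ hQ2, eg]⟩
  refine ⟨ψ, hxor, hmem, hsurj, hinj, fun x hx => ?_⟩
  obtain ⟨a, ha, c, hc, rfl⟩ : ∃ a < 16, ∃ c < 64, x = c + 64 * a := ⟨x / 64, by omega, x % 64, by omega, by omega⟩
  by_cases ha0 : a = 0
  · subst ha0
    simpa using hlow0 c hc
  rw [(hfour a ha c hc).2 ha0]
  have h6 : (c + 64 * a) >>> 6 = a := by rw [Nat.shiftRight_eq_div_pow]; omega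
  have hW1 : wel w a ≠ 1 := fun h => by
    have := hinj (64 * a) (by omega) 0 (by norm_num) (by
      rw [hψ0]
      show P (cel w u (64 * a)) * κ (wel w ((64 * a) >>> 6)) = 1
      rw [show (64 * a) >>> 6 = a by rw [Nat.shiftRight_eq_div_pow]; omega, h, S.κ_one, mul_one,
        show cel w u (64 * a) = cel w u (0 + 64 * a) by rw [Nat.zero_add], cel_high, ← hψc 0 (by norm_num), hψ0])
    omega
  obtain ⟨t, ht, ht2, et⟩ := (hcI c).1
  obtain ⟨r, hr, er⟩ := reps_eqv ht ht2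
  have hcr : Eqv (cel w u c) r := et.trans er
  have hψx : ψ (c + 64 * a) = P r * κ (wel w a) := by
    show P (cel w u (c + 64 * a)) * κ (wel w ((c + 64 * a) >>> 6)) = _
    rw [h6, cel_high, (S.P_eq_iff (hcI c).2 (mem_reps.1 hr).2.2).2 hcr]
  rw [hψx, hlow r hr _ (hwW a) hW1]
  constructor
  · rintro ⟨v, hv, e⟩
    obtain ⟨b, hb, e'⟩ := hredP _ (hwW a) v hv
    refine ⟨b, hb, hinj c (by omega) _ (by have := (wd_bilinear a ha a ha b hb).2.2; omega) ?_⟩
    rw [← hcom a ha b hb, ← e', hψc c hc]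
    exact (S.P_eq_iff (hcI c).2 (two_dvd_co hv.1)).2 (hcr.trans e.symm)
  · rintro ⟨b, hb, e⟩
    refine ⟨uel u b, huE b, ?_⟩
    refine ((S.P_eq_iff (two_dvd_co (huE b).1) (hcI c).2).1 ?_).trans hcr
    rw [hcom a ha b hb, ← e, hψc c hc]

end Setup

end CfsgLib.JankoFour.TwoTen
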